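import Mathlib.Data.Int.Notation

/-!
Literal tables for the inner products in the search for the centralizer of a scalar of order five.
-/

set_option autoImplicit false

namespace Cfsg.Agent.H56.J2Leech

/-- A minimal vector with its precomputed coordinates. -/
structure Rec where
  p : Nat × Nat
  left : List (List Int)
  right : List Int

def scanLeft : List (List (List Int)) := [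
  [[.ofNat 32,.ofNat 32,.ofNat 0,.ofNat 0,.ofNat 0,.ofNat 0,.ofNat 0,.ofNat 0], [.ofNat 0,.ofNat 16,.ofNat 16,.ofNat 16,.negSucc 15,.negSucc 31,.ofNat 0,.ofNat 0], [.negSucc 15,.negSucc 31,.ofNat 0,.ofNat 16,.negSucc 15,.negSucc 15,.ofNat 0,.ofNat 0], [.negSucc 15,.negSucc 31,.ofNat 0,.negSucc 15,.ofNat 16,.ofNat 16,.ofNat 0,.ofNat 0]],
  [[.ofNat 0,.ofNat 0,.negSucc 31,.negSucc 31,.ofNat 0,.ofNat 0,.ofNat 0,.ofNat 0], [.ofNat 16,.ofNat 16,.ofNat 0,.negSucc 15,.ofNat 0,.ofNat 0,.ofNat 16,.ofNat 32], [.ofNat 0,.ofNat 16,.ofNat 16,.ofNat 32,.ofNat 0,.ofNat 0,.ofNat 16,.ofNat 16], [.ofNat 0,.negSucc 15,.ofNat 16,.ofNat 32,.ofNat 0,.ofNat 0,.negSucc 15,.negSucc 15]],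
  [[.ofNat 0,.ofNat 0,.ofNat 0,.ofNat 0,.negSucc 31,.negSucc 31,.ofNat 0,.ofNat 0], [.negSucc 15,.negSucc 31,.ofNat 0,.ofNat 0,.ofNat 0,.negSucc 15,.ofNat 16,.ofNat 16], [.negSucc 15,.negSucc 15,.ofNat 0,.ofNat 0,.ofNat 16,.ofNat 32,.ofNat 0,.ofNat 16], [.ofNat 16,.ofNat 16,.ofNat 0,.ofNat 0,.ofNat 16,.ofNat 32,.ofNat 0,.negSucc 15]],
  [[.ofNat 0,.ofNat 0,.ofNat 0,.ofNat 0,.ofNat 0,.ofNat 0,.negSucc 31,.negSucc 31], [.ofNat 0,.ofNat 0,.negSucc 15,.negSucc 31,.negSucc 15,.negSucc 15,.ofNat 0,.negSucc 15], [.ofNat 0,.ofNat 0,.negSucc 15,.negSucc 15,.ofNat 0,.negSucc 15,.ofNat 16,.ofNat 32], [.ofNat 0,.ofNat 0,.ofNat 16,.ofNat 16,.ofNat 0,.ofNat 16,.ofNat 16,.ofNat 32]],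
  [[.ofNat 0,.ofNat 0,.ofNat 0,.ofNat 0,.ofNat 0,.ofNat 0,.ofNat 32,.ofNat 32], [.ofNat 0,.ofNat 0,.ofNat 16,.ofNat 32,.ofNat 16,.ofNat 16,.ofNat 0,.ofNat 16], [.ofNat 0,.ofNat 0,.ofNat 16,.ofNat 16,.ofNat 0,.ofNat 16,.negSucc 15,.negSucc 31], [.ofNat 0,.ofNat 0,.negSucc 15,.negSucc 15,.ofNat 0,.negSucc 15,.negSucc 15,.negSucc 31]],
  [[.ofNat 0,.ofNat 0,.ofNat 0,.ofNat 0,.ofNat 32,.ofNat 32,.ofNat 0,.ofNat 0], [.ofNat 16,.ofNat 32,.ofNat 0,.ofNat 0,.ofNat 0,.ofNat 16,.negSucc 15,.negSucc 15], [.ofNat 16,.ofNat 16,.ofNat 0,.ofNat 0,.negSucc 15,.negSucc 31,.ofNat 0,.negSucc 15], [.negSucc 15,.negSucc 15,.ofNat 0,.ofNat 0,.negSucc 15,.negSucc 31,.ofNat 0,.ofNat 16]],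
  [[.ofNat 0,.ofNat 0,.ofNat 32,.ofNat 32,.ofNat 0,.ofNat 0,.ofNat 0,.ofNat 0], [.negSucc 15,.negSucc 15,.ofNat 0,.ofNat 16,.ofNat 0,.ofNat 0,.negSucc 15,.negSucc 31], [.ofNat 0,.negSucc 15,.negSucc 15,.negSucc 31,.ofNat 0,.ofNat 0,.negSucc 15,.negSucc 15], [.ofNat 0,.ofNat 16,.negSucc 15,.negSucc 31,.ofNat 0,.ofNat 0,.ofNat 16,.ofNat 16]],
  [[.negSucc 31,.negSucc 31,.ofNat 0,.ofNat 0,.ofNat 0,.ofNat 0,.ofNat 0,.ofNat 0], [.ofNat 0,.negSucc 15,.negSucc 15,.negSucc 15,.ofNat 16,.ofNat 32,.ofNat 0,.ofNat 0], [.ofNat 16,.ofNat 32,.ofNat 0,.negSucc 15,.ofNat 16,.ofNat 16,.ofNat 0,.ofNat 0], [.ofNat 16,.ofNat 32,.ofNat 0,.ofNat 16,.negSucc 15,.negSucc 15,.ofNat 0,.ofNat 0]],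
  [[.ofNat 16,.ofNat 16,.negSucc 15,.negSucc 15,.negSucc 15,.negSucc 15,.negSucc 15,.negSucc 15], [.ofNat 0,.ofNat 0,.ofNat 0,.negSucc 15,.negSucc 15,.negSucc 31,.ofNat 16,.ofNat 16], [.negSucc 15,.negSucc 15,.ofNat 0,.ofNat 16,.ofNat 0,.ofNat 0,.ofNat 16,.ofNat 32], [.ofNat 0,.negSucc 15,.ofNat 16,.ofNat 16,.ofNat 16,.ofNat 32,.ofNat 0,.ofNat 0]],
  [[.ofNat 16,.ofNat 16,.negSucc 15,.negSucc 15,.negSucc 15,.negSucc 15,.ofNat 16,.ofNat 16], [.ofNat 0,.ofNat 0,.ofNat 16,.ofNat 16,.ofNat 0,.negSucc 15,.ofNat 16,.ofNat 32], [.negSucc 15,.negSucc 15,.ofNat 16,.ofNat 32,.ofNat 0,.ofNat 16,.ofNat 0,.ofNat 0], [.ofNat 0,.negSucc 15,.ofNat 0,.ofNat 0,.ofNat 16,.ofNat 16,.negSucc 15,.negSucc 31]],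
  [[.ofNat 16,.ofNat 16,.negSucc 15,.negSucc 15,.ofNat 16,.ofNat 16,.negSucc 15,.negSucc 15], [.ofNat 16,.ofNat 32,.ofNat 0,.negSucc 15,.negSucc 15,.negSucc 15,.ofNat 0,.ofNat 0], [.ofNat 0,.ofNat 0,.ofNat 0,.ofNat 16,.negSucc 15,.negSucc 31,.ofNat 16,.ofNat 16], [.negSucc 15,.negSucc 31,.ofNat 16,.ofNat 16,.ofNat 0,.ofNat 0,.ofNat 0,.ofNat 16]],
  [[.ofNat 16,.ofNat 16,.negSucc 15,.negSucc 15,.ofNat 16,.ofNat 16,.ofNat 16,.ofNat 16], [.ofNat 16,.ofNat 32,.ofNat 16,.ofNat 16,.ofNat 0,.ofNat 0,.ofNat 0,.ofNat 16], [.ofNat 0,.ofNat 0,.ofNat 16,.ofNat 32,.negSucc 15,.negSucc 15,.ofNat 0,.negSucc 15], [.negSucc 15,.negSucc 31,.ofNat 0,.ofNat 0,.ofNat 0,.negSucc 15,.negSucc 15,.negSucc 15]],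
  [[.ofNat 16,.ofNat 16,.ofNat 0,.ofNat 16,.ofNat 0,.ofNat 0,.negSucc 15,.negSucc 31], [.ofNat 0,.ofNat 0,.ofNat 0,.negSucc 15,.negSucc 15,.negSucc 31,.negSucc 15,.negSucc 15], [.negSucc 15,.negSucc 15,.negSucc 15,.negSucc 15,.negSucc 15,.negSucc 15,.ofNat 16,.ofNat 16], [.ofNat 0,.negSucc 15,.ofNat 0,.ofNat 0,.ofNat 16,.ofNat 16,.ofNat 16,.ofNat 32]],
  [[.ofNat 16,.ofNat 16,.ofNat 0,.ofNat 16,.ofNat 0,.ofNat 0,.ofNat 16,.ofNat 32], [.ofNat 0,.ofNat 0,.ofNat 32,.ofNat 32,.ofNat 0,.ofNat 0,.ofNat 0,.ofNat 0], [.negSucc 15,.negSucc 15,.ofNat 0,.ofNat 16,.ofNat 0,.ofNat 0,.negSucc 15,.negSucc 31], [.ofNat 0,.negSucc 15,.negSucc 15,.negSucc 31,.ofNat 0,.ofNat 0,.negSucc 15,.negSucc 15]],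
  [[.ofNat 16,.ofNat 16,.negSucc 15,.negSucc 31,.ofNat 0,.ofNat 16,.ofNat 0,.ofNat 0], [.ofNat 16,.ofNat 32,.ofNat 0,.ofNat 0,.ofNat 0,.negSucc 15,.ofNat 16,.ofNat 16], [.ofNat 0,.ofNat 0,.ofNat 16,.ofNat 32,.negSucc 15,.negSucc 15,.ofNat 0,.ofNat 16], [.negSucc 15,.negSucc 31,.ofNat 16,.ofNat 16,.ofNat 0,.ofNat 0,.ofNat 0,.negSucc 15]],
  [[.ofNat 16,.ofNat 16,.negSucc 15,.negSucc 31,.ofNat 0,.negSucc 15,.ofNat 0,.ofNat 0], [.ofNat 0,.ofNat 16,.ofNat 0,.ofNat 0,.negSucc 15,.negSucc 15,.ofNat 16,.ofNat 32], [.ofNat 0,.negSucc 15,.ofNat 16,.ofNat 32,.ofNat 0,.ofNat 0,.ofNat 16,.ofNat 16], [.negSucc 15,.negSucc 15,.ofNat 16,.ofNat 16,.ofNat 16,.ofNat 16,.negSucc 15,.negSucc 15]],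
  [[.ofNat 16,.ofNat 16,.ofNat 0,.ofNat 0,.negSucc 15,.negSucc 31,.ofNat 0,.ofNat 16], [.negSucc 15,.negSucc 15,.ofNat 16,.ofNat 16,.negSucc 15,.negSucc 15,.ofNat 16,.ofNat 16], [.negSucc 15,.negSucc 31,.ofNat 0,.ofNat 16,.ofNat 16,.ofNat 16,.ofNat 0,.ofNat 0], [.ofNat 0,.ofNat 0,.ofNat 0,.negSucc 15,.ofNat 16,.ofNat 32,.negSucc 15,.negSucc 15]],
  [[.ofNat 16,.ofNat 16,.ofNat 0,.ofNat 0,.negSucc 15,.negSucc 31,.ofNat 0,.negSucc 15], [.negSucc 15,.negSucc 15,.ofNat 0,.ofNat 0,.negSucc 15,.negSucc 31,.ofNat 0,.ofNat 16], [.negSucc 15,.negSucc 31,.ofNat 0,.ofNat 0,.ofNat 0,.ofNat 16,.ofNat 16,.ofNat 16], [.ofNat 0,.ofNat 0,.ofNat 0,.ofNat 0,.ofNat 32,.ofNat 32,.ofNat 0,.ofNat 0]],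
  [[.ofNat 16,.ofNat 16,.ofNat 0,.ofNat 0,.ofNat 16,.ofNat 32,.ofNat 0,.ofNat 16], [.ofNat 16,.ofNat 32,.ofNat 16,.ofNat 16,.ofNat 0,.ofNat 0,.ofNat 0,.negSucc 15], [.ofNat 0,.ofNat 0,.ofNat 0,.ofNat 16,.negSucc 15,.negSucc 31,.negSucc 15,.negSucc 15], [.negSucc 15,.negSucc 31,.ofNat 0,.negSucc 15,.negSucc 15,.negSucc 15,.ofNat 0,.ofNat 0]],
  [[.ofNat 16,.ofNat 16,.ofNat 0,.ofNat 0,.ofNat 16,.ofNat 32,.ofNat 0,.negSucc 15], [.ofNat 16,.ofNat 32,.ofNat 0,.ofNat 0,.ofNat 0,.negSucc 15,.negSucc 15,.negSucc 15], [.ofNat 0,.ofNat 0,.ofNat 0,.ofNat 0,.negSucc 31,.negSucc 31,.ofNat 0,.ofNat 0], [.negSucc 15,.negSucc 31,.ofNat 0,.ofNat 0,.ofNat 0,.negSucc 15,.ofNat 16,.ofNat 16]],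
  [[.ofNat 16,.ofNat 16,.ofNat 16,.ofNat 32,.ofNat 0,.ofNat 16,.ofNat 0,.ofNat 0], [.ofNat 0,.ofNat 0,.ofNat 16,.ofNat 16,.ofNat 0,.negSucc 15,.negSucc 15,.negSucc 31], [.negSucc 15,.negSucc 15,.negSucc 15,.negSucc 15,.negSucc 15,.negSucc 15,.negSucc 15,.negSucc 15], [.ofNat 0,.negSucc 15,.negSucc 15,.negSucc 31,.ofNat 0,.ofNat 0,.ofNat 16,.ofNat 16]],
  [[.ofNat 16,.ofNat 16,.ofNat 16,.ofNat 32,.ofNat 0,.negSucc 15,.ofNat 0,.ofNat 0], [.negSucc 15,.negSucc 15,.ofNat 16,.ofNat 16,.negSucc 15,.negSucc 15,.negSucc 15,.negSucc 15], [.negSucc 15,.negSucc 31,.negSucc 15,.negSucc 15,.ofNat 0,.ofNat 0,.ofNat 0,.negSucc 15], [.ofNat 0,.ofNat 0,.negSucc 15,.negSucc 31,.ofNat 16,.ofNat 16,.ofNat 0,.ofNat 16]],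
  [[.ofNat 16,.ofNat 16,.ofNat 0,.negSucc 15,.ofNat 0,.ofNat 0,.negSucc 15,.negSucc 31], [.ofNat 0,.ofNat 16,.negSucc 15,.negSucc 15,.negSucc 15,.negSucc 31,.ofNat 0,.ofNat 0], [.ofNat 0,.negSucc 15,.ofNat 0,.ofNat 0,.negSucc 15,.negSucc 15,.ofNat 16,.ofNat 32], [.negSucc 15,.negSucc 15,.ofNat 16,.ofNat 16,.ofNat 16,.ofNat 16,.ofNat 16,.ofNat 16]],
  [[.ofNat 16,.ofNat 16,.ofNat 0,.negSucc 15,.ofNat 0,.ofNat 0,.ofNat 16,.ofNat 32], [.ofNat 0,.ofNat 16,.ofNat 16,.ofNat 32,.ofNat 0,.ofNat 0,.ofNat 16,.ofNat 16], [.ofNat 0,.negSucc 15,.ofNat 16,.ofNat 32,.ofNat 0,.ofNat 0,.negSucc 15,.negSucc 15], [.negSucc 15,.negSucc 15,.ofNat 0,.negSucc 15,.ofNat 0,.ofNat 0,.negSucc 15,.negSucc 31]],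
  [[.ofNat 16,.ofNat 16,.ofNat 16,.ofNat 16,.negSucc 15,.negSucc 15,.negSucc 15,.negSucc 15], [.negSucc 15,.negSucc 15,.ofNat 0,.ofNat 0,.negSucc 15,.negSucc 31,.ofNat 0,.negSucc 15], [.negSucc 15,.negSucc 31,.negSucc 15,.negSucc 15,.ofNat 0,.ofNat 0,.ofNat 0,.ofNat 16], [.ofNat 0,.ofNat 0,.ofNat 0,.negSucc 15,.ofNat 16,.ofNat 32,.ofNat 16,.ofNat 16]],
  [[.ofNat 16,.ofNat 16,.ofNat 16,.ofNat 16,.negSucc 15,.negSucc 15,.ofNat 16,.ofNat 16], [.negSucc 15,.negSucc 15,.ofNat 16,.ofNat 32,.ofNat 0,.negSucc 15,.ofNat 0,.ofNat 0], [.negSucc 15,.negSucc 31,.ofNat 0,.ofNat 0,.ofNat 0,.ofNat 16,.negSucc 15,.negSucc 15], [.ofNat 0,.ofNat 0,.negSucc 15,.negSucc 31,.ofNat 16,.ofNat 16,.ofNat 0,.negSucc 15]],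
  [[.ofNat 16,.ofNat 16,.ofNat 16,.ofNat 16,.ofNat 16,.ofNat 16,.negSucc 15,.negSucc 15], [.ofNat 0,.ofNat 16,.ofNat 0,.ofNat 0,.negSucc 15,.negSucc 15,.negSucc 15,.negSucc 31], [.ofNat 0,.negSucc 15,.negSucc 15,.negSucc 15,.negSucc 15,.negSucc 31,.ofNat 0,.ofNat 0], [.negSucc 15,.negSucc 15,.ofNat 0,.negSucc 15,.ofNat 0,.ofNat 0,.ofNat 16,.ofNat 32]],
  [[.ofNat 16,.ofNat 16,.ofNat 16,.ofNat 16,.ofNat 16,.ofNat 16,.ofNat 16,.ofNat 16], [.ofNat 0,.ofNat 16,.ofNat 16,.ofNat 32,.ofNat 0,.ofNat 0,.negSucc 15,.negSucc 15], [.ofNat 0,.negSucc 15,.ofNat 0,.ofNat 0,.negSucc 15,.negSucc 15,.negSucc 15,.negSucc 31], [.negSucc 15,.negSucc 15,.negSucc 15,.negSucc 31,.ofNat 0,.negSucc 15,.ofNat 0,.ofNat 0]],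
  [[.ofNat 0,.negSucc 15,.negSucc 15,.negSucc 15,.negSucc 15,.negSucc 31,.ofNat 0,.ofNat 0], [.negSucc 15,.negSucc 15,.ofNat 0,.negSucc 15,.ofNat 0,.ofNat 0,.ofNat 16,.ofNat 32], [.ofNat 0,.ofNat 0,.ofNat 0,.ofNat 16,.ofNat 16,.ofNat 32,.ofNat 16,.ofNat 16], [.ofNat 16,.ofNat 16,.ofNat 16,.ofNat 16,.ofNat 16,.ofNat 16,.negSucc 15,.negSucc 15]],
  [[.ofNat 0,.negSucc 15,.negSucc 15,.negSucc 15,.ofNat 16,.ofNat 32,.ofNat 0,.ofNat 0], [.ofNat 16,.ofNat 32,.ofNat 0,.negSucc 15,.ofNat 16,.ofNat 16,.ofNat 0,.ofNat 0], [.ofNat 16,.ofNat 32,.ofNat 0,.ofNat 16,.negSucc 15,.negSucc 15,.ofNat 0,.ofNat 0], [.ofNat 0,.negSucc 15,.ofNat 16,.ofNat 16,.negSucc 15,.negSucc 31,.ofNat 0,.ofNat 0]],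
  [[.ofNat 0,.negSucc 15,.negSucc 15,.negSucc 31,.ofNat 0,.ofNat 0,.negSucc 15,.negSucc 15], [.ofNat 0,.ofNat 16,.negSucc 15,.negSucc 31,.ofNat 0,.ofNat 0,.ofNat 16,.ofNat 16], [.ofNat 16,.ofNat 16,.ofNat 0,.ofNat 16,.ofNat 0,.ofNat 0,.ofNat 16,.ofNat 32], [.ofNat 0,.ofNat 0,.ofNat 32,.ofNat 32,.ofNat 0,.ofNat 0,.ofNat 0,.ofNat 0]],
  [[.ofNat 0,.negSucc 15,.negSucc 15,.negSucc 31,.ofNat 0,.ofNat 0,.ofNat 16,.ofNat 16], [.ofNat 0,.ofNat 16,.ofNat 0,.ofNat 0,.ofNat 16,.ofNat 16,.ofNat 16,.ofNat 32], [.ofNat 16,.ofNat 16,.ofNat 16,.ofNat 32,.ofNat 0,.ofNat 16,.ofNat 0,.ofNat 0], [.ofNat 0,.ofNat 0,.ofNat 16,.ofNat 16,.ofNat 0,.negSucc 15,.negSucc 15,.negSucc 31]],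
  [[.ofNat 0,.negSucc 15,.ofNat 0,.ofNat 0,.negSucc 15,.negSucc 15,.negSucc 15,.negSucc 31], [.negSucc 15,.negSucc 15,.negSucc 15,.negSucc 31,.ofNat 0,.negSucc 15,.ofNat 0,.ofNat 0], [.ofNat 0,.ofNat 0,.negSucc 15,.negSucc 15,.ofNat 0,.ofNat 16,.ofNat 16,.ofNat 32], [.ofNat 16,.ofNat 16,.ofNat 16,.ofNat 16,.ofNat 16,.ofNat 16,.ofNat 16,.ofNat 16]],
  [[.ofNat 0,.negSucc 15,.ofNat 0,.ofNat 0,.negSucc 15,.negSucc 15,.ofNat 16,.ofNat 32], [.negSucc 15,.negSucc 15,.ofNat 16,.ofNat 16,.ofNat 16,.ofNat 16,.ofNat 16,.ofNat 16], [.ofNat 0,.ofNat 0,.ofNat 0,.ofNat 16,.ofNat 16,.ofNat 32,.negSucc 15,.negSucc 15], [.ofNat 16,.ofNat 16,.ofNat 0,.negSucc 15,.ofNat 0,.ofNat 0,.negSucc 15,.negSucc 31]],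
  [[.ofNat 0,.negSucc 15,.ofNat 0,.ofNat 0,.ofNat 16,.ofNat 16,.negSucc 15,.negSucc 31], [.ofNat 0,.ofNat 16,.negSucc 15,.negSucc 31,.ofNat 0,.ofNat 0,.negSucc 15,.negSucc 15], [.ofNat 16,.ofNat 16,.negSucc 15,.negSucc 15,.negSucc 15,.negSucc 15,.ofNat 16,.ofNat 16], [.ofNat 0,.ofNat 0,.ofNat 16,.ofNat 16,.ofNat 0,.negSucc 15,.ofNat 16,.ofNat 32]],
  [[.ofNat 0,.negSucc 15,.ofNat 0,.ofNat 0,.ofNat 16,.ofNat 16,.ofNat 16,.ofNat 32], [.ofNat 0,.ofNat 16,.ofNat 16,.ofNat 16,.ofNat 16,.ofNat 32,.ofNat 0,.ofNat 0], [.ofNat 16,.ofNat 16,.ofNat 0,.ofNat 16,.ofNat 0,.ofNat 0,.negSucc 15,.negSucc 31], [.ofNat 0,.ofNat 0,.ofNat 0,.negSucc 15,.negSucc 15,.negSucc 31,.negSucc 15,.negSucc 15]],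
  [[.ofNat 0,.negSucc 15,.ofNat 16,.ofNat 32,.ofNat 0,.ofNat 0,.negSucc 15,.negSucc 15], [.negSucc 15,.negSucc 15,.ofNat 0,.negSucc 15,.ofNat 0,.ofNat 0,.negSucc 15,.negSucc 31], [.ofNat 0,.ofNat 0,.negSucc 31,.negSucc 31,.ofNat 0,.ofNat 0,.ofNat 0,.ofNat 0], [.ofNat 16,.ofNat 16,.ofNat 0,.negSucc 15,.ofNat 0,.ofNat 0,.ofNat 16,.ofNat 32]],
  [[.ofNat 0,.negSucc 15,.ofNat 16,.ofNat 32,.ofNat 0,.ofNat 0,.ofNat 16,.ofNat 16], [.negSucc 15,.negSucc 15,.ofNat 16,.ofNat 16,.ofNat 16,.ofNat 16,.negSucc 15,.negSucc 15], [.ofNat 0,.ofNat 0,.negSucc 15,.negSucc 15,.ofNat 0,.ofNat 16,.negSucc 15,.negSucc 31], [.ofNat 16,.ofNat 16,.negSucc 15,.negSucc 31,.ofNat 0,.negSucc 15,.ofNat 0,.ofNat 0]],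
  [[.ofNat 0,.negSucc 15,.ofNat 16,.ofNat 16,.negSucc 15,.negSucc 31,.ofNat 0,.ofNat 0], [.negSucc 31,.negSucc 31,.ofNat 0,.ofNat 0,.ofNat 0,.ofNat 0,.ofNat 0,.ofNat 0], [.ofNat 0,.negSucc 15,.negSucc 15,.negSucc 15,.ofNat 16,.ofNat 32,.ofNat 0,.ofNat 0], [.ofNat 16,.ofNat 32,.ofNat 0,.negSucc 15,.ofNat 16,.ofNat 16,.ofNat 0,.ofNat 0]],
  [[.ofNat 0,.negSucc 15,.ofNat 16,.ofNat 16,.ofNat 16,.ofNat 32,.ofNat 0,.ofNat 0], [.ofNat 0,.ofNat 16,.ofNat 0,.ofNat 0,.ofNat 16,.ofNat 16,.negSucc 15,.negSucc 31], [.ofNat 16,.ofNat 16,.negSucc 15,.negSucc 15,.negSucc 15,.negSucc 15,.negSucc 15,.negSucc 15], [.ofNat 0,.ofNat 0,.ofNat 0,.negSucc 15,.negSucc 15,.negSucc 31,.ofNat 16,.ofNat 16]],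
  [[.ofNat 16,.ofNat 32,.negSucc 15,.negSucc 15,.ofNat 0,.ofNat 0,.ofNat 0,.ofNat 16], [.ofNat 16,.ofNat 16,.ofNat 16,.ofNat 16,.negSucc 15,.negSucc 15,.ofNat 16,.ofNat 16], [.negSucc 15,.negSucc 15,.ofNat 16,.ofNat 32,.ofNat 0,.negSucc 15,.ofNat 0,.ofNat 0], [.negSucc 15,.negSucc 31,.ofNat 0,.ofNat 0,.ofNat 0,.ofNat 16,.negSucc 15,.negSucc 15]],
  [[.ofNat 16,.ofNat 32,.negSucc 15,.negSucc 15,.ofNat 0,.ofNat 0,.ofNat 0,.negSucc 15], [.ofNat 16,.ofNat 16,.ofNat 0,.ofNat 0,.negSucc 15,.negSucc 31,.ofNat 0,.ofNat 16], [.negSucc 15,.negSucc 15,.ofNat 16,.ofNat 16,.negSucc 15,.negSucc 15,.ofNat 16,.ofNat 16], [.negSucc 15,.negSucc 31,.ofNat 0,.ofNat 16,.ofNat 16,.ofNat 16,.ofNat 0,.ofNat 0]],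
  [[.ofNat 16,.ofNat 32,.ofNat 0,.ofNat 16,.negSucc 15,.negSucc 15,.ofNat 0,.ofNat 0], [.ofNat 0,.negSucc 15,.ofNat 16,.ofNat 16,.negSucc 15,.negSucc 31,.ofNat 0,.ofNat 0], [.negSucc 31,.negSucc 31,.ofNat 0,.ofNat 0,.ofNat 0,.ofNat 0,.ofNat 0,.ofNat 0], [.ofNat 0,.negSucc 15,.negSucc 15,.negSucc 15,.ofNat 16,.ofNat 32,.ofNat 0,.ofNat 0]],
  [[.ofNat 16,.ofNat 32,.ofNat 0,.ofNat 16,.ofNat 16,.ofNat 16,.ofNat 0,.ofNat 0], [.ofNat 16,.ofNat 16,.ofNat 16,.ofNat 16,.negSucc 15,.negSucc 15,.negSucc 15,.negSucc 15], [.negSucc 15,.negSucc 15,.ofNat 0,.ofNat 0,.negSucc 15,.negSucc 31,.ofNat 0,.negSucc 15], [.negSucc 15,.negSucc 31,.negSucc 15,.negSucc 15,.ofNat 0,.ofNat 0,.ofNat 0,.ofNat 16]],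
  [[.ofNat 16,.ofNat 32,.ofNat 0,.ofNat 0,.ofNat 0,.ofNat 16,.negSucc 15,.negSucc 15], [.ofNat 16,.ofNat 16,.ofNat 0,.ofNat 0,.negSucc 15,.negSucc 31,.ofNat 0,.negSucc 15], [.negSucc 15,.negSucc 15,.ofNat 0,.ofNat 0,.negSucc 15,.negSucc 31,.ofNat 0,.ofNat 16], [.negSucc 15,.negSucc 31,.ofNat 0,.ofNat 0,.ofNat 0,.ofNat 16,.ofNat 16,.ofNat 16]],
  [[.ofNat 16,.ofNat 32,.ofNat 0,.ofNat 0,.ofNat 0,.ofNat 16,.ofNat 16,.ofNat 16], [.ofNat 16,.ofNat 16,.ofNat 16,.ofNat 32,.ofNat 0,.negSucc 15,.ofNat 0,.ofNat 0], [.negSucc 15,.negSucc 15,.ofNat 16,.ofNat 16,.negSucc 15,.negSucc 15,.negSucc 15,.negSucc 15], [.negSucc 15,.negSucc 31,.negSucc 15,.negSucc 15,.ofNat 0,.ofNat 0,.ofNat 0,.negSucc 15]],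
  [[.ofNat 16,.ofNat 32,.ofNat 0,.ofNat 0,.ofNat 0,.negSucc 15,.negSucc 15,.negSucc 15], [.ofNat 0,.ofNat 0,.ofNat 0,.ofNat 0,.negSucc 31,.negSucc 31,.ofNat 0,.ofNat 0], [.negSucc 15,.negSucc 31,.ofNat 0,.ofNat 0,.ofNat 0,.negSucc 15,.ofNat 16,.ofNat 16], [.negSucc 15,.negSucc 15,.ofNat 0,.ofNat 0,.ofNat 16,.ofNat 32,.ofNat 0,.ofNat 16]],
  [[.ofNat 16,.ofNat 32,.ofNat 0,.ofNat 0,.ofNat 0,.negSucc 15,.ofNat 16,.ofNat 16], [.ofNat 0,.ofNat 0,.ofNat 16,.ofNat 32,.negSucc 15,.negSucc 15,.ofNat 0,.ofNat 16], [.negSucc 15,.negSucc 31,.ofNat 16,.ofNat 16,.ofNat 0,.ofNat 0,.ofNat 0,.negSucc 15], [.negSucc 15,.negSucc 15,.negSucc 15,.negSucc 15,.ofNat 16,.ofNat 16,.negSucc 15,.negSucc 15]],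
  [[.ofNat 16,.ofNat 32,.ofNat 0,.negSucc 15,.negSucc 15,.negSucc 15,.ofNat 0,.ofNat 0], [.ofNat 0,.ofNat 0,.ofNat 0,.ofNat 16,.negSucc 15,.negSucc 31,.ofNat 16,.ofNat 16], [.negSucc 15,.negSucc 31,.ofNat 16,.ofNat 16,.ofNat 0,.ofNat 0,.ofNat 0,.ofNat 16], [.negSucc 15,.negSucc 15,.ofNat 0,.ofNat 0,.ofNat 16,.ofNat 32,.ofNat 0,.negSucc 15]],
  [[.ofNat 16,.ofNat 32,.ofNat 0,.negSucc 15,.ofNat 16,.ofNat 16,.ofNat 0,.ofNat 0], [.ofNat 16,.ofNat 32,.ofNat 0,.ofNat 16,.negSucc 15,.negSucc 15,.ofNat 0,.ofNat 0], [.ofNat 0,.negSucc 15,.ofNat 16,.ofNat 16,.negSucc 15,.negSucc 31,.ofNat 0,.ofNat 0], [.negSucc 31,.negSucc 31,.ofNat 0,.ofNat 0,.ofNat 0,.ofNat 0,.ofNat 0,.ofNat 0]],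
  [[.ofNat 16,.ofNat 32,.ofNat 16,.ofNat 16,.ofNat 0,.ofNat 0,.ofNat 0,.ofNat 16], [.ofNat 0,.ofNat 0,.ofNat 16,.ofNat 32,.negSucc 15,.negSucc 15,.ofNat 0,.negSucc 15], [.negSucc 15,.negSucc 31,.ofNat 0,.ofNat 0,.ofNat 0,.negSucc 15,.negSucc 15,.negSucc 15], [.negSucc 15,.negSucc 15,.negSucc 15,.negSucc 31,.ofNat 0,.ofNat 16,.ofNat 0,.ofNat 0]],
  [[.ofNat 16,.ofNat 32,.ofNat 16,.ofNat 16,.ofNat 0,.ofNat 0,.ofNat 0,.negSucc 15], [.ofNat 0,.ofNat 0,.ofNat 0,.ofNat 16,.negSucc 15,.negSucc 31,.negSucc 15,.negSucc 15], [.negSucc 15,.negSucc 31,.ofNat 0,.negSucc 15,.negSucc 15,.negSucc 15,.ofNat 0,.ofNat 0], [.negSucc 15,.negSucc 15,.negSucc 15,.negSucc 15,.ofNat 16,.ofNat 16,.ofNat 16,.ofNat 16]],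
  [[.ofNat 0,.ofNat 0,.negSucc 15,.negSucc 15,.ofNat 0,.ofNat 16,.negSucc 15,.negSucc 31], [.ofNat 16,.ofNat 16,.negSucc 15,.negSucc 31,.ofNat 0,.negSucc 15,.ofNat 0,.ofNat 0], [.ofNat 0,.ofNat 16,.ofNat 0,.ofNat 0,.negSucc 15,.negSucc 15,.ofNat 16,.ofNat 32], [.ofNat 0,.negSucc 15,.ofNat 16,.ofNat 32,.ofNat 0,.ofNat 0,.ofNat 16,.ofNat 16]],
  [[.ofNat 0,.ofNat 0,.negSucc 15,.negSucc 15,.ofNat 0,.ofNat 16,.ofNat 16,.ofNat 32], [.ofNat 16,.ofNat 16,.ofNat 16,.ofNat 16,.ofNat 16,.ofNat 16,.ofNat 16,.ofNat 16], [.ofNat 0,.ofNat 16,.ofNat 16,.ofNat 32,.ofNat 0,.ofNat 0,.negSucc 15,.negSucc 15], [.ofNat 0,.negSucc 15,.ofNat 0,.ofNat 0,.negSucc 15,.negSucc 15,.negSucc 15,.negSucc 31]],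
  [[.ofNat 0,.ofNat 0,.negSucc 15,.negSucc 15,.ofNat 0,.negSucc 15,.negSucc 15,.negSucc 31], [.ofNat 0,.ofNat 0,.negSucc 15,.negSucc 31,.negSucc 15,.negSucc 15,.ofNat 0,.ofNat 16], [.ofNat 0,.ofNat 0,.ofNat 0,.ofNat 0,.ofNat 0,.ofNat 0,.ofNat 32,.ofNat 32], [.ofNat 0,.ofNat 0,.ofNat 16,.ofNat 32,.ofNat 16,.ofNat 16,.ofNat 0,.ofNat 16]],
  [[.ofNat 0,.ofNat 0,.negSucc 15,.negSucc 15,.ofNat 0,.negSucc 15,.ofNat 16,.ofNat 32], [.ofNat 0,.ofNat 0,.ofNat 16,.ofNat 16,.ofNat 0,.ofNat 16,.ofNat 16,.ofNat 32], [.ofNat 0,.ofNat 0,.ofNat 16,.ofNat 32,.ofNat 16,.ofNat 16,.ofNat 0,.negSucc 15], [.ofNat 0,.ofNat 0,.ofNat 0,.ofNat 0,.ofNat 0,.ofNat 0,.negSucc 31,.negSucc 31]],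
  [[.ofNat 0,.ofNat 0,.ofNat 0,.ofNat 16,.negSucc 15,.negSucc 31,.negSucc 15,.negSucc 15], [.negSucc 15,.negSucc 31,.ofNat 0,.negSucc 15,.negSucc 15,.negSucc 15,.ofNat 0,.ofNat 0], [.negSucc 15,.negSucc 15,.negSucc 15,.negSucc 15,.ofNat 16,.ofNat 16,.ofNat 16,.ofNat 16], [.ofNat 16,.ofNat 16,.ofNat 0,.ofNat 0,.ofNat 16,.ofNat 32,.ofNat 0,.ofNat 16]],
  [[.ofNat 0,.ofNat 0,.ofNat 0,.ofNat 16,.negSucc 15,.negSucc 31,.ofNat 16,.ofNat 16], [.negSucc 15,.negSucc 31,.ofNat 16,.ofNat 16,.ofNat 0,.ofNat 0,.ofNat 0,.ofNat 16], [.negSucc 15,.negSucc 15,.ofNat 0,.ofNat 0,.ofNat 16,.ofNat 32,.ofNat 0,.negSucc 15], [.ofNat 16,.ofNat 16,.negSucc 15,.negSucc 15,.ofNat 16,.ofNat 16,.negSucc 15,.negSucc 15]],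
  [[.ofNat 0,.ofNat 0,.ofNat 0,.ofNat 16,.ofNat 16,.ofNat 32,.negSucc 15,.negSucc 15], [.ofNat 16,.ofNat 16,.ofNat 0,.negSucc 15,.ofNat 0,.ofNat 0,.negSucc 15,.negSucc 31], [.ofNat 0,.ofNat 16,.negSucc 15,.negSucc 15,.negSucc 15,.negSucc 31,.ofNat 0,.ofNat 0], [.ofNat 0,.negSucc 15,.ofNat 0,.ofNat 0,.negSucc 15,.negSucc 15,.ofNat 16,.ofNat 32]],
  [[.ofNat 0,.ofNat 0,.ofNat 0,.ofNat 16,.ofNat 16,.ofNat 32,.ofNat 16,.ofNat 16], [.ofNat 16,.ofNat 16,.ofNat 16,.ofNat 16,.ofNat 16,.ofNat 16,.negSucc 15,.negSucc 15], [.ofNat 0,.ofNat 16,.ofNat 0,.ofNat 0,.negSucc 15,.negSucc 15,.negSucc 15,.negSucc 31], [.ofNat 0,.negSucc 15,.negSucc 15,.negSucc 15,.negSucc 15,.negSucc 31,.ofNat 0,.ofNat 0]],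
  [[.ofNat 0,.ofNat 0,.negSucc 15,.negSucc 31,.negSucc 15,.negSucc 15,.ofNat 0,.ofNat 16], [.ofNat 0,.ofNat 0,.ofNat 0,.ofNat 0,.ofNat 0,.ofNat 0,.ofNat 32,.ofNat 32], [.ofNat 0,.ofNat 0,.ofNat 16,.ofNat 32,.ofNat 16,.ofNat 16,.ofNat 0,.ofNat 16], [.ofNat 0,.ofNat 0,.ofNat 16,.ofNat 16,.ofNat 0,.ofNat 16,.negSucc 15,.negSucc 31]],
  [[.ofNat 0,.ofNat 0,.negSucc 15,.negSucc 31,.negSucc 15,.negSucc 15,.ofNat 0,.negSucc 15], [.ofNat 0,.ofNat 0,.negSucc 15,.negSucc 15,.ofNat 0,.negSucc 15,.ofNat 16,.ofNat 32], [.ofNat 0,.ofNat 0,.ofNat 16,.ofNat 16,.ofNat 0,.ofNat 16,.ofNat 16,.ofNat 32], [.ofNat 0,.ofNat 0,.ofNat 16,.ofNat 32,.ofNat 16,.ofNat 16,.ofNat 0,.negSucc 15]],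
  [[.ofNat 0,.ofNat 0,.negSucc 15,.negSucc 31,.ofNat 16,.ofNat 16,.ofNat 0,.ofNat 16], [.ofNat 16,.ofNat 32,.ofNat 0,.ofNat 0,.ofNat 0,.ofNat 16,.ofNat 16,.ofNat 16], [.ofNat 16,.ofNat 16,.ofNat 16,.ofNat 32,.ofNat 0,.negSucc 15,.ofNat 0,.ofNat 0], [.negSucc 15,.negSucc 15,.ofNat 16,.ofNat 16,.negSucc 15,.negSucc 15,.negSucc 15,.negSucc 15]],
  [[.ofNat 0,.ofNat 0,.negSucc 15,.negSucc 31,.ofNat 16,.ofNat 16,.ofNat 0,.negSucc 15], [.ofNat 16,.ofNat 32,.negSucc 15,.negSucc 15,.ofNat 0,.ofNat 0,.ofNat 0,.ofNat 16], [.ofNat 16,.ofNat 16,.ofNat 16,.ofNat 16,.negSucc 15,.negSucc 15,.ofNat 16,.ofNat 16], [.negSucc 15,.negSucc 15,.ofNat 16,.ofNat 32,.ofNat 0,.negSucc 15,.ofNat 0,.ofNat 0]],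
  [[.ofNat 0,.ofNat 0,.ofNat 16,.ofNat 32,.negSucc 15,.negSucc 15,.ofNat 0,.ofNat 16], [.negSucc 15,.negSucc 31,.ofNat 16,.ofNat 16,.ofNat 0,.ofNat 0,.ofNat 0,.negSucc 15], [.negSucc 15,.negSucc 15,.negSucc 15,.negSucc 15,.ofNat 16,.ofNat 16,.negSucc 15,.negSucc 15], [.ofNat 16,.ofNat 16,.negSucc 15,.negSucc 31,.ofNat 0,.ofNat 16,.ofNat 0,.ofNat 0]],
  [[.ofNat 0,.ofNat 0,.ofNat 16,.ofNat 32,.negSucc 15,.negSucc 15,.ofNat 0,.negSucc 15], [.negSucc 15,.negSucc 31,.ofNat 0,.ofNat 0,.ofNat 0,.negSucc 15,.negSucc 15,.negSucc 15], [.negSucc 15,.negSucc 15,.negSucc 15,.negSucc 31,.ofNat 0,.ofNat 16,.ofNat 0,.ofNat 0], [.ofNat 16,.ofNat 16,.negSucc 15,.negSucc 15,.ofNat 16,.ofNat 16,.ofNat 16,.ofNat 16]],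
  [[.ofNat 0,.ofNat 0,.ofNat 16,.ofNat 32,.ofNat 16,.ofNat 16,.ofNat 0,.ofNat 16], [.ofNat 0,.ofNat 0,.ofNat 16,.ofNat 16,.ofNat 0,.ofNat 16,.negSucc 15,.negSucc 31], [.ofNat 0,.ofNat 0,.negSucc 15,.negSucc 15,.ofNat 0,.negSucc 15,.negSucc 15,.negSucc 31], [.ofNat 0,.ofNat 0,.negSucc 15,.negSucc 31,.negSucc 15,.negSucc 15,.ofNat 0,.ofNat 16]],
  [[.ofNat 0,.ofNat 0,.ofNat 16,.ofNat 32,.ofNat 16,.ofNat 16,.ofNat 0,.negSucc 15], [.ofNat 0,.ofNat 0,.ofNat 0,.ofNat 0,.ofNat 0,.ofNat 0,.negSucc 31,.negSucc 31], [.ofNat 0,.ofNat 0,.negSucc 15,.negSucc 31,.negSucc 15,.negSucc 15,.ofNat 0,.negSucc 15], [.ofNat 0,.ofNat 0,.negSucc 15,.negSucc 15,.ofNat 0,.negSucc 15,.ofNat 16,.ofNat 32]],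
  [[.ofNat 0,.ofNat 0,.ofNat 0,.negSucc 15,.negSucc 15,.negSucc 31,.negSucc 15,.negSucc 15], [.negSucc 15,.negSucc 15,.negSucc 15,.negSucc 15,.negSucc 15,.negSucc 15,.ofNat 16,.ofNat 16], [.ofNat 0,.negSucc 15,.ofNat 0,.ofNat 0,.ofNat 16,.ofNat 16,.ofNat 16,.ofNat 32], [.ofNat 0,.ofNat 16,.ofNat 16,.ofNat 16,.ofNat 16,.ofNat 32,.ofNat 0,.ofNat 0]],
  [[.ofNat 0,.ofNat 0,.ofNat 0,.negSucc 15,.negSucc 15,.negSucc 31,.ofNat 16,.ofNat 16], [.negSucc 15,.negSucc 15,.ofNat 0,.ofNat 16,.ofNat 0,.ofNat 0,.ofNat 16,.ofNat 32], [.ofNat 0,.negSucc 15,.ofNat 16,.ofNat 16,.ofNat 16,.ofNat 32,.ofNat 0,.ofNat 0], [.ofNat 0,.ofNat 16,.ofNat 0,.ofNat 0,.ofNat 16,.ofNat 16,.negSucc 15,.negSucc 31]],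
  [[.ofNat 0,.ofNat 0,.ofNat 0,.negSucc 15,.ofNat 16,.ofNat 32,.negSucc 15,.negSucc 15], [.ofNat 16,.ofNat 32,.negSucc 15,.negSucc 15,.ofNat 0,.ofNat 0,.ofNat 0,.negSucc 15], [.ofNat 16,.ofNat 16,.ofNat 0,.ofNat 0,.negSucc 15,.negSucc 31,.ofNat 0,.ofNat 16], [.negSucc 15,.negSucc 15,.ofNat 16,.ofNat 16,.negSucc 15,.negSucc 15,.ofNat 16,.ofNat 16]],
  [[.ofNat 0,.ofNat 0,.ofNat 0,.negSucc 15,.ofNat 16,.ofNat 32,.ofNat 16,.ofNat 16], [.ofNat 16,.ofNat 32,.ofNat 0,.ofNat 16,.ofNat 16,.ofNat 16,.ofNat 0,.ofNat 0], [.ofNat 16,.ofNat 16,.ofNat 16,.ofNat 16,.negSucc 15,.negSucc 15,.negSucc 15,.negSucc 15], [.negSucc 15,.negSucc 15,.ofNat 0,.ofNat 0,.negSucc 15,.negSucc 31,.ofNat 0,.negSucc 15]],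
  [[.ofNat 0,.ofNat 0,.ofNat 16,.ofNat 16,.ofNat 0,.ofNat 16,.negSucc 15,.negSucc 31], [.ofNat 0,.ofNat 0,.negSucc 15,.negSucc 15,.ofNat 0,.negSucc 15,.negSucc 15,.negSucc 31], [.ofNat 0,.ofNat 0,.negSucc 15,.negSucc 31,.negSucc 15,.negSucc 15,.ofNat 0,.ofNat 16], [.ofNat 0,.ofNat 0,.ofNat 0,.ofNat 0,.ofNat 0,.ofNat 0,.ofNat 32,.ofNat 32]],
  [[.ofNat 0,.ofNat 0,.ofNat 16,.ofNat 16,.ofNat 0,.ofNat 16,.ofNat 16,.ofNat 32], [.ofNat 0,.ofNat 0,.ofNat 16,.ofNat 32,.ofNat 16,.ofNat 16,.ofNat 0,.negSucc 15], [.ofNat 0,.ofNat 0,.ofNat 0,.ofNat 0,.ofNat 0,.ofNat 0,.negSucc 31,.negSucc 31], [.ofNat 0,.ofNat 0,.negSucc 15,.negSucc 31,.negSucc 15,.negSucc 15,.ofNat 0,.negSucc 15]],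
  [[.ofNat 0,.ofNat 0,.ofNat 16,.ofNat 16,.ofNat 0,.negSucc 15,.negSucc 15,.negSucc 31], [.negSucc 15,.negSucc 15,.negSucc 15,.negSucc 15,.negSucc 15,.negSucc 15,.negSucc 15,.negSucc 15], [.ofNat 0,.negSucc 15,.negSucc 15,.negSucc 31,.ofNat 0,.ofNat 0,.ofNat 16,.ofNat 16], [.ofNat 0,.ofNat 16,.ofNat 0,.ofNat 0,.ofNat 16,.ofNat 16,.ofNat 16,.ofNat 32]],
  [[.ofNat 0,.ofNat 0,.ofNat 16,.ofNat 16,.ofNat 0,.negSucc 15,.ofNat 16,.ofNat 32], [.negSucc 15,.negSucc 15,.ofNat 16,.ofNat 32,.ofNat 0,.ofNat 16,.ofNat 0,.ofNat 0], [.ofNat 0,.negSucc 15,.ofNat 0,.ofNat 0,.ofNat 16,.ofNat 16,.negSucc 15,.negSucc 31], [.ofNat 0,.ofNat 16,.negSucc 15,.negSucc 31,.ofNat 0,.ofNat 0,.negSucc 15,.negSucc 15]],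
  [[.negSucc 15,.negSucc 31,.negSucc 15,.negSucc 15,.ofNat 0,.ofNat 0,.ofNat 0,.ofNat 16], [.ofNat 0,.ofNat 0,.ofNat 0,.negSucc 15,.ofNat 16,.ofNat 32,.ofNat 16,.ofNat 16], [.ofNat 16,.ofNat 32,.ofNat 0,.ofNat 16,.ofNat 16,.ofNat 16,.ofNat 0,.ofNat 0], [.ofNat 16,.ofNat 16,.ofNat 16,.ofNat 16,.negSucc 15,.negSucc 15,.negSucc 15,.negSucc 15]],
  [[.negSucc 15,.negSucc 31,.negSucc 15,.negSucc 15,.ofNat 0,.ofNat 0,.ofNat 0,.negSucc 15], [.ofNat 0,.ofNat 0,.negSucc 15,.negSucc 31,.ofNat 16,.ofNat 16,.ofNat 0,.ofNat 16], [.ofNat 16,.ofNat 32,.ofNat 0,.ofNat 0,.ofNat 0,.ofNat 16,.ofNat 16,.ofNat 16], [.ofNat 16,.ofNat 16,.ofNat 16,.ofNat 32,.ofNat 0,.negSucc 15,.ofNat 0,.ofNat 0]],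
  [[.negSucc 15,.negSucc 31,.ofNat 0,.ofNat 16,.negSucc 15,.negSucc 15,.ofNat 0,.ofNat 0], [.negSucc 15,.negSucc 31,.ofNat 0,.negSucc 15,.ofNat 16,.ofNat 16,.ofNat 0,.ofNat 0], [.ofNat 0,.ofNat 16,.negSucc 15,.negSucc 15,.ofNat 16,.ofNat 32,.ofNat 0,.ofNat 0], [.ofNat 32,.ofNat 32,.ofNat 0,.ofNat 0,.ofNat 0,.ofNat 0,.ofNat 0,.ofNat 0]],
  [[.negSucc 15,.negSucc 31,.ofNat 0,.ofNat 16,.ofNat 16,.ofNat 16,.ofNat 0,.ofNat 0], [.ofNat 0,.ofNat 0,.ofNat 0,.negSucc 15,.ofNat 16,.ofNat 32,.negSucc 15,.negSucc 15], [.ofNat 16,.ofNat 32,.negSucc 15,.negSucc 15,.ofNat 0,.ofNat 0,.ofNat 0,.negSucc 15], [.ofNat 16,.ofNat 16,.ofNat 0,.ofNat 0,.negSucc 15,.negSucc 31,.ofNat 0,.ofNat 16]],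
  [[.negSucc 15,.negSucc 31,.ofNat 0,.ofNat 0,.ofNat 0,.ofNat 16,.negSucc 15,.negSucc 15], [.ofNat 0,.ofNat 0,.negSucc 15,.negSucc 31,.ofNat 16,.ofNat 16,.ofNat 0,.negSucc 15], [.ofNat 16,.ofNat 32,.negSucc 15,.negSucc 15,.ofNat 0,.ofNat 0,.ofNat 0,.ofNat 16], [.ofNat 16,.ofNat 16,.ofNat 16,.ofNat 16,.negSucc 15,.negSucc 15,.ofNat 16,.ofNat 16]],
  [[.negSucc 15,.negSucc 31,.ofNat 0,.ofNat 0,.ofNat 0,.ofNat 16,.ofNat 16,.ofNat 16], [.ofNat 0,.ofNat 0,.ofNat 0,.ofNat 0,.ofNat 32,.ofNat 32,.ofNat 0,.ofNat 0], [.ofNat 16,.ofNat 32,.ofNat 0,.ofNat 0,.ofNat 0,.ofNat 16,.negSucc 15,.negSucc 15], [.ofNat 16,.ofNat 16,.ofNat 0,.ofNat 0,.negSucc 15,.negSucc 31,.ofNat 0,.negSucc 15]],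
  [[.negSucc 15,.negSucc 31,.ofNat 0,.ofNat 0,.ofNat 0,.negSucc 15,.negSucc 15,.negSucc 15], [.negSucc 15,.negSucc 15,.negSucc 15,.negSucc 31,.ofNat 0,.ofNat 16,.ofNat 0,.ofNat 0], [.ofNat 16,.ofNat 16,.negSucc 15,.negSucc 15,.ofNat 16,.ofNat 16,.ofNat 16,.ofNat 16], [.ofNat 16,.ofNat 32,.ofNat 16,.ofNat 16,.ofNat 0,.ofNat 0,.ofNat 0,.ofNat 16]],
  [[.negSucc 15,.negSucc 31,.ofNat 0,.ofNat 0,.ofNat 0,.negSucc 15,.ofNat 16,.ofNat 16], [.negSucc 15,.negSucc 15,.ofNat 0,.ofNat 0,.ofNat 16,.ofNat 32,.ofNat 0,.ofNat 16], [.ofNat 16,.ofNat 16,.ofNat 0,.ofNat 0,.ofNat 16,.ofNat 32,.ofNat 0,.negSucc 15], [.ofNat 16,.ofNat 32,.ofNat 0,.ofNat 0,.ofNat 0,.negSucc 15,.negSucc 15,.negSucc 15]],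
  [[.negSucc 15,.negSucc 31,.ofNat 0,.negSucc 15,.negSucc 15,.negSucc 15,.ofNat 0,.ofNat 0], [.negSucc 15,.negSucc 15,.negSucc 15,.negSucc 15,.ofNat 16,.ofNat 16,.ofNat 16,.ofNat 16], [.ofNat 16,.ofNat 16,.ofNat 0,.ofNat 0,.ofNat 16,.ofNat 32,.ofNat 0,.ofNat 16], [.ofNat 16,.ofNat 32,.ofNat 16,.ofNat 16,.ofNat 0,.ofNat 0,.ofNat 0,.negSucc 15]],
  [[.negSucc 15,.negSucc 31,.ofNat 0,.negSucc 15,.ofNat 16,.ofNat 16,.ofNat 0,.ofNat 0], [.ofNat 0,.ofNat 16,.negSucc 15,.negSucc 15,.ofNat 16,.ofNat 32,.ofNat 0,.ofNat 0], [.ofNat 32,.ofNat 32,.ofNat 0,.ofNat 0,.ofNat 0,.ofNat 0,.ofNat 0,.ofNat 0], [.ofNat 0,.ofNat 16,.ofNat 16,.ofNat 16,.negSucc 15,.negSucc 31,.ofNat 0,.ofNat 0]],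
  [[.negSucc 15,.negSucc 31,.ofNat 16,.ofNat 16,.ofNat 0,.ofNat 0,.ofNat 0,.ofNat 16], [.negSucc 15,.negSucc 15,.ofNat 0,.ofNat 0,.ofNat 16,.ofNat 32,.ofNat 0,.negSucc 15], [.ofNat 16,.ofNat 16,.negSucc 15,.negSucc 15,.ofNat 16,.ofNat 16,.negSucc 15,.negSucc 15], [.ofNat 16,.ofNat 32,.ofNat 0,.negSucc 15,.negSucc 15,.negSucc 15,.ofNat 0,.ofNat 0]],
  [[.negSucc 15,.negSucc 31,.ofNat 16,.ofNat 16,.ofNat 0,.ofNat 0,.ofNat 0,.negSucc 15], [.negSucc 15,.negSucc 15,.negSucc 15,.negSucc 15,.ofNat 16,.ofNat 16,.negSucc 15,.negSucc 15], [.ofNat 16,.ofNat 16,.negSucc 15,.negSucc 31,.ofNat 0,.ofNat 16,.ofNat 0,.ofNat 0], [.ofNat 16,.ofNat 32,.ofNat 0,.ofNat 0,.ofNat 0,.negSucc 15,.ofNat 16,.ofNat 16]],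
  [[.ofNat 0,.ofNat 16,.negSucc 15,.negSucc 15,.negSucc 15,.negSucc 31,.ofNat 0,.ofNat 0], [.ofNat 0,.negSucc 15,.ofNat 0,.ofNat 0,.negSucc 15,.negSucc 15,.ofNat 16,.ofNat 32], [.negSucc 15,.negSucc 15,.ofNat 16,.ofNat 16,.ofNat 16,.ofNat 16,.ofNat 16,.ofNat 16], [.ofNat 0,.ofNat 0,.ofNat 0,.ofNat 16,.ofNat 16,.ofNat 32,.negSucc 15,.negSucc 15]],
  [[.ofNat 0,.ofNat 16,.negSucc 15,.negSucc 15,.ofNat 16,.ofNat 32,.ofNat 0,.ofNat 0], [.ofNat 32,.ofNat 32,.ofNat 0,.ofNat 0,.ofNat 0,.ofNat 0,.ofNat 0,.ofNat 0], [.ofNat 0,.ofNat 16,.ofNat 16,.ofNat 16,.negSucc 15,.negSucc 31,.ofNat 0,.ofNat 0], [.negSucc 15,.negSucc 31,.ofNat 0,.ofNat 16,.negSucc 15,.negSucc 15,.ofNat 0,.ofNat 0]],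
  [[.ofNat 0,.ofNat 16,.negSucc 15,.negSucc 31,.ofNat 0,.ofNat 0,.negSucc 15,.negSucc 15], [.ofNat 16,.ofNat 16,.negSucc 15,.negSucc 15,.negSucc 15,.negSucc 15,.ofNat 16,.ofNat 16], [.ofNat 0,.ofNat 0,.ofNat 16,.ofNat 16,.ofNat 0,.negSucc 15,.ofNat 16,.ofNat 32], [.negSucc 15,.negSucc 15,.ofNat 16,.ofNat 32,.ofNat 0,.ofNat 16,.ofNat 0,.ofNat 0]],
  [[.ofNat 0,.ofNat 16,.negSucc 15,.negSucc 31,.ofNat 0,.ofNat 0,.ofNat 16,.ofNat 16], [.ofNat 16,.ofNat 16,.ofNat 0,.ofNat 16,.ofNat 0,.ofNat 0,.ofNat 16,.ofNat 32], [.ofNat 0,.ofNat 0,.ofNat 32,.ofNat 32,.ofNat 0,.ofNat 0,.ofNat 0,.ofNat 0], [.negSucc 15,.negSucc 15,.ofNat 0,.ofNat 16,.ofNat 0,.ofNat 0,.negSucc 15,.negSucc 31]],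
  [[.ofNat 0,.ofNat 16,.ofNat 0,.ofNat 0,.negSucc 15,.negSucc 15,.negSucc 15,.negSucc 31], [.ofNat 0,.negSucc 15,.negSucc 15,.negSucc 15,.negSucc 15,.negSucc 31,.ofNat 0,.ofNat 0], [.negSucc 15,.negSucc 15,.ofNat 0,.negSucc 15,.ofNat 0,.ofNat 0,.ofNat 16,.ofNat 32], [.ofNat 0,.ofNat 0,.ofNat 0,.ofNat 16,.ofNat 16,.ofNat 32,.ofNat 16,.ofNat 16]],
  [[.ofNat 0,.ofNat 16,.ofNat 0,.ofNat 0,.negSucc 15,.negSucc 15,.ofNat 16,.ofNat 32], [.ofNat 0,.negSucc 15,.ofNat 16,.ofNat 32,.ofNat 0,.ofNat 0,.ofNat 16,.ofNat 16], [.negSucc 15,.negSucc 15,.ofNat 16,.ofNat 16,.ofNat 16,.ofNat 16,.negSucc 15,.negSucc 15], [.ofNat 0,.ofNat 0,.negSucc 15,.negSucc 15,.ofNat 0,.ofNat 16,.negSucc 15,.negSucc 31]],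
  [[.ofNat 0,.ofNat 16,.ofNat 0,.ofNat 0,.ofNat 16,.ofNat 16,.negSucc 15,.negSucc 31], [.ofNat 16,.ofNat 16,.negSucc 15,.negSucc 15,.negSucc 15,.negSucc 15,.negSucc 15,.negSucc 15], [.ofNat 0,.ofNat 0,.ofNat 0,.negSucc 15,.negSucc 15,.negSucc 31,.ofNat 16,.ofNat 16], [.negSucc 15,.negSucc 15,.ofNat 0,.ofNat 16,.ofNat 0,.ofNat 0,.ofNat 16,.ofNat 32]],
  [[.ofNat 0,.ofNat 16,.ofNat 0,.ofNat 0,.ofNat 16,.ofNat 16,.ofNat 16,.ofNat 32], [.ofNat 16,.ofNat 16,.ofNat 16,.ofNat 32,.ofNat 0,.ofNat 16,.ofNat 0,.ofNat 0], [.ofNat 0,.ofNat 0,.ofNat 16,.ofNat 16,.ofNat 0,.negSucc 15,.negSucc 15,.negSucc 31], [.negSucc 15,.negSucc 15,.negSucc 15,.negSucc 15,.negSucc 15,.negSucc 15,.negSucc 15,.negSucc 15]],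
  [[.ofNat 0,.ofNat 16,.ofNat 16,.ofNat 32,.ofNat 0,.ofNat 0,.negSucc 15,.negSucc 15], [.ofNat 0,.negSucc 15,.ofNat 0,.ofNat 0,.negSucc 15,.negSucc 15,.negSucc 15,.negSucc 31], [.negSucc 15,.negSucc 15,.negSucc 15,.negSucc 31,.ofNat 0,.negSucc 15,.ofNat 0,.ofNat 0], [.ofNat 0,.ofNat 0,.negSucc 15,.negSucc 15,.ofNat 0,.ofNat 16,.ofNat 16,.ofNat 32]],
  [[.ofNat 0,.ofNat 16,.ofNat 16,.ofNat 32,.ofNat 0,.ofNat 0,.ofNat 16,.ofNat 16], [.ofNat 0,.negSucc 15,.ofNat 16,.ofNat 32,.ofNat 0,.ofNat 0,.negSucc 15,.negSucc 15], [.negSucc 15,.negSucc 15,.ofNat 0,.negSucc 15,.ofNat 0,.ofNat 0,.negSucc 15,.negSucc 31], [.ofNat 0,.ofNat 0,.negSucc 31,.negSucc 31,.ofNat 0,.ofNat 0,.ofNat 0,.ofNat 0]],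
  [[.ofNat 0,.ofNat 16,.ofNat 16,.ofNat 16,.negSucc 15,.negSucc 31,.ofNat 0,.ofNat 0], [.negSucc 15,.negSucc 31,.ofNat 0,.ofNat 16,.negSucc 15,.negSucc 15,.ofNat 0,.ofNat 0], [.negSucc 15,.negSucc 31,.ofNat 0,.negSucc 15,.ofNat 16,.ofNat 16,.ofNat 0,.ofNat 0], [.ofNat 0,.ofNat 16,.negSucc 15,.negSucc 15,.ofNat 16,.ofNat 32,.ofNat 0,.ofNat 0]],
  [[.ofNat 0,.ofNat 16,.ofNat 16,.ofNat 16,.ofNat 16,.ofNat 32,.ofNat 0,.ofNat 0], [.ofNat 16,.ofNat 16,.ofNat 0,.ofNat 16,.ofNat 0,.ofNat 0,.negSucc 15,.negSucc 31], [.ofNat 0,.ofNat 0,.ofNat 0,.negSucc 15,.negSucc 15,.negSucc 31,.negSucc 15,.negSucc 15], [.negSucc 15,.negSucc 15,.negSucc 15,.negSucc 15,.negSucc 15,.negSucc 15,.ofNat 16,.ofNat 16]],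
  [[.negSucc 15,.negSucc 15,.negSucc 15,.negSucc 15,.negSucc 15,.negSucc 15,.negSucc 15,.negSucc 15], [.ofNat 0,.negSucc 15,.negSucc 15,.negSucc 31,.ofNat 0,.ofNat 0,.ofNat 16,.ofNat 16], [.ofNat 0,.ofNat 16,.ofNat 0,.ofNat 0,.ofNat 16,.ofNat 16,.ofNat 16,.ofNat 32], [.ofNat 16,.ofNat 16,.ofNat 16,.ofNat 32,.ofNat 0,.ofNat 16,.ofNat 0,.ofNat 0]],
  [[.negSucc 15,.negSucc 15,.negSucc 15,.negSucc 15,.negSucc 15,.negSucc 15,.ofNat 16,.ofNat 16], [.ofNat 0,.negSucc 15,.ofNat 0,.ofNat 0,.ofNat 16,.ofNat 16,.ofNat 16,.ofNat 32], [.ofNat 0,.ofNat 16,.ofNat 16,.ofNat 16,.ofNat 16,.ofNat 32,.ofNat 0,.ofNat 0], [.ofNat 16,.ofNat 16,.ofNat 0,.ofNat 16,.ofNat 0,.ofNat 0,.negSucc 15,.negSucc 31]],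
  [[.negSucc 15,.negSucc 15,.negSucc 15,.negSucc 15,.ofNat 16,.ofNat 16,.negSucc 15,.negSucc 15], [.ofNat 16,.ofNat 16,.negSucc 15,.negSucc 31,.ofNat 0,.ofNat 16,.ofNat 0,.ofNat 0], [.ofNat 16,.ofNat 32,.ofNat 0,.ofNat 0,.ofNat 0,.negSucc 15,.ofNat 16,.ofNat 16], [.ofNat 0,.ofNat 0,.ofNat 16,.ofNat 32,.negSucc 15,.negSucc 15,.ofNat 0,.ofNat 16]],
  [[.negSucc 15,.negSucc 15,.negSucc 15,.negSucc 15,.ofNat 16,.ofNat 16,.ofNat 16,.ofNat 16], [.ofNat 16,.ofNat 16,.ofNat 0,.ofNat 0,.ofNat 16,.ofNat 32,.ofNat 0,.ofNat 16], [.ofNat 16,.ofNat 32,.ofNat 16,.ofNat 16,.ofNat 0,.ofNat 0,.ofNat 0,.negSucc 15], [.ofNat 0,.ofNat 0,.ofNat 0,.ofNat 16,.negSucc 15,.negSucc 31,.negSucc 15,.negSucc 15]],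
  [[.negSucc 15,.negSucc 15,.ofNat 0,.ofNat 16,.ofNat 0,.ofNat 0,.negSucc 15,.negSucc 31], [.ofNat 0,.negSucc 15,.negSucc 15,.negSucc 31,.ofNat 0,.ofNat 0,.negSucc 15,.negSucc 15], [.ofNat 0,.ofNat 16,.negSucc 15,.negSucc 31,.ofNat 0,.ofNat 0,.ofNat 16,.ofNat 16], [.ofNat 16,.ofNat 16,.ofNat 0,.ofNat 16,.ofNat 0,.ofNat 0,.ofNat 16,.ofNat 32]],
  [[.negSucc 15,.negSucc 15,.ofNat 0,.ofNat 16,.ofNat 0,.ofNat 0,.ofNat 16,.ofNat 32], [.ofNat 0,.negSucc 15,.ofNat 16,.ofNat 16,.ofNat 16,.ofNat 32,.ofNat 0,.ofNat 0], [.ofNat 0,.ofNat 16,.ofNat 0,.ofNat 0,.ofNat 16,.ofNat 16,.negSucc 15,.negSucc 31], [.ofNat 16,.ofNat 16,.negSucc 15,.negSucc 15,.negSucc 15,.negSucc 15,.negSucc 15,.negSucc 15]],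
  [[.negSucc 15,.negSucc 15,.negSucc 15,.negSucc 31,.ofNat 0,.ofNat 16,.ofNat 0,.ofNat 0], [.ofNat 16,.ofNat 16,.negSucc 15,.negSucc 15,.ofNat 16,.ofNat 16,.ofNat 16,.ofNat 16], [.ofNat 16,.ofNat 32,.ofNat 16,.ofNat 16,.ofNat 0,.ofNat 0,.ofNat 0,.ofNat 16], [.ofNat 0,.ofNat 0,.ofNat 16,.ofNat 32,.negSucc 15,.negSucc 15,.ofNat 0,.negSucc 15]],
  [[.negSucc 15,.negSucc 15,.negSucc 15,.negSucc 31,.ofNat 0,.negSucc 15,.ofNat 0,.ofNat 0], [.ofNat 0,.ofNat 0,.negSucc 15,.negSucc 15,.ofNat 0,.ofNat 16,.ofNat 16,.ofNat 32], [.ofNat 16,.ofNat 16,.ofNat 16,.ofNat 16,.ofNat 16,.ofNat 16,.ofNat 16,.ofNat 16], [.ofNat 0,.ofNat 16,.ofNat 16,.ofNat 32,.ofNat 0,.ofNat 0,.negSucc 15,.negSucc 15]],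
  [[.negSucc 15,.negSucc 15,.ofNat 0,.ofNat 0,.negSucc 15,.negSucc 31,.ofNat 0,.ofNat 16], [.negSucc 15,.negSucc 31,.ofNat 0,.ofNat 0,.ofNat 0,.ofNat 16,.ofNat 16,.ofNat 16], [.ofNat 0,.ofNat 0,.ofNat 0,.ofNat 0,.ofNat 32,.ofNat 32,.ofNat 0,.ofNat 0], [.ofNat 16,.ofNat 32,.ofNat 0,.ofNat 0,.ofNat 0,.ofNat 16,.negSucc 15,.negSucc 15]],
  [[.negSucc 15,.negSucc 15,.ofNat 0,.ofNat 0,.negSucc 15,.negSucc 31,.ofNat 0,.negSucc 15], [.negSucc 15,.negSucc 31,.negSucc 15,.negSucc 15,.ofNat 0,.ofNat 0,.ofNat 0,.ofNat 16], [.ofNat 0,.ofNat 0,.ofNat 0,.negSucc 15,.ofNat 16,.ofNat 32,.ofNat 16,.ofNat 16], [.ofNat 16,.ofNat 32,.ofNat 0,.ofNat 16,.ofNat 16,.ofNat 16,.ofNat 0,.ofNat 0]],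
  [[.negSucc 15,.negSucc 15,.ofNat 0,.ofNat 0,.ofNat 16,.ofNat 32,.ofNat 0,.ofNat 16], [.ofNat 16,.ofNat 16,.ofNat 0,.ofNat 0,.ofNat 16,.ofNat 32,.ofNat 0,.negSucc 15], [.ofNat 16,.ofNat 32,.ofNat 0,.ofNat 0,.ofNat 0,.negSucc 15,.negSucc 15,.negSucc 15], [.ofNat 0,.ofNat 0,.ofNat 0,.ofNat 0,.negSucc 31,.negSucc 31,.ofNat 0,.ofNat 0]],
  [[.negSucc 15,.negSucc 15,.ofNat 0,.ofNat 0,.ofNat 16,.ofNat 32,.ofNat 0,.negSucc 15], [.ofNat 16,.ofNat 16,.negSucc 15,.negSucc 15,.ofNat 16,.ofNat 16,.negSucc 15,.negSucc 15], [.ofNat 16,.ofNat 32,.ofNat 0,.negSucc 15,.negSucc 15,.negSucc 15,.ofNat 0,.ofNat 0], [.ofNat 0,.ofNat 0,.ofNat 0,.ofNat 16,.negSucc 15,.negSucc 31,.ofNat 16,.ofNat 16]],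
  [[.negSucc 15,.negSucc 15,.ofNat 16,.ofNat 32,.ofNat 0,.ofNat 16,.ofNat 0,.ofNat 0], [.ofNat 0,.negSucc 15,.ofNat 0,.ofNat 0,.ofNat 16,.ofNat 16,.negSucc 15,.negSucc 31], [.ofNat 0,.ofNat 16,.negSucc 15,.negSucc 31,.ofNat 0,.ofNat 0,.negSucc 15,.negSucc 15], [.ofNat 16,.ofNat 16,.negSucc 15,.negSucc 15,.negSucc 15,.negSucc 15,.ofNat 16,.ofNat 16]],
  [[.negSucc 15,.negSucc 15,.ofNat 16,.ofNat 32,.ofNat 0,.negSucc 15,.ofNat 0,.ofNat 0], [.negSucc 15,.negSucc 31,.ofNat 0,.ofNat 0,.ofNat 0,.ofNat 16,.negSucc 15,.negSucc 15], [.ofNat 0,.ofNat 0,.negSucc 15,.negSucc 31,.ofNat 16,.ofNat 16,.ofNat 0,.negSucc 15], [.ofNat 16,.ofNat 32,.negSucc 15,.negSucc 15,.ofNat 0,.ofNat 0,.ofNat 0,.ofNat 16]],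
  [[.negSucc 15,.negSucc 15,.ofNat 0,.negSucc 15,.ofNat 0,.ofNat 0,.negSucc 15,.negSucc 31], [.ofNat 0,.ofNat 0,.negSucc 31,.negSucc 31,.ofNat 0,.ofNat 0,.ofNat 0,.ofNat 0], [.ofNat 16,.ofNat 16,.ofNat 0,.negSucc 15,.ofNat 0,.ofNat 0,.ofNat 16,.ofNat 32], [.ofNat 0,.ofNat 16,.ofNat 16,.ofNat 32,.ofNat 0,.ofNat 0,.ofNat 16,.ofNat 16]],
  [[.negSucc 15,.negSucc 15,.ofNat 0,.negSucc 15,.ofNat 0,.ofNat 0,.ofNat 16,.ofNat 32], [.ofNat 0,.ofNat 0,.ofNat 0,.ofNat 16,.ofNat 16,.ofNat 32,.ofNat 16,.ofNat 16], [.ofNat 16,.ofNat 16,.ofNat 16,.ofNat 16,.ofNat 16,.ofNat 16,.negSucc 15,.negSucc 15], [.ofNat 0,.ofNat 16,.ofNat 0,.ofNat 0,.negSucc 15,.negSucc 15,.negSucc 15,.negSucc 31]],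
  [[.negSucc 15,.negSucc 15,.ofNat 16,.ofNat 16,.negSucc 15,.negSucc 15,.negSucc 15,.negSucc 15], [.negSucc 15,.negSucc 31,.negSucc 15,.negSucc 15,.ofNat 0,.ofNat 0,.ofNat 0,.negSucc 15], [.ofNat 0,.ofNat 0,.negSucc 15,.negSucc 31,.ofNat 16,.ofNat 16,.ofNat 0,.ofNat 16], [.ofNat 16,.ofNat 32,.ofNat 0,.ofNat 0,.ofNat 0,.ofNat 16,.ofNat 16,.ofNat 16]],
  [[.negSucc 15,.negSucc 15,.ofNat 16,.ofNat 16,.negSucc 15,.negSucc 15,.ofNat 16,.ofNat 16], [.negSucc 15,.negSucc 31,.ofNat 0,.ofNat 16,.ofNat 16,.ofNat 16,.ofNat 0,.ofNat 0], [.ofNat 0,.ofNat 0,.ofNat 0,.negSucc 15,.ofNat 16,.ofNat 32,.negSucc 15,.negSucc 15], [.ofNat 16,.ofNat 32,.negSucc 15,.negSucc 15,.ofNat 0,.ofNat 0,.ofNat 0,.negSucc 15]],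
  [[.negSucc 15,.negSucc 15,.ofNat 16,.ofNat 16,.ofNat 16,.ofNat 16,.negSucc 15,.negSucc 15], [.ofNat 0,.ofNat 0,.negSucc 15,.negSucc 15,.ofNat 0,.ofNat 16,.negSucc 15,.negSucc 31], [.ofNat 16,.ofNat 16,.negSucc 15,.negSucc 31,.ofNat 0,.negSucc 15,.ofNat 0,.ofNat 0], [.ofNat 0,.ofNat 16,.ofNat 0,.ofNat 0,.negSucc 15,.negSucc 15,.ofNat 16,.ofNat 32]],
  [[.negSucc 15,.negSucc 15,.ofNat 16,.ofNat 16,.ofNat 16,.ofNat 16,.ofNat 16,.ofNat 16], [.ofNat 0,.ofNat 0,.ofNat 0,.ofNat 16,.ofNat 16,.ofNat 32,.negSucc 15,.negSucc 15], [.ofNat 16,.ofNat 16,.ofNat 0,.negSucc 15,.ofNat 0,.ofNat 0,.negSucc 15,.negSucc 31], [.ofNat 0,.ofNat 16,.negSucc 15,.negSucc 15,.negSucc 15,.negSucc 31,.ofNat 0,.ofNat 0]]]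

def scanRight : List (List Int) := [
  [.ofNat 2,.ofNat 0,.ofNat 0,.ofNat 0,.ofNat 0,.ofNat 0,.ofNat 0,.ofNat 0],
  [.ofNat 0,.ofNat 2,.ofNat 0,.ofNat 0,.ofNat 0,.ofNat 0,.ofNat 0,.ofNat 0],
  [.ofNat 2,.negSucc 1,.ofNat 0,.ofNat 0,.ofNat 0,.ofNat 0,.ofNat 0,.ofNat 0],
  [.ofNat 2,.ofNat 0,.ofNat 2,.ofNat 0,.ofNat 0,.ofNat 0,.ofNat 0,.ofNat 0],
  [.ofNat 2,.ofNat 0,.ofNat 1,.ofNat 0,.ofNat 1,.negSucc 0,.ofNat 0,.ofNat 1],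
  [.ofNat 2,.ofNat 0,.ofNat 1,.ofNat 0,.ofNat 1,.negSucc 0,.ofNat 0,.negSucc 0],
  [.ofNat 2,.ofNat 0,.ofNat 1,.ofNat 0,.negSucc 0,.ofNat 1,.ofNat 0,.ofNat 1],
  [.ofNat 2,.ofNat 0,.ofNat 1,.ofNat 0,.negSucc 0,.ofNat 1,.ofNat 0,.negSucc 0],
  [.ofNat 2,.ofNat 0,.ofNat 0,.ofNat 2,.ofNat 0,.ofNat 0,.ofNat 0,.ofNat 0],
  [.ofNat 2,.ofNat 0,.ofNat 0,.ofNat 0,.ofNat 0,.ofNat 2,.ofNat 0,.ofNat 0],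
  [.ofNat 2,.ofNat 0,.ofNat 0,.ofNat 0,.ofNat 0,.ofNat 0,.ofNat 0,.ofNat 2],
  [.ofNat 2,.ofNat 0,.ofNat 0,.ofNat 0,.ofNat 0,.ofNat 0,.ofNat 0,.negSucc 1],
  [.ofNat 2,.ofNat 0,.ofNat 0,.ofNat 0,.ofNat 0,.negSucc 1,.ofNat 0,.ofNat 0],
  [.ofNat 2,.ofNat 0,.ofNat 0,.negSucc 1,.ofNat 0,.ofNat 0,.ofNat 0,.ofNat 0],
  [.ofNat 3,.negSucc 0,.ofNat 1,.ofNat 0,.ofNat 0,.ofNat 1,.ofNat 0,.ofNat 0],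
  [.ofNat 3,.negSucc 0,.ofNat 1,.ofNat 0,.ofNat 0,.negSucc 0,.ofNat 0,.ofNat 0],
  [.ofNat 3,.negSucc 0,.ofNat 0,.ofNat 1,.ofNat 0,.ofNat 0,.ofNat 1,.ofNat 0],
  [.ofNat 3,.negSucc 0,.ofNat 0,.ofNat 1,.ofNat 0,.ofNat 0,.negSucc 0,.ofNat 0],
  [.ofNat 3,.negSucc 0,.ofNat 0,.ofNat 0,.ofNat 1,.ofNat 0,.ofNat 0,.ofNat 1],
  [.ofNat 3,.negSucc 0,.ofNat 0,.ofNat 0,.ofNat 1,.ofNat 0,.ofNat 0,.negSucc 0],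
  [.ofNat 3,.ofNat 0,.ofNat 1,.ofNat 0,.ofNat 1,.ofNat 0,.ofNat 1,.ofNat 0],
  [.ofNat 3,.ofNat 0,.ofNat 1,.ofNat 0,.ofNat 1,.ofNat 0,.negSucc 0,.ofNat 0],
  [.ofNat 3,.ofNat 0,.ofNat 1,.ofNat 0,.negSucc 0,.ofNat 0,.ofNat 1,.ofNat 0],
  [.ofNat 3,.ofNat 0,.ofNat 1,.ofNat 0,.negSucc 0,.ofNat 0,.negSucc 0,.ofNat 0],
  [.ofNat 3,.ofNat 0,.ofNat 1,.negSucc 0,.ofNat 0,.ofNat 0,.ofNat 0,.ofNat 1],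
  [.ofNat 3,.ofNat 0,.ofNat 1,.negSucc 0,.ofNat 0,.ofNat 0,.ofNat 0,.negSucc 0],
  [.ofNat 3,.ofNat 0,.ofNat 0,.ofNat 1,.ofNat 1,.negSucc 0,.ofNat 0,.ofNat 0],
  [.ofNat 3,.ofNat 0,.ofNat 0,.ofNat 1,.negSucc 0,.ofNat 1,.ofNat 0,.ofNat 0],
  [.ofNat 3,.ofNat 0,.ofNat 0,.ofNat 0,.ofNat 0,.ofNat 1,.ofNat 1,.negSucc 0],
  [.ofNat 3,.ofNat 0,.ofNat 0,.ofNat 0,.ofNat 0,.ofNat 1,.negSucc 0,.ofNat 1],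
  [.ofNat 4,.ofNat 0,.ofNat 0,.ofNat 0,.ofNat 0,.ofNat 0,.ofNat 0,.ofNat 0],
  [.ofNat 3,.ofNat 0,.ofNat 2,.ofNat 0,.ofNat 0,.ofNat 1,.ofNat 1,.negSucc 0],
  [.ofNat 3,.ofNat 0,.ofNat 2,.ofNat 0,.ofNat 0,.ofNat 1,.negSucc 0,.ofNat 1],
  [.ofNat 3,.ofNat 0,.ofNat 2,.ofNat 0,.ofNat 0,.negSucc 0,.ofNat 1,.negSucc 0],
  [.ofNat 3,.ofNat 0,.ofNat 2,.ofNat 0,.ofNat 0,.negSucc 0,.negSucc 0,.ofNat 1],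
  [.ofNat 3,.ofNat 0,.ofNat 2,.negSucc 0,.ofNat 1,.ofNat 1,.ofNat 0,.ofNat 0],
  [.ofNat 3,.ofNat 0,.ofNat 2,.negSucc 0,.negSucc 0,.negSucc 0,.ofNat 0,.ofNat 0],
  [.ofNat 3,.ofNat 0,.ofNat 1,.ofNat 1,.ofNat 0,.ofNat 0,.ofNat 2,.negSucc 0],
  [.ofNat 3,.ofNat 0,.ofNat 1,.ofNat 1,.ofNat 0,.ofNat 0,.negSucc 1,.ofNat 1],
  [.ofNat 3,.ofNat 0,.ofNat 1,.ofNat 0,.ofNat 1,.ofNat 0,.negSucc 0,.ofNat 2],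
  [.ofNat 3,.ofNat 0,.ofNat 1,.ofNat 0,.ofNat 1,.negSucc 1,.negSucc 0,.ofNat 0],
  [.ofNat 3,.ofNat 0,.ofNat 1,.ofNat 0,.negSucc 0,.ofNat 2,.ofNat 1,.ofNat 0],
  [.ofNat 3,.ofNat 0,.ofNat 1,.ofNat 0,.negSucc 0,.ofNat 0,.ofNat 1,.negSucc 1],
  [.ofNat 3,.ofNat 0,.ofNat 1,.negSucc 0,.ofNat 2,.ofNat 0,.ofNat 0,.ofNat 1],
  [.ofNat 3,.ofNat 0,.ofNat 1,.negSucc 0,.ofNat 2,.ofNat 0,.ofNat 0,.negSucc 0],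
  [.ofNat 3,.ofNat 0,.ofNat 1,.negSucc 0,.negSucc 1,.ofNat 0,.ofNat 0,.ofNat 1],
  [.ofNat 3,.ofNat 0,.ofNat 1,.negSucc 0,.negSucc 1,.ofNat 0,.ofNat 0,.negSucc 0],
  [.ofNat 3,.ofNat 0,.ofNat 1,.negSucc 1,.ofNat 1,.ofNat 0,.ofNat 1,.ofNat 0],
  [.ofNat 3,.ofNat 0,.ofNat 1,.negSucc 1,.negSucc 0,.ofNat 0,.negSucc 0,.ofNat 0],
  [.ofNat 3,.ofNat 0,.ofNat 0,.ofNat 1,.ofNat 1,.negSucc 0,.ofNat 2,.ofNat 0],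
  [.ofNat 3,.ofNat 0,.ofNat 0,.ofNat 1,.negSucc 0,.ofNat 1,.negSucc 1,.ofNat 0],
  [.ofNat 0,.ofNat 0,.ofNat 0,.ofNat 0,.ofNat 0,.ofNat 0,.ofNat 0,.ofNat 0]]

def baseRec : List Rec := [
  ⟨(0, 304), [[.ofNat 16,.ofNat 16,.ofNat 0,.ofNat 0,.ofNat 0,.ofNat 0,.ofNat 0,.ofNat 0,.ofNat 0,.ofNat 0,.ofNat 0,.ofNat 0,.ofNat 0,.ofNat 0,.ofNat 0,.ofNat 0,.ofNat 0,.ofNat 0,.ofNat 0,.ofNat 0,.ofNat 0,.ofNat 0,.ofNat 0,.ofNat 0], [.ofNat 0,.ofNat 8,.ofNat 8,.ofNat 8,.negSucc 7,.negSucc 15,.ofNat 0,.ofNat 0,.ofNat 0,.ofNat 0,.ofNat 0,.ofNat 0,.ofNat 0,.ofNat 0,.ofNat 0,.ofNat 0,.ofNat 0,.ofNat 0,.ofNat 0,.ofNat 0,.ofNat 0,.ofNat 0,.ofNat 0,.ofNat 0], [.negSucc 7,.negSucc 15,.ofNat 0,.ofNat 8,.negSucc 7,.negSucc 7,.ofNat 0,.ofNat 0,.ofNat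 0,.ofNat 0,.ofNat 0,.ofNat 0,.ofNat 0,.ofNat 0,.ofNat 0,.ofNat 0,.ofNat 0,.ofNat 0,.ofNat 0,.ofNat 0,.ofNat 0,.ofNat 0,.ofNat 0,.ofNat 0], [.negSucc 7,.negSucc 15,.ofNat 0,.negSucc 7,.ofNat 8,.ofNat 8,.ofNat 0,.ofNat 0,.ofNat 0,.ofNat 0,.ofNat 0,.ofNat 0,.ofNat 0,.ofNat 0,.ofNat 0,.ofNat 0,.ofNat 0,.ofNat 0,.ofNat 0,.ofNat 0,.ofNat 0,.ofNat 0,.ofNat 0,.ofNat 0]], [.ofNat 8,.ofNat 0,.ofNat 0,.ofNat 0,.ofNat 0,.ofNat 0,.ofNat 0,.ofNat 0,.ofNat 0,.ofNat 0,.ofNat 0,.ofNat 0,.ofNat 0,.ofNat 0,.ofNat 0,.ofNat 0,.ofNat 0,.ofNat 0,.ofNat 0,.ofNat 0,.ofNat 0,.ofNat 0,.ofNat 0,.ofNat 0]⟩,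
  ⟨(1, 304), [[.ofNat 0,.ofNat 0,.ofNat 16,.ofNat 16,.ofNat 0,.ofNat 0,.ofNat 0,.ofNat 0,.ofNat 0,.ofNat 0,.ofNat 0,.ofNat 0,.ofNat 0,.ofNat 0,.ofNat 0,.ofNat 0,.ofNat 0,.ofNat 0,.ofNat 0,.ofNat 0,.ofNat 0,.ofNat 0,.ofNat 0,.ofNat 0], [.negSucc 7,.negSucc 7,.ofNat 0,.ofNat 8,.ofNat 0,.ofNat 0,.ofNat 8,.ofNat 16,.ofNat 0,.ofNat 0,.ofNat 0,.ofNat 0,.ofNat 0,.ofNat 0,.ofNat 0,.ofNat 0,.ofNat 0,.ofNat 0,.ofNat 0,.ofNat 0,.ofNat 0,.ofNat 0,.ofNat 0,.ofNat 0], [.ofNat 0,.negSucc 7,.negSucc 7,.negSucc 15,.ofNat 0,.ofNat 0,.ofNat 8,.ofNat 8,.ofNat 0,.ofNat 0,.ofNat 0,.ofNat 0,.ofNat 0,.ofNat 0,.ofNat 0,.ofNat 0,.ofNat 0,.ofNat 0,.ofNat 0,.ofNat 0,.ofNat 0,.ofNat 0,.ofNat 0,.ofNat 0], [.ofNat 0,.ofNat 8,.negSucc 7,.negSucc 15,.ofNat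 0,.ofNat 0,.negSucc 7,.negSucc 7,.ofNat 0,.ofNat 0,.ofNat 0,.ofNat 0,.ofNat 0,.ofNat 0,.ofNat 0,.ofNat 0,.ofNat 0,.ofNat 0,.ofNat 0,.ofNat 0,.ofNat 0,.ofNat 0,.ofNat 0,.ofNat 0]], [.ofNat 0,.ofNat 0,.ofNat 8,.ofNat 0,.ofNat 0,.ofNat 0,.ofNat 0,.ofNat 0,.ofNat 0,.ofNat 0,.ofNat 0,.ofNat 0,.ofNat 0,.ofNat 0,.ofNat 0,.ofNat 0,.ofNat 0,.ofNat 0,.ofNat 0,.ofNat 0,.ofNat 0,.ofNat 0,.ofNat 0,.ofNat 0]⟩,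
  ⟨(0, 160), [[.ofNat 8,.ofNat 16,.ofNat 0,.ofNat 0,.ofNat 0,.ofNat 0,.ofNat 0,.ofNat 0,.negSucc 3,.negSucc 3,.negSucc 3,.negSucc 3,.negSucc 3,.negSucc 3,.negSucc 3,.negSucc 3,.ofNat 0,.ofNat 4,.ofNat 0,.negSucc 3,.ofNat 0,.negSucc 3,.ofNat 0,.negSucc 3], [.ofNat 4,.ofNat 4,.ofNat 4,.ofNat 8,.negSucc 7,.negSucc 11,.ofNat 0,.ofNat 0,.ofNat 0,.negSucc 3,.ofNat 0,.ofNat 0,.ofNat 4,.ofNat 4,.negSucc 3,.negSucc 7,.ofNat 0,.ofNat 0,.ofNat 0,.ofNat 4,.negSucc 3,.ofNat 0,.negSucc 3,.negSucc 3], [.negSucc 7,.negSucc 11,.ofNat 4,.ofNat 4,.negSucc 3,.negSucc 7,.ofNat 0,.ofNat 0,.ofNat 0,.ofNat 4,.ofNat 4,.ofNat 4,.ofNat 4,.ofNat 8,.ofNat 0,.ofNat 0,.ofNat 0,.negSucc 3,.ofNat 4,.ofNat 4,.ofNat 4,.ofNat 0,.ofNat 0,.ofNat 0], [.negSucc 7,.negSucc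 11,.negSucc 3,.negSucc 3,.ofNat 4,.ofNat 8,.ofNat 0,.ofNat 0,.ofNat 4,.ofNat 4,.ofNat 0,.ofNat 4,.ofNat 0,.ofNat 0,.ofNat 4,.ofNat 8,.negSucc 3,.ofNat 0,.ofNat 0,.ofNat 0,.ofNat 0,.ofNat 4,.ofNat 4,.ofNat 4]], [.ofNat 0,.ofNat 4,.ofNat 0,.ofNat 0,.ofNat 0,.ofNat 0,.ofNat 0,.ofNat 0,.negSucc 1,.ofNat 0,.negSucc 1,.ofNat 0,.negSucc 1,.ofNat 0,.negSucc 1,.ofNat 0,.negSucc 1,.ofNat 2,.ofNat 2,.negSucc 1,.ofNat 2,.negSucc 1,.ofNat 2,.negSucc 1]⟩,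
  ⟨(0, 227), [[.ofNat 8,.ofNat 8,.ofNat 8,.ofNat 8,.ofNat 0,.ofNat 0,.ofNat 0,.ofNat 0,.ofNat 0,.ofNat 0,.ofNat 0,.ofNat 0,.negSucc 7,.negSucc 7,.ofNat 8,.ofNat 8,.ofNat 0,.ofNat 0,.ofNat 0,.ofNat 0,.ofNat 0,.ofNat 0,.ofNat 0,.ofNat 0], [.negSucc 3,.ofNat 0,.ofNat 4,.ofNat 8,.negSucc 3,.negSucc 7,.ofNat 4,.ofNat 8,.negSucc 3,.negSucc 7,.negSucc 3,.negSucc 7,.negSucc 3,.negSucc 7,.negSucc 3,.ofNat 0,.ofNat 0,.ofNat 0,.ofNat 0,.ofNat 0,.ofNat 0,.ofNat 0,.ofNat 0,.ofNat 0], [.negSucc 3,.negSucc 11,.negSucc 3,.negSucc 3,.negSucc 3,.negSucc 3,.ofNat 4,.ofNat 4,.negSucc 3,.negSucc 3,.negSucc 3,.negSucc 3,.ofNat 4,.ofNat 4,.negSucc 3,.negSucc 11,.ofNat 0,.ofNat 0,.ofNat 0,.ofNat 0,.ofNat 0,.ofNat 0,.ofNat 0,.ofNat 0], [.negSucc 3,.negSucc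 3,.negSucc 3,.negSucc 11,.ofNat 4,.ofNat 4,.negSucc 3,.negSucc 3,.ofNat 4,.ofNat 4,.ofNat 4,.ofNat 4,.ofNat 4,.ofNat 12,.negSucc 3,.negSucc 3,.ofNat 0,.ofNat 0,.ofNat 0,.ofNat 0,.ofNat 0,.ofNat 0,.ofNat 0,.ofNat 0]], [.ofNat 4,.ofNat 0,.ofNat 4,.ofNat 0,.ofNat 0,.ofNat 0,.ofNat 0,.ofNat 0,.ofNat 0,.ofNat 0,.ofNat 0,.ofNat 0,.negSucc 3,.ofNat 0,.ofNat 4,.ofNat 0,.ofNat 0,.ofNat 0,.ofNat 0,.ofNat 0,.ofNat 0,.ofNat 0,.ofNat 0,.ofNat 0]⟩,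
  ⟨(0, 161), [[.ofNat 8,.ofNat 16,.ofNat 0,.ofNat 0,.ofNat 0,.ofNat 0,.ofNat 0,.ofNat 0,.negSucc 3,.negSucc 3,.negSucc 3,.negSucc 3,.negSucc 3,.negSucc 3,.negSucc 3,.negSucc 3,.ofNat 0,.negSucc 3,.ofNat 0,.ofNat 4,.ofNat 0,.ofNat 4,.ofNat 0,.ofNat 4], [.ofNat 4,.ofNat 4,.ofNat 4,.ofNat 8,.negSucc 7,.negSucc 11,.ofNat 0,.ofNat 0,.ofNat 0,.negSucc 3,.ofNat 0,.ofNat 0,.ofNat 4,.ofNat 4,.negSucc 3,.negSucc 7,.ofNat 0,.ofNat 0,.ofNat 0,.negSucc 3,.ofNat 4,.ofNat 0,.ofNat 4,.ofNat 4], [.negSucc 7,.negSucc 11,.ofNat 4,.ofNat 4,.negSucc 3,.negSucc 7,.ofNat 0,.ofNat 0,.ofNat 0,.ofNat 4,.ofNat 4,.ofNat 4,.ofNat 4,.ofNat 8,.ofNat 0,.ofNat 0,.ofNat 0,.ofNat 4,.negSucc 3,.negSucc 3,.negSucc 3,.ofNat 0,.ofNat 0,.ofNat 0], [.negSucc 7,.negSucc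 11,.negSucc 3,.negSucc 3,.ofNat 4,.ofNat 8,.ofNat 0,.ofNat 0,.ofNat 4,.ofNat 4,.ofNat 0,.ofNat 4,.ofNat 0,.ofNat 0,.ofNat 4,.ofNat 8,.ofNat 4,.ofNat 0,.ofNat 0,.ofNat 0,.ofNat 0,.negSucc 3,.negSucc 3,.negSucc 3]], [.ofNat 0,.ofNat 4,.ofNat 0,.ofNat 0,.ofNat 0,.ofNat 0,.ofNat 0,.ofNat 0,.negSucc 1,.ofNat 0,.negSucc 1,.ofNat 0,.negSucc 1,.ofNat 0,.negSucc 1,.ofNat 0,.ofNat 2,.negSucc 1,.negSucc 1,.ofNat 2,.negSucc 1,.ofNat 2,.negSucc 1,.ofNat 2]⟩,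
  ⟨(0, 192), [[.ofNat 0,.negSucc 7,.ofNat 0,.ofNat 0,.ofNat 0,.ofNat 0,.ofNat 0,.ofNat 0,.negSucc 3,.negSucc 3,.negSucc 3,.negSucc 3,.negSucc 3,.negSucc 3,.ofNat 4,.ofNat 4,.negSucc 3,.negSucc 7,.negSucc 3,.negSucc 7,.ofNat 4,.ofNat 8,.ofNat 4,.ofNat 8], [.negSucc 3,.ofNat 0,.ofNat 0,.negSucc 3,.ofNat 4,.ofNat 4,.ofNat 0,.ofNat 0,.ofNat 0,.negSucc 3,.negSucc 3,.negSucc 7,.ofNat 0,.ofNat 0,.negSucc 3,.negSucc 3,.ofNat 4,.ofNat 8,.negSucc 7,.negSucc 11,.ofNat 4,.ofNat 4,.ofNat 0,.ofNat 0], [.ofNat 4,.ofNat 4,.negSucc 3,.ofNat 0,.ofNat 0,.ofNat 4,.ofNat 0,.ofNat 0,.ofNat 0,.ofNat 4,.ofNat 0,.ofNat 0,.ofNat 4,.ofNat 4,.negSucc 3,.negSucc 7,.ofNat 8,.ofNat 12,.ofNat 0,.ofNat 0,.negSucc 3,.negSucc 3,.negSucc 3,.negSucc 7], [.ofNat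 4,.ofNat 4,.ofNat 4,.ofNat 0,.ofNat 0,.negSucc 3,.ofNat 0,.ofNat 0,.ofNat 4,.ofNat 4,.ofNat 4,.ofNat 8,.ofNat 0,.ofNat 4,.ofNat 0,.ofNat 0,.ofNat 0,.ofNat 0,.ofNat 8,.ofNat 12,.negSucc 3,.negSucc 7,.negSucc 3,.negSucc 3]], [.ofNat 4,.negSucc 3,.ofNat 0,.ofNat 0,.ofNat 0,.ofNat 0,.ofNat 0,.ofNat 0,.negSucc 1,.ofNat 0,.negSucc 1,.ofNat 0,.negSucc 1,.ofNat 0,.ofNat 2,.ofNat 0,.ofNat 0,.negSucc 1,.ofNat 0,.negSucc 1,.ofNat 0,.ofNat 2,.ofNat 0,.ofNat 2]⟩]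

def candRec1 : List Rec := [
  ⟨(1, 304), [[.ofNat 0,.ofNat 0,.ofNat 16,.ofNat 16,.ofNat 0,.ofNat 0,.ofNat 0,.ofNat 0,.ofNat 0,.ofNat 0,.ofNat 0,.ofNat 0,.ofNat 0,.ofNat 0,.ofNat 0,.ofNat 0,.ofNat 0,.ofNat 0,.ofNat 0,.ofNat 0,.ofNat 0,.ofNat 0,.ofNat 0,.ofNat 0], [.negSucc 7,.negSucc 7,.ofNat 0,.ofNat 8,.ofNat 0,.ofNat 0,.ofNat 8,.ofNat 16,.ofNat 0,.ofNat 0,.ofNat 0,.ofNat 0,.ofNat 0,.ofNat 0,.ofNat 0,.ofNat 0,.ofNat 0,.ofNat 0,.ofNat 0,.ofNat 0,.ofNat 0,.ofNat 0,.ofNat 0,.ofNat 0], [.ofNat 0,.negSucc 7,.negSucc 7,.negSucc 15,.ofNat 0,.ofNat 0,.ofNat 8,.ofNat 8,.ofNat 0,.ofNat 0,.ofNat 0,.ofNat 0,.ofNat 0,.ofNat 0,.ofNat 0,.ofNat 0,.ofNat 0,.ofNat 0,.ofNat 0,.ofNat 0,.ofNat 0,.ofNat 0,.ofNat 0,.ofNat 0], [.ofNat 0,.ofNat 8,.negSucc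 7,.negSucc 15,.ofNat 0,.ofNat 0,.negSucc 7,.negSucc 7,.ofNat 0,.ofNat 0,.ofNat 0,.ofNat 0,.ofNat 0,.ofNat 0,.ofNat 0,.ofNat 0,.ofNat 0,.ofNat 0,.ofNat 0,.ofNat 0,.ofNat 0,.ofNat 0,.ofNat 0,.ofNat 0]], [.ofNat 0,.ofNat 0,.ofNat 8,.ofNat 0,.ofNat 0,.ofNat 0,.ofNat 0,.ofNat 0,.ofNat 0,.ofNat 0,.ofNat 0,.ofNat 0,.ofNat 0,.ofNat 0,.ofNat 0,.ofNat 0,.ofNat 0,.ofNat 0,.ofNat 0,.ofNat 0,.ofNat 0,.ofNat 0,.ofNat 0,.ofNat 0]⟩,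
  ⟨(52, 304), [[.ofNat 0,.ofNat 0,.ofNat 8,.ofNat 8,.ofNat 0,.negSucc 7,.ofNat 8,.ofNat 16,.ofNat 0,.ofNat 0,.ofNat 0,.ofNat 0,.ofNat 0,.ofNat 0,.ofNat 0,.ofNat 0,.ofNat 0,.ofNat 0,.ofNat 0,.ofNat 0,.ofNat 0,.ofNat 0,.ofNat 0,.ofNat 0], [.negSucc 7,.negSucc 7,.negSucc 7,.negSucc 7,.negSucc 7,.negSucc 7,.ofNat 8,.ofNat 8,.ofNat 0,.ofNat 0,.ofNat 0,.ofNat 0,.ofNat 0,.ofNat 0,.ofNat 0,.ofNat 0,.ofNat 0,.ofNat 0,.ofNat 0,.ofNat 0,.ofNat 0,.ofNat 0,.ofNat 0,.ofNat 0], [.ofNat 0,.negSucc 7,.negSucc 7,.negSucc 15,.ofNat 0,.ofNat 0,.negSucc 7,.negSucc 7,.ofNat 0,.ofNat 0,.ofNat 0,.ofNat 0,.ofNat 0,.ofNat 0,.ofNat 0,.ofNat 0,.ofNat 0,.ofNat 0,.ofNat 0,.ofNat 0,.ofNat 0,.ofNat 0,.ofNat 0,.ofNat 0], [.ofNat 0,.ofNat 8,.ofNat 0,.ofNat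 0,.ofNat 8,.ofNat 8,.negSucc 7,.negSucc 15,.ofNat 0,.ofNat 0,.ofNat 0,.ofNat 0,.ofNat 0,.ofNat 0,.ofNat 0,.ofNat 0,.ofNat 0,.ofNat 0,.ofNat 0,.ofNat 0,.ofNat 0,.ofNat 0,.ofNat 0,.ofNat 0]], [.ofNat 0,.ofNat 0,.ofNat 4,.ofNat 0,.ofNat 4,.negSucc 3,.ofNat 0,.ofNat 4,.ofNat 0,.ofNat 0,.ofNat 0,.ofNat 0,.ofNat 0,.ofNat 0,.ofNat 0,.ofNat 0,.ofNat 0,.ofNat 0,.ofNat 0,.ofNat 0,.ofNat 0,.ofNat 0,.ofNat 0,.ofNat 0]⟩,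
  ⟨(53, 304), [[.ofNat 0,.ofNat 0,.ofNat 8,.ofNat 8,.ofNat 0,.negSucc 7,.negSucc 7,.negSucc 15,.ofNat 0,.ofNat 0,.ofNat 0,.ofNat 0,.ofNat 0,.ofNat 0,.ofNat 0,.ofNat 0,.ofNat 0,.ofNat 0,.ofNat 0,.ofNat 0,.ofNat 0,.ofNat 0,.ofNat 0,.ofNat 0], [.negSucc 7,.negSucc 7,.ofNat 8,.ofNat 16,.ofNat 0,.ofNat 8,.ofNat 0,.ofNat 0,.ofNat 0,.ofNat 0,.ofNat 0,.ofNat 0,.ofNat 0,.ofNat 0,.ofNat 0,.ofNat 0,.ofNat 0,.ofNat 0,.ofNat 0,.ofNat 0,.ofNat 0,.ofNat 0,.ofNat 0,.ofNat 0], [.ofNat 0,.negSucc 7,.ofNat 0,.ofNat 0,.ofNat 8,.ofNat 8,.ofNat 8,.ofNat 16,.ofNat 0,.ofNat 0,.ofNat 0,.ofNat 0,.ofNat 0,.ofNat 0,.ofNat 0,.ofNat 0,.ofNat 0,.ofNat 0,.ofNat 0,.ofNat 0,.ofNat 0,.ofNat 0,.ofNat 0,.ofNat 0], [.ofNat 0,.ofNat 8,.negSucc 7,.negSucc 15,.ofNat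 0,.ofNat 0,.ofNat 8,.ofNat 8,.ofNat 0,.ofNat 0,.ofNat 0,.ofNat 0,.ofNat 0,.ofNat 0,.ofNat 0,.ofNat 0,.ofNat 0,.ofNat 0,.ofNat 0,.ofNat 0,.ofNat 0,.ofNat 0,.ofNat 0,.ofNat 0]], [.ofNat 0,.ofNat 0,.ofNat 4,.ofNat 0,.ofNat 4,.negSucc 3,.ofNat 0,.negSucc 3,.ofNat 0,.ofNat 0,.ofNat 0,.ofNat 0,.ofNat 0,.ofNat 0,.ofNat 0,.ofNat 0,.ofNat 0,.ofNat 0,.ofNat 0,.ofNat 0,.ofNat 0,.ofNat 0,.ofNat 0,.ofNat 0]⟩,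
  ⟨(58, 304), [[.ofNat 0,.ofNat 0,.ofNat 0,.negSucc 7,.negSucc 7,.negSucc 15,.ofNat 8,.ofNat 8,.ofNat 0,.ofNat 0,.ofNat 0,.ofNat 0,.ofNat 0,.ofNat 0,.ofNat 0,.ofNat 0,.ofNat 0,.ofNat 0,.ofNat 0,.ofNat 0,.ofNat 0,.ofNat 0,.ofNat 0,.ofNat 0], [.negSucc 7,.negSucc 7,.negSucc 7,.negSucc 7,.negSucc 7,.negSucc 7,.negSucc 7,.negSucc 7,.ofNat 0,.ofNat 0,.ofNat 0,.ofNat 0,.ofNat 0,.ofNat 0,.ofNat 0,.ofNat 0,.ofNat 0,.ofNat 0,.ofNat 0,.ofNat 0,.ofNat 0,.ofNat 0,.ofNat 0,.ofNat 0], [.ofNat 0,.negSucc 7,.ofNat 0,.ofNat 0,.ofNat 8,.ofNat 8,.negSucc 7,.negSucc 15,.ofNat 0,.ofNat 0,.ofNat 0,.ofNat 0,.ofNat 0,.ofNat 0,.ofNat 0,.ofNat 0,.ofNat 0,.ofNat 0,.ofNat 0,.ofNat 0,.ofNat 0,.ofNat 0,.ofNat 0,.ofNat 0], [.ofNat 0,.ofNat 8,.ofNat 8,.ofNat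 8,.ofNat 8,.ofNat 16,.ofNat 0,.ofNat 0,.ofNat 0,.ofNat 0,.ofNat 0,.ofNat 0,.ofNat 0,.ofNat 0,.ofNat 0,.ofNat 0,.ofNat 0,.ofNat 0,.ofNat 0,.ofNat 0,.ofNat 0,.ofNat 0,.ofNat 0,.ofNat 0]], [.ofNat 0,.ofNat 0,.ofNat 4,.negSucc 3,.ofNat 0,.negSucc 3,.ofNat 4,.ofNat 0,.ofNat 0,.ofNat 0,.ofNat 0,.ofNat 0,.ofNat 0,.ofNat 0,.ofNat 0,.ofNat 0,.ofNat 0,.ofNat 0,.ofNat 0,.ofNat 0,.ofNat 0,.ofNat 0,.ofNat 0,.ofNat 0]⟩,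
  ⟨(59, 304), [[.ofNat 0,.ofNat 0,.ofNat 0,.negSucc 7,.negSucc 7,.negSucc 15,.negSucc 7,.negSucc 7,.ofNat 0,.ofNat 0,.ofNat 0,.ofNat 0,.ofNat 0,.ofNat 0,.ofNat 0,.ofNat 0,.ofNat 0,.ofNat 0,.ofNat 0,.ofNat 0,.ofNat 0,.ofNat 0,.ofNat 0,.ofNat 0], [.negSucc 7,.negSucc 7,.ofNat 0,.ofNat 8,.ofNat 0,.ofNat 0,.negSucc 7,.negSucc 15,.ofNat 0,.ofNat 0,.ofNat 0,.ofNat 0,.ofNat 0,.ofNat 0,.ofNat 0,.ofNat 0,.ofNat 0,.ofNat 0,.ofNat 0,.ofNat 0,.ofNat 0,.ofNat 0,.ofNat 0,.ofNat 0], [.ofNat 0,.negSucc 7,.ofNat 8,.ofNat 8,.ofNat 8,.ofNat 16,.ofNat 0,.ofNat 0,.ofNat 0,.ofNat 0,.ofNat 0,.ofNat 0,.ofNat 0,.ofNat 0,.ofNat 0,.ofNat 0,.ofNat 0,.ofNat 0,.ofNat 0,.ofNat 0,.ofNat 0,.ofNat 0,.ofNat 0,.ofNat 0], [.ofNat 0,.ofNat 8,.ofNat 0,.ofNat 0,.ofNat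 8,.ofNat 8,.ofNat 8,.ofNat 16,.ofNat 0,.ofNat 0,.ofNat 0,.ofNat 0,.ofNat 0,.ofNat 0,.ofNat 0,.ofNat 0,.ofNat 0,.ofNat 0,.ofNat 0,.ofNat 0,.ofNat 0,.ofNat 0,.ofNat 0,.ofNat 0]], [.ofNat 0,.ofNat 0,.ofNat 4,.negSucc 3,.ofNat 0,.negSucc 3,.negSucc 3,.ofNat 0,.ofNat 0,.ofNat 0,.ofNat 0,.ofNat 0,.ofNat 0,.ofNat 0,.ofNat 0,.ofNat 0,.ofNat 0,.ofNat 0,.ofNat 0,.ofNat 0,.ofNat 0,.ofNat 0,.ofNat 0,.ofNat 0]⟩]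

def candRec2 : List Rec := [
  ⟨(0, 160), [[.ofNat 8,.ofNat 16,.ofNat 0,.ofNat 0,.ofNat 0,.ofNat 0,.ofNat 0,.ofNat 0,.negSucc 3,.negSucc 3,.negSucc 3,.negSucc 3,.negSucc 3,.negSucc 3,.negSucc 3,.negSucc 3,.ofNat 0,.ofNat 4,.ofNat 0,.negSucc 3,.ofNat 0,.negSucc 3,.ofNat 0,.negSucc 3], [.ofNat 4,.ofNat 4,.ofNat 4,.ofNat 8,.negSucc 7,.negSucc 11,.ofNat 0,.ofNat 0,.ofNat 0,.negSucc 3,.ofNat 0,.ofNat 0,.ofNat 4,.ofNat 4,.negSucc 3,.negSucc 7,.ofNat 0,.ofNat 0,.ofNat 0,.ofNat 4,.negSucc 3,.ofNat 0,.negSucc 3,.negSucc 3], [.negSucc 7,.negSucc 11,.ofNat 4,.ofNat 4,.negSucc 3,.negSucc 7,.ofNat 0,.ofNat 0,.ofNat 0,.ofNat 4,.ofNat 4,.ofNat 4,.ofNat 4,.ofNat 8,.ofNat 0,.ofNat 0,.ofNat 0,.negSucc 3,.ofNat 4,.ofNat 4,.ofNat 4,.ofNat 0,.ofNat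 0,.ofNat 0], [.negSucc 7,.negSucc 11,.negSucc 3,.negSucc 3,.ofNat 4,.ofNat 8,.ofNat 0,.ofNat 0,.ofNat 4,.ofNat 4,.ofNat 0,.ofNat 4,.ofNat 0,.ofNat 0,.ofNat 4,.ofNat 8,.negSucc 3,.ofNat 0,.ofNat 0,.ofNat 0,.ofNat 0,.ofNat 4,.ofNat 4,.ofNat 4]], [.ofNat 0,.ofNat 4,.ofNat 0,.ofNat 0,.ofNat 0,.ofNat 0,.ofNat 0,.ofNat 0,.negSucc 1,.ofNat 0,.negSucc 1,.ofNat 0,.negSucc 1,.ofNat 0,.negSucc 1,.ofNat 0,.negSucc 1,.ofNat 2,.ofNat 2,.negSucc 1,.ofNat 2,.negSucc 1,.ofNat 2,.negSucc 1]⟩,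
  ⟨(0, 161), [[.ofNat 8,.ofNat 16,.ofNat 0,.ofNat 0,.ofNat 0,.ofNat 0,.ofNat 0,.ofNat 0,.negSucc 3,.negSucc 3,.negSucc 3,.negSucc 3,.negSucc 3,.negSucc 3,.negSucc 3,.negSucc 3,.ofNat 0,.negSucc 3,.ofNat 0,.ofNat 4,.ofNat 0,.ofNat 4,.ofNat 0,.ofNat 4], [.ofNat 4,.ofNat 4,.ofNat 4,.ofNat 8,.negSucc 7,.negSucc 11,.ofNat 0,.ofNat 0,.ofNat 0,.negSucc 3,.ofNat 0,.ofNat 0,.ofNat 4,.ofNat 4,.negSucc 3,.negSucc 7,.ofNat 0,.ofNat 0,.ofNat 0,.negSucc 3,.ofNat 4,.ofNat 0,.ofNat 4,.ofNat 4], [.negSucc 7,.negSucc 11,.ofNat 4,.ofNat 4,.negSucc 3,.negSucc 7,.ofNat 0,.ofNat 0,.ofNat 0,.ofNat 4,.ofNat 4,.ofNat 4,.ofNat 4,.ofNat 8,.ofNat 0,.ofNat 0,.ofNat 0,.ofNat 4,.negSucc 3,.negSucc 3,.negSucc 3,.ofNat 0,.ofNat 0,.ofNat 0], [.negSucc 7,.negSucc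 11,.negSucc 3,.negSucc 3,.ofNat 4,.ofNat 8,.ofNat 0,.ofNat 0,.ofNat 4,.ofNat 4,.ofNat 0,.ofNat 4,.ofNat 0,.ofNat 0,.ofNat 4,.ofNat 8,.ofNat 4,.ofNat 0,.ofNat 0,.ofNat 0,.ofNat 0,.negSucc 3,.negSucc 3,.negSucc 3]], [.ofNat 0,.ofNat 4,.ofNat 0,.ofNat 0,.ofNat 0,.ofNat 0,.ofNat 0,.ofNat 0,.negSucc 1,.ofNat 0,.negSucc 1,.ofNat 0,.negSucc 1,.ofNat 0,.negSucc 1,.ofNat 0,.ofNat 2,.negSucc 1,.negSucc 1,.ofNat 2,.negSucc 1,.ofNat 2,.negSucc 1,.ofNat 2]⟩,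
  ⟨(0, 162), [[.ofNat 8,.ofNat 16,.ofNat 0,.ofNat 0,.ofNat 0,.ofNat 0,.ofNat 0,.ofNat 0,.ofNat 4,.ofNat 4,.ofNat 4,.ofNat 4,.ofNat 4,.ofNat 4,.ofNat 4,.ofNat 4,.ofNat 0,.ofNat 4,.ofNat 0,.negSucc 3,.ofNat 0,.negSucc 3,.ofNat 0,.negSucc 3], [.ofNat 4,.ofNat 4,.ofNat 4,.ofNat 8,.negSucc 7,.negSucc 11,.ofNat 0,.ofNat 0,.ofNat 0,.ofNat 4,.ofNat 0,.ofNat 0,.negSucc 3,.negSucc 3,.ofNat 4,.ofNat 8,.ofNat 0,.ofNat 0,.ofNat 0,.ofNat 4,.negSucc 3,.ofNat 0,.negSucc 3,.negSucc 3], [.negSucc 7,.negSucc 11,.ofNat 4,.ofNat 4,.negSucc 3,.negSucc 7,.ofNat 0,.ofNat 0,.ofNat 0,.negSucc 3,.negSucc 3,.negSucc 3,.negSucc 3,.negSucc 7,.ofNat 0,.ofNat 0,.ofNat 0,.negSucc 3,.ofNat 4,.ofNat 4,.ofNat 4,.ofNat 0,.ofNat 0,.ofNat 0], [.negSucc 7,.negSucc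 11,.negSucc 3,.negSucc 3,.ofNat 4,.ofNat 8,.ofNat 0,.ofNat 0,.negSucc 3,.negSucc 3,.ofNat 0,.negSucc 3,.ofNat 0,.ofNat 0,.negSucc 3,.negSucc 7,.negSucc 3,.ofNat 0,.ofNat 0,.ofNat 0,.ofNat 0,.ofNat 4,.ofNat 4,.ofNat 4]], [.ofNat 0,.ofNat 4,.ofNat 0,.ofNat 0,.ofNat 0,.ofNat 0,.ofNat 0,.ofNat 0,.ofNat 2,.ofNat 0,.ofNat 2,.ofNat 0,.ofNat 2,.ofNat 0,.ofNat 2,.ofNat 0,.negSucc 1,.ofNat 2,.ofNat 2,.negSucc 1,.ofNat 2,.negSucc 1,.ofNat 2,.negSucc 1]⟩,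
  ⟨(0, 163), [[.ofNat 8,.ofNat 16,.ofNat 0,.ofNat 0,.ofNat 0,.ofNat 0,.ofNat 0,.ofNat 0,.ofNat 4,.ofNat 4,.ofNat 4,.ofNat 4,.ofNat 4,.ofNat 4,.ofNat 4,.ofNat 4,.ofNat 0,.negSucc 3,.ofNat 0,.ofNat 4,.ofNat 0,.ofNat 4,.ofNat 0,.ofNat 4], [.ofNat 4,.ofNat 4,.ofNat 4,.ofNat 8,.negSucc 7,.negSucc 11,.ofNat 0,.ofNat 0,.ofNat 0,.ofNat 4,.ofNat 0,.ofNat 0,.negSucc 3,.negSucc 3,.ofNat 4,.ofNat 8,.ofNat 0,.ofNat 0,.ofNat 0,.negSucc 3,.ofNat 4,.ofNat 0,.ofNat 4,.ofNat 4], [.negSucc 7,.negSucc 11,.ofNat 4,.ofNat 4,.negSucc 3,.negSucc 7,.ofNat 0,.ofNat 0,.ofNat 0,.negSucc 3,.negSucc 3,.negSucc 3,.negSucc 3,.negSucc 7,.ofNat 0,.ofNat 0,.ofNat 0,.ofNat 4,.negSucc 3,.negSucc 3,.negSucc 3,.ofNat 0,.ofNat 0,.ofNat 0], [.negSucc 7,.negSucc 11,.negSucc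 3,.negSucc 3,.ofNat 4,.ofNat 8,.ofNat 0,.ofNat 0,.negSucc 3,.negSucc 3,.ofNat 0,.negSucc 3,.ofNat 0,.ofNat 0,.negSucc 3,.negSucc 7,.ofNat 4,.ofNat 0,.ofNat 0,.ofNat 0,.ofNat 0,.negSucc 3,.negSucc 3,.negSucc 3]], [.ofNat 0,.ofNat 4,.ofNat 0,.ofNat 0,.ofNat 0,.ofNat 0,.ofNat 0,.ofNat 0,.ofNat 2,.ofNat 0,.ofNat 2,.ofNat 0,.ofNat 2,.ofNat 0,.ofNat 2,.ofNat 0,.ofNat 2,.negSucc 1,.negSucc 1,.ofNat 2,.negSucc 1,.ofNat 2,.negSucc 1,.ofNat 2]⟩,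
  ⟨(0, 164), [[.ofNat 8,.ofNat 16,.ofNat 0,.ofNat 0,.ofNat 0,.ofNat 0,.ofNat 0,.ofNat 0,.negSucc 3,.negSucc 3,.negSucc 3,.negSucc 3,.ofNat 4,.ofNat 4,.ofNat 4,.ofNat 4,.ofNat 0,.ofNat 4,.ofNat 0,.ofNat 4,.ofNat 0,.ofNat 4,.ofNat 0,.negSucc 3], [.ofNat 4,.ofNat 4,.ofNat 4,.ofNat 8,.negSucc 7,.negSucc 11,.ofNat 0,.ofNat 0,.ofNat 4,.ofNat 4,.negSucc 3,.negSucc 7,.ofNat 0,.ofNat 4,.ofNat 0,.ofNat 0,.ofNat 4,.ofNat 0,.ofNat 4,.ofNat 4,.ofNat 0,.ofNat 0,.ofNat 0,.ofNat 4], [.negSucc 7,.negSucc 11,.ofNat 4,.ofNat 4,.negSucc 3,.negSucc 7,.ofNat 0,.ofNat 0,.ofNat 4,.ofNat 8,.ofNat 0,.ofNat 0,.ofNat 0,.negSucc 3,.negSucc 3,.negSucc 3,.negSucc 3,.ofNat 0,.ofNat 0,.ofNat 0,.ofNat 0,.negSucc 3,.ofNat 4,.ofNat 4], [.negSucc 7,.negSucc 11,.negSucc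 3,.negSucc 3,.ofNat 4,.ofNat 8,.ofNat 0,.ofNat 0,.ofNat 0,.ofNat 0,.ofNat 4,.ofNat 8,.negSucc 3,.negSucc 3,.ofNat 0,.negSucc 3,.ofNat 0,.negSucc 3,.negSucc 3,.negSucc 3,.negSucc 3,.ofNat 0,.ofNat 0,.ofNat 0]], [.ofNat 0,.ofNat 4,.ofNat 0,.ofNat 0,.ofNat 0,.ofNat 0,.ofNat 0,.ofNat 0,.negSucc 1,.ofNat 0,.negSucc 1,.ofNat 0,.ofNat 2,.ofNat 0,.ofNat 2,.ofNat 0,.negSucc 1,.ofNat 2,.negSucc 1,.ofNat 2,.negSucc 1,.ofNat 2,.ofNat 2,.negSucc 1]⟩,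
  ⟨(0, 165), [[.ofNat 8,.ofNat 16,.ofNat 0,.ofNat 0,.ofNat 0,.ofNat 0,.ofNat 0,.ofNat 0,.negSucc 3,.negSucc 3,.negSucc 3,.negSucc 3,.ofNat 4,.ofNat 4,.ofNat 4,.ofNat 4,.ofNat 0,.negSucc 3,.ofNat 0,.negSucc 3,.ofNat 0,.negSucc 3,.ofNat 0,.ofNat 4], [.ofNat 4,.ofNat 4,.ofNat 4,.ofNat 8,.negSucc 7,.negSucc 11,.ofNat 0,.ofNat 0,.ofNat 4,.ofNat 4,.negSucc 3,.negSucc 7,.ofNat 0,.ofNat 4,.ofNat 0,.ofNat 0,.negSucc 3,.ofNat 0,.negSucc 3,.negSucc 3,.ofNat 0,.ofNat 0,.ofNat 0,.negSucc 3], [.negSucc 7,.negSucc 11,.ofNat 4,.ofNat 4,.negSucc 3,.negSucc 7,.ofNat 0,.ofNat 0,.ofNat 4,.ofNat 8,.ofNat 0,.ofNat 0,.ofNat 0,.negSucc 3,.negSucc 3,.negSucc 3,.ofNat 4,.ofNat 0,.ofNat 0,.ofNat 0,.ofNat 0,.ofNat 4,.negSucc 3,.negSucc 3], [.negSucc 7,.negSucc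 11,.negSucc 3,.negSucc 3,.ofNat 4,.ofNat 8,.ofNat 0,.ofNat 0,.ofNat 0,.ofNat 0,.ofNat 4,.ofNat 8,.negSucc 3,.negSucc 3,.ofNat 0,.negSucc 3,.ofNat 0,.ofNat 4,.ofNat 4,.ofNat 4,.ofNat 4,.ofNat 0,.ofNat 0,.ofNat 0]], [.ofNat 0,.ofNat 4,.ofNat 0,.ofNat 0,.ofNat 0,.ofNat 0,.ofNat 0,.ofNat 0,.negSucc 1,.ofNat 0,.negSucc 1,.ofNat 0,.ofNat 2,.ofNat 0,.ofNat 2,.ofNat 0,.ofNat 2,.negSucc 1,.ofNat 2,.negSucc 1,.ofNat 2,.negSucc 1,.negSucc 1,.ofNat 2]⟩,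
  ⟨(0, 166), [[.ofNat 8,.ofNat 16,.ofNat 0,.ofNat 0,.ofNat 0,.ofNat 0,.ofNat 0,.ofNat 0,.ofNat 4,.ofNat 4,.ofNat 4,.ofNat 4,.negSucc 3,.negSucc 3,.negSucc 3,.negSucc 3,.ofNat 0,.ofNat 4,.ofNat 0,.ofNat 4,.ofNat 0,.ofNat 4,.ofNat 0,.negSucc 3], [.ofNat 4,.ofNat 4,.ofNat 4,.ofNat 8,.negSucc 7,.negSucc 11,.ofNat 0,.ofNat 0,.negSucc 3,.negSucc 3,.ofNat 4,.ofNat 8,.ofNat 0,.negSucc 3,.ofNat 0,.ofNat 0,.ofNat 4,.ofNat 0,.ofNat 4,.ofNat 4,.ofNat 0,.ofNat 0,.ofNat 0,.ofNat 4], [.negSucc 7,.negSucc 11,.ofNat 4,.ofNat 4,.negSucc 3,.negSucc 7,.ofNat 0,.ofNat 0,.negSucc 3,.negSucc 7,.ofNat 0,.ofNat 0,.ofNat 0,.ofNat 4,.ofNat 4,.ofNat 4,.negSucc 3,.ofNat 0,.ofNat 0,.ofNat 0,.ofNat 0,.negSucc 3,.ofNat 4,.ofNat 4], [.negSucc 7,.negSucc 11,.negSucc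 3,.negSucc 3,.ofNat 4,.ofNat 8,.ofNat 0,.ofNat 0,.ofNat 0,.ofNat 0,.negSucc 3,.negSucc 7,.ofNat 4,.ofNat 4,.ofNat 0,.ofNat 4,.ofNat 0,.negSucc 3,.negSucc 3,.negSucc 3,.negSucc 3,.ofNat 0,.ofNat 0,.ofNat 0]], [.ofNat 0,.ofNat 4,.ofNat 0,.ofNat 0,.ofNat 0,.ofNat 0,.ofNat 0,.ofNat 0,.ofNat 2,.ofNat 0,.ofNat 2,.ofNat 0,.negSucc 1,.ofNat 0,.negSucc 1,.ofNat 0,.negSucc 1,.ofNat 2,.negSucc 1,.ofNat 2,.negSucc 1,.ofNat 2,.ofNat 2,.negSucc 1]⟩,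
  ⟨(0, 167), [[.ofNat 8,.ofNat 16,.ofNat 0,.ofNat 0,.ofNat 0,.ofNat 0,.ofNat 0,.ofNat 0,.ofNat 4,.ofNat 4,.ofNat 4,.ofNat 4,.negSucc 3,.negSucc 3,.negSucc 3,.negSucc 3,.ofNat 0,.negSucc 3,.ofNat 0,.negSucc 3,.ofNat 0,.negSucc 3,.ofNat 0,.ofNat 4], [.ofNat 4,.ofNat 4,.ofNat 4,.ofNat 8,.negSucc 7,.negSucc 11,.ofNat 0,.ofNat 0,.negSucc 3,.negSucc 3,.ofNat 4,.ofNat 8,.ofNat 0,.negSucc 3,.ofNat 0,.ofNat 0,.negSucc 3,.ofNat 0,.negSucc 3,.negSucc 3,.ofNat 0,.ofNat 0,.ofNat 0,.negSucc 3], [.negSucc 7,.negSucc 11,.ofNat 4,.ofNat 4,.negSucc 3,.negSucc 7,.ofNat 0,.ofNat 0,.negSucc 3,.negSucc 7,.ofNat 0,.ofNat 0,.ofNat 0,.ofNat 4,.ofNat 4,.ofNat 4,.ofNat 4,.ofNat 0,.ofNat 0,.ofNat 0,.ofNat 0,.ofNat 4,.negSucc 3,.negSucc 3], [.negSucc 7,.negSucc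 11,.negSucc 3,.negSucc 3,.ofNat 4,.ofNat 8,.ofNat 0,.ofNat 0,.ofNat 0,.ofNat 0,.negSucc 3,.negSucc 7,.ofNat 4,.ofNat 4,.ofNat 0,.ofNat 4,.ofNat 0,.ofNat 4,.ofNat 4,.ofNat 4,.ofNat 4,.ofNat 0,.ofNat 0,.ofNat 0]], [.ofNat 0,.ofNat 4,.ofNat 0,.ofNat 0,.ofNat 0,.ofNat 0,.ofNat 0,.ofNat 0,.ofNat 2,.ofNat 0,.ofNat 2,.ofNat 0,.negSucc 1,.ofNat 0,.negSucc 1,.ofNat 0,.ofNat 2,.negSucc 1,.ofNat 2,.negSucc 1,.ofNat 2,.negSucc 1,.negSucc 1,.ofNat 2]⟩,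
  ⟨(0, 168), [[.ofNat 8,.ofNat 16,.ofNat 0,.ofNat 0,.ofNat 0,.ofNat 0,.ofNat 0,.ofNat 0,.negSucc 3,.negSucc 3,.ofNat 4,.ofNat 4,.negSucc 3,.negSucc 3,.ofNat 4,.ofNat 4,.ofNat 0,.ofNat 4,.ofNat 0,.negSucc 3,.ofNat 0,.ofNat 4,.ofNat 0,.ofNat 4], [.ofNat 4,.ofNat 4,.ofNat 4,.ofNat 8,.negSucc 7,.negSucc 11,.ofNat 0,.ofNat 0,.negSucc 3,.negSucc 7,.negSucc 3,.negSucc 3,.ofNat 0,.ofNat 0,.ofNat 0,.ofNat 4,.ofNat 4,.ofNat 4,.negSucc 3,.ofNat 0,.ofNat 0,.negSucc 3,.ofNat 0,.ofNat 0], [.negSucc 7,.negSucc 11,.ofNat 4,.ofNat 4,.negSucc 3,.negSucc 7,.ofNat 0,.ofNat 0,.ofNat 0,.ofNat 0,.negSucc 3,.negSucc 7,.ofNat 4,.ofNat 4,.ofNat 0,.negSucc 3,.ofNat 0,.ofNat 0,.ofNat 4,.ofNat 0,.negSucc 3,.negSucc 3,.ofNat 0,.negSucc 3], [.negSucc 7,.negSucc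 11,.negSucc 3,.negSucc 3,.ofNat 4,.ofNat 8,.ofNat 0,.ofNat 0,.ofNat 4,.ofNat 8,.ofNat 0,.ofNat 0,.ofNat 0,.ofNat 4,.negSucc 3,.negSucc 3,.negSucc 3,.negSucc 3,.ofNat 0,.ofNat 4,.ofNat 0,.ofNat 0,.negSucc 3,.ofNat 0]], [.ofNat 0,.ofNat 4,.ofNat 0,.ofNat 0,.ofNat 0,.ofNat 0,.ofNat 0,.ofNat 0,.negSucc 1,.ofNat 0,.ofNat 2,.ofNat 0,.negSucc 1,.ofNat 0,.ofNat 2,.ofNat 0,.negSucc 1,.ofNat 2,.ofNat 2,.negSucc 1,.negSucc 1,.ofNat 2,.negSucc 1,.ofNat 2]⟩,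
  ⟨(0, 169), [[.ofNat 8,.ofNat 16,.ofNat 0,.ofNat 0,.ofNat 0,.ofNat 0,.ofNat 0,.ofNat 0,.negSucc 3,.negSucc 3,.ofNat 4,.ofNat 4,.negSucc 3,.negSucc 3,.ofNat 4,.ofNat 4,.ofNat 0,.negSucc 3,.ofNat 0,.ofNat 4,.ofNat 0,.negSucc 3,.ofNat 0,.negSucc 3], [.ofNat 4,.ofNat 4,.ofNat 4,.ofNat 8,.negSucc 7,.negSucc 11,.ofNat 0,.ofNat 0,.negSucc 3,.negSucc 7,.negSucc 3,.negSucc 3,.ofNat 0,.ofNat 0,.ofNat 0,.ofNat 4,.negSucc 3,.negSucc 3,.ofNat 4,.ofNat 0,.ofNat 0,.ofNat 4,.ofNat 0,.ofNat 0], [.negSucc 7,.negSucc 11,.ofNat 4,.ofNat 4,.negSucc 3,.negSucc 7,.ofNat 0,.ofNat 0,.ofNat 0,.ofNat 0,.negSucc 3,.negSucc 7,.ofNat 4,.ofNat 4,.ofNat 0,.negSucc 3,.ofNat 0,.ofNat 0,.negSucc 3,.ofNat 0,.ofNat 4,.ofNat 4,.ofNat 0,.ofNat 4], [.negSucc 7,.negSucc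 11,.negSucc 3,.negSucc 3,.ofNat 4,.ofNat 8,.ofNat 0,.ofNat 0,.ofNat 4,.ofNat 8,.ofNat 0,.ofNat 0,.ofNat 0,.ofNat 4,.negSucc 3,.negSucc 3,.ofNat 4,.ofNat 4,.ofNat 0,.negSucc 3,.ofNat 0,.ofNat 0,.ofNat 4,.ofNat 0]], [.ofNat 0,.ofNat 4,.ofNat 0,.ofNat 0,.ofNat 0,.ofNat 0,.ofNat 0,.ofNat 0,.negSucc 1,.ofNat 0,.ofNat 2,.ofNat 0,.negSucc 1,.ofNat 0,.ofNat 2,.ofNat 0,.ofNat 2,.negSucc 1,.negSucc 1,.ofNat 2,.ofNat 2,.negSucc 1,.ofNat 2,.negSucc 1]⟩,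
  ⟨(0, 170), [[.ofNat 8,.ofNat 16,.ofNat 0,.ofNat 0,.ofNat 0,.ofNat 0,.ofNat 0,.ofNat 0,.ofNat 4,.ofNat 4,.negSucc 3,.negSucc 3,.ofNat 4,.ofNat 4,.negSucc 3,.negSucc 3,.ofNat 0,.ofNat 4,.ofNat 0,.negSucc 3,.ofNat 0,.ofNat 4,.ofNat 0,.ofNat 4], [.ofNat 4,.ofNat 4,.ofNat 4,.ofNat 8,.negSucc 7,.negSucc 11,.ofNat 0,.ofNat 0,.ofNat 4,.ofNat 8,.ofNat 4,.ofNat 4,.ofNat 0,.ofNat 0,.ofNat 0,.negSucc 3,.ofNat 4,.ofNat 4,.negSucc 3,.ofNat 0,.ofNat 0,.negSucc 3,.ofNat 0,.ofNat 0], [.negSucc 7,.negSucc 11,.ofNat 4,.ofNat 4,.negSucc 3,.negSucc 7,.ofNat 0,.ofNat 0,.ofNat 0,.ofNat 0,.ofNat 4,.ofNat 8,.negSucc 3,.negSucc 3,.ofNat 0,.ofNat 4,.ofNat 0,.ofNat 0,.ofNat 4,.ofNat 0,.negSucc 3,.negSucc 3,.ofNat 0,.negSucc 3], [.negSucc 7,.negSucc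 11,.negSucc 3,.negSucc 3,.ofNat 4,.ofNat 8,.ofNat 0,.ofNat 0,.negSucc 3,.negSucc 7,.ofNat 0,.ofNat 0,.ofNat 0,.negSucc 3,.ofNat 4,.ofNat 4,.negSucc 3,.negSucc 3,.ofNat 0,.ofNat 4,.ofNat 0,.ofNat 0,.negSucc 3,.ofNat 0]], [.ofNat 0,.ofNat 4,.ofNat 0,.ofNat 0,.ofNat 0,.ofNat 0,.ofNat 0,.ofNat 0,.ofNat 2,.ofNat 0,.negSucc 1,.ofNat 0,.ofNat 2,.ofNat 0,.negSucc 1,.ofNat 0,.negSucc 1,.ofNat 2,.ofNat 2,.negSucc 1,.negSucc 1,.ofNat 2,.negSucc 1,.ofNat 2]⟩,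
  ⟨(0, 171), [[.ofNat 8,.ofNat 16,.ofNat 0,.ofNat 0,.ofNat 0,.ofNat 0,.ofNat 0,.ofNat 0,.ofNat 4,.ofNat 4,.negSucc 3,.negSucc 3,.ofNat 4,.ofNat 4,.negSucc 3,.negSucc 3,.ofNat 0,.negSucc 3,.ofNat 0,.ofNat 4,.ofNat 0,.negSucc 3,.ofNat 0,.negSucc 3], [.ofNat 4,.ofNat 4,.ofNat 4,.ofNat 8,.negSucc 7,.negSucc 11,.ofNat 0,.ofNat 0,.ofNat 4,.ofNat 8,.ofNat 4,.ofNat 4,.ofNat 0,.ofNat 0,.ofNat 0,.negSucc 3,.negSucc 3,.negSucc 3,.ofNat 4,.ofNat 0,.ofNat 0,.ofNat 4,.ofNat 0,.ofNat 0], [.negSucc 7,.negSucc 11,.ofNat 4,.ofNat 4,.negSucc 3,.negSucc 7,.ofNat 0,.ofNat 0,.ofNat 0,.ofNat 0,.ofNat 4,.ofNat 8,.negSucc 3,.negSucc 3,.ofNat 0,.ofNat 4,.ofNat 0,.ofNat 0,.negSucc 3,.ofNat 0,.ofNat 4,.ofNat 4,.ofNat 0,.ofNat 4], [.negSucc 7,.negSucc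 11,.negSucc 3,.negSucc 3,.ofNat 4,.ofNat 8,.ofNat 0,.ofNat 0,.negSucc 3,.negSucc 7,.ofNat 0,.ofNat 0,.ofNat 0,.negSucc 3,.ofNat 4,.ofNat 4,.ofNat 4,.ofNat 4,.ofNat 0,.negSucc 3,.ofNat 0,.ofNat 0,.ofNat 4,.ofNat 0]], [.ofNat 0,.ofNat 4,.ofNat 0,.ofNat 0,.ofNat 0,.ofNat 0,.ofNat 0,.ofNat 0,.ofNat 2,.ofNat 0,.negSucc 1,.ofNat 0,.ofNat 2,.ofNat 0,.negSucc 1,.ofNat 0,.ofNat 2,.negSucc 1,.negSucc 1,.ofNat 2,.ofNat 2,.negSucc 1,.ofNat 2,.negSucc 1]⟩,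
  ⟨(0, 172), [[.ofNat 8,.ofNat 16,.ofNat 0,.ofNat 0,.ofNat 0,.ofNat 0,.ofNat 0,.ofNat 0,.negSucc 3,.negSucc 3,.ofNat 4,.ofNat 4,.ofNat 4,.ofNat 4,.negSucc 3,.negSucc 3,.ofNat 0,.ofNat 4,.ofNat 0,.ofNat 4,.ofNat 0,.negSucc 3,.ofNat 0,.ofNat 4], [.ofNat 4,.ofNat 4,.ofNat 4,.ofNat 8,.negSucc 7,.negSucc 11,.ofNat 0,.ofNat 0,.ofNat 0,.ofNat 0,.ofNat 0,.ofNat 4,.ofNat 4,.ofNat 8,.ofNat 4,.ofNat 4,.ofNat 0,.negSucc 3,.ofNat 0,.ofNat 0,.negSucc 3,.negSucc 3,.ofNat 4,.ofNat 0], [.negSucc 7,.negSucc 11,.ofNat 4,.ofNat 4,.negSucc 3,.negSucc 7,.ofNat 0,.ofNat 0,.ofNat 4,.ofNat 4,.ofNat 0,.negSucc 3,.ofNat 0,.ofNat 0,.ofNat 4,.ofNat 8,.negSucc 3,.negSucc 3,.ofNat 0,.negSucc 3,.ofNat 0,.ofNat 0,.negSucc 3,.ofNat 0], [.negSucc 7,.negSucc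 11,.negSucc 3,.negSucc 3,.ofNat 4,.ofNat 8,.ofNat 0,.ofNat 0,.ofNat 0,.ofNat 4,.negSucc 3,.negSucc 3,.negSucc 3,.negSucc 7,.ofNat 0,.ofNat 0,.ofNat 0,.ofNat 0,.negSucc 3,.ofNat 0,.ofNat 4,.ofNat 4,.ofNat 0,.negSucc 3]], [.ofNat 0,.ofNat 4,.ofNat 0,.ofNat 0,.ofNat 0,.ofNat 0,.ofNat 0,.ofNat 0,.negSucc 1,.ofNat 0,.ofNat 2,.ofNat 0,.ofNat 2,.ofNat 0,.negSucc 1,.ofNat 0,.negSucc 1,.ofNat 2,.negSucc 1,.ofNat 2,.ofNat 2,.negSucc 1,.negSucc 1,.ofNat 2]⟩,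
  ⟨(0, 173), [[.ofNat 8,.ofNat 16,.ofNat 0,.ofNat 0,.ofNat 0,.ofNat 0,.ofNat 0,.ofNat 0,.negSucc 3,.negSucc 3,.ofNat 4,.ofNat 4,.ofNat 4,.ofNat 4,.negSucc 3,.negSucc 3,.ofNat 0,.negSucc 3,.ofNat 0,.negSucc 3,.ofNat 0,.ofNat 4,.ofNat 0,.negSucc 3], [.ofNat 4,.ofNat 4,.ofNat 4,.ofNat 8,.negSucc 7,.negSucc 11,.ofNat 0,.ofNat 0,.ofNat 0,.ofNat 0,.ofNat 0,.ofNat 4,.ofNat 4,.ofNat 8,.ofNat 4,.ofNat 4,.ofNat 0,.ofNat 4,.ofNat 0,.ofNat 0,.ofNat 4,.ofNat 4,.negSucc 3,.ofNat 0], [.negSucc 7,.negSucc 11,.ofNat 4,.ofNat 4,.negSucc 3,.negSucc 7,.ofNat 0,.ofNat 0,.ofNat 4,.ofNat 4,.ofNat 0,.negSucc 3,.ofNat 0,.ofNat 0,.ofNat 4,.ofNat 8,.ofNat 4,.ofNat 4,.ofNat 0,.ofNat 4,.ofNat 0,.ofNat 0,.ofNat 4,.ofNat 0], [.negSucc 7,.negSucc 11,.negSucc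 3,.negSucc 3,.ofNat 4,.ofNat 8,.ofNat 0,.ofNat 0,.ofNat 0,.ofNat 4,.negSucc 3,.negSucc 3,.negSucc 3,.negSucc 7,.ofNat 0,.ofNat 0,.ofNat 0,.ofNat 0,.ofNat 4,.ofNat 0,.negSucc 3,.negSucc 3,.ofNat 0,.ofNat 4]], [.ofNat 0,.ofNat 4,.ofNat 0,.ofNat 0,.ofNat 0,.ofNat 0,.ofNat 0,.ofNat 0,.negSucc 1,.ofNat 0,.ofNat 2,.ofNat 0,.ofNat 2,.ofNat 0,.negSucc 1,.ofNat 0,.ofNat 2,.negSucc 1,.ofNat 2,.negSucc 1,.negSucc 1,.ofNat 2,.ofNat 2,.negSucc 1]⟩,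
  ⟨(0, 174), [[.ofNat 8,.ofNat 16,.ofNat 0,.ofNat 0,.ofNat 0,.ofNat 0,.ofNat 0,.ofNat 0,.ofNat 4,.ofNat 4,.negSucc 3,.negSucc 3,.negSucc 3,.negSucc 3,.ofNat 4,.ofNat 4,.ofNat 0,.ofNat 4,.ofNat 0,.ofNat 4,.ofNat 0,.negSucc 3,.ofNat 0,.ofNat 4], [.ofNat 4,.ofNat 4,.ofNat 4,.ofNat 8,.negSucc 7,.negSucc 11,.ofNat 0,.ofNat 0,.ofNat 0,.ofNat 0,.ofNat 0,.negSucc 3,.negSucc 3,.negSucc 7,.negSucc 3,.negSucc 3,.ofNat 0,.negSucc 3,.ofNat 0,.ofNat 0,.negSucc 3,.negSucc 3,.ofNat 4,.ofNat 0], [.negSucc 7,.negSucc 11,.ofNat 4,.ofNat 4,.negSucc 3,.negSucc 7,.ofNat 0,.ofNat 0,.negSucc 3,.negSucc 3,.ofNat 0,.ofNat 4,.ofNat 0,.ofNat 0,.negSucc 3,.negSucc 7,.negSucc 3,.negSucc 3,.ofNat 0,.negSucc 3,.ofNat 0,.ofNat 0,.negSucc 3,.ofNat 0], [.negSucc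 7,.negSucc 11,.negSucc 3,.negSucc 3,.ofNat 4,.ofNat 8,.ofNat 0,.ofNat 0,.ofNat 0,.negSucc 3,.ofNat 4,.ofNat 4,.ofNat 4,.ofNat 8,.ofNat 0,.ofNat 0,.ofNat 0,.ofNat 0,.negSucc 3,.ofNat 0,.ofNat 4,.ofNat 4,.ofNat 0,.negSucc 3]], [.ofNat 0,.ofNat 4,.ofNat 0,.ofNat 0,.ofNat 0,.ofNat 0,.ofNat 0,.ofNat 0,.ofNat 2,.ofNat 0,.negSucc 1,.ofNat 0,.negSucc 1,.ofNat 0,.ofNat 2,.ofNat 0,.negSucc 1,.ofNat 2,.negSucc 1,.ofNat 2,.ofNat 2,.negSucc 1,.negSucc 1,.ofNat 2]⟩,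
  ⟨(0, 175), [[.ofNat 8,.ofNat 16,.ofNat 0,.ofNat 0,.ofNat 0,.ofNat 0,.ofNat 0,.ofNat 0,.ofNat 4,.ofNat 4,.negSucc 3,.negSucc 3,.negSucc 3,.negSucc 3,.ofNat 4,.ofNat 4,.ofNat 0,.negSucc 3,.ofNat 0,.negSucc 3,.ofNat 0,.ofNat 4,.ofNat 0,.negSucc 3], [.ofNat 4,.ofNat 4,.ofNat 4,.ofNat 8,.negSucc 7,.negSucc 11,.ofNat 0,.ofNat 0,.ofNat 0,.ofNat 0,.ofNat 0,.negSucc 3,.negSucc 3,.negSucc 7,.negSucc 3,.negSucc 3,.ofNat 0,.ofNat 4,.ofNat 0,.ofNat 0,.ofNat 4,.ofNat 4,.negSucc 3,.ofNat 0], [.negSucc 7,.negSucc 11,.ofNat 4,.ofNat 4,.negSucc 3,.negSucc 7,.ofNat 0,.ofNat 0,.negSucc 3,.negSucc 3,.ofNat 0,.ofNat 4,.ofNat 0,.ofNat 0,.negSucc 3,.negSucc 7,.ofNat 4,.ofNat 4,.ofNat 0,.ofNat 4,.ofNat 0,.ofNat 0,.ofNat 4,.ofNat 0], [.negSucc 7,.negSucc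 11,.negSucc 3,.negSucc 3,.ofNat 4,.ofNat 8,.ofNat 0,.ofNat 0,.ofNat 0,.negSucc 3,.ofNat 4,.ofNat 4,.ofNat 4,.ofNat 8,.ofNat 0,.ofNat 0,.ofNat 0,.ofNat 0,.ofNat 4,.ofNat 0,.negSucc 3,.negSucc 3,.ofNat 0,.ofNat 4]], [.ofNat 0,.ofNat 4,.ofNat 0,.ofNat 0,.ofNat 0,.ofNat 0,.ofNat 0,.ofNat 0,.ofNat 2,.ofNat 0,.negSucc 1,.ofNat 0,.negSucc 1,.ofNat 0,.ofNat 2,.ofNat 0,.ofNat 2,.negSucc 1,.ofNat 2,.negSucc 1,.negSucc 1,.ofNat 2,.ofNat 2,.negSucc 1]⟩,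
  ⟨(0, 176), [[.ofNat 8,.ofNat 16,.ofNat 0,.ofNat 0,.ofNat 0,.ofNat 0,.ofNat 0,.ofNat 0,.ofNat 0,.ofNat 4,.ofNat 0,.ofNat 4,.ofNat 0,.ofNat 4,.ofNat 0,.negSucc 3,.negSucc 3,.negSucc 3,.negSucc 3,.negSucc 3,.ofNat 4,.ofNat 4,.ofNat 4,.ofNat 4], [.ofNat 4,.ofNat 4,.ofNat 4,.ofNat 8,.negSucc 7,.negSucc 11,.ofNat 0,.ofNat 0,.ofNat 4,.ofNat 0,.ofNat 4,.ofNat 4,.ofNat 0,.ofNat 0,.ofNat 0,.ofNat 4,.ofNat 4,.ofNat 4,.negSucc 3,.negSucc 7,.ofNat 0,.ofNat 4,.ofNat 0,.ofNat 0], [.negSucc 7,.negSucc 11,.ofNat 4,.ofNat 4,.negSucc 3,.negSucc 7,.ofNat 0,.ofNat 0,.negSucc 3,.ofNat 0,.ofNat 0,.ofNat 0,.ofNat 0,.negSucc 3,.ofNat 4,.ofNat 4,.ofNat 4,.ofNat 8,.ofNat 0,.ofNat 0,.ofNat 0,.negSucc 3,.negSucc 3,.negSucc 3], [.negSucc 7,.negSucc 11,.negSucc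 3,.negSucc 3,.ofNat 4,.ofNat 8,.ofNat 0,.ofNat 0,.ofNat 0,.negSucc 3,.negSucc 3,.negSucc 3,.negSucc 3,.ofNat 0,.ofNat 0,.ofNat 0,.ofNat 0,.ofNat 0,.ofNat 4,.ofNat 8,.negSucc 3,.negSucc 3,.ofNat 0,.negSucc 3]], [.ofNat 0,.ofNat 4,.ofNat 0,.ofNat 0,.ofNat 0,.ofNat 0,.ofNat 0,.ofNat 0,.negSucc 1,.ofNat 2,.negSucc 1,.ofNat 2,.negSucc 1,.ofNat 2,.ofNat 2,.negSucc 1,.negSucc 1,.ofNat 0,.negSucc 1,.ofNat 0,.ofNat 2,.ofNat 0,.ofNat 2,.ofNat 0]⟩,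
  ⟨(0, 177), [[.ofNat 8,.ofNat 16,.ofNat 0,.ofNat 0,.ofNat 0,.ofNat 0,.ofNat 0,.ofNat 0,.ofNat 0,.ofNat 4,.ofNat 0,.ofNat 4,.ofNat 0,.ofNat 4,.ofNat 0,.negSucc 3,.ofNat 4,.ofNat 4,.ofNat 4,.ofNat 4,.negSucc 3,.negSucc 3,.negSucc 3,.negSucc 3], [.ofNat 4,.ofNat 4,.ofNat 4,.ofNat 8,.negSucc 7,.negSucc 11,.ofNat 0,.ofNat 0,.ofNat 4,.ofNat 0,.ofNat 4,.ofNat 4,.ofNat 0,.ofNat 0,.ofNat 0,.ofNat 4,.negSucc 3,.negSucc 3,.ofNat 4,.ofNat 8,.ofNat 0,.negSucc 3,.ofNat 0,.ofNat 0], [.negSucc 7,.negSucc 11,.ofNat 4,.ofNat 4,.negSucc 3,.negSucc 7,.ofNat 0,.ofNat 0,.negSucc 3,.ofNat 0,.ofNat 0,.ofNat 0,.ofNat 0,.negSucc 3,.ofNat 4,.ofNat 4,.negSucc 3,.negSucc 7,.ofNat 0,.ofNat 0,.ofNat 0,.ofNat 4,.ofNat 4,.ofNat 4], [.negSucc 7,.negSucc 11,.negSucc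 3,.negSucc 3,.ofNat 4,.ofNat 8,.ofNat 0,.ofNat 0,.ofNat 0,.negSucc 3,.negSucc 3,.negSucc 3,.negSucc 3,.ofNat 0,.ofNat 0,.ofNat 0,.ofNat 0,.ofNat 0,.negSucc 3,.negSucc 7,.ofNat 4,.ofNat 4,.ofNat 0,.ofNat 4]], [.ofNat 0,.ofNat 4,.ofNat 0,.ofNat 0,.ofNat 0,.ofNat 0,.ofNat 0,.ofNat 0,.negSucc 1,.ofNat 2,.negSucc 1,.ofNat 2,.negSucc 1,.ofNat 2,.ofNat 2,.negSucc 1,.ofNat 2,.ofNat 0,.ofNat 2,.ofNat 0,.negSucc 1,.ofNat 0,.negSucc 1,.ofNat 0]⟩,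
  ⟨(0, 178), [[.ofNat 8,.ofNat 16,.ofNat 0,.ofNat 0,.ofNat 0,.ofNat 0,.ofNat 0,.ofNat 0,.ofNat 0,.negSucc 3,.ofNat 0,.negSucc 3,.ofNat 0,.negSucc 3,.ofNat 0,.ofNat 4,.negSucc 3,.negSucc 3,.negSucc 3,.negSucc 3,.ofNat 4,.ofNat 4,.ofNat 4,.ofNat 4], [.ofNat 4,.ofNat 4,.ofNat 4,.ofNat 8,.negSucc 7,.negSucc 11,.ofNat 0,.ofNat 0,.negSucc 3,.ofNat 0,.negSucc 3,.negSucc 3,.ofNat 0,.ofNat 0,.ofNat 0,.negSucc 3,.ofNat 4,.ofNat 4,.negSucc 3,.negSucc 7,.ofNat 0,.ofNat 4,.ofNat 0,.ofNat 0], [.negSucc 7,.negSucc 11,.ofNat 4,.ofNat 4,.negSucc 3,.negSucc 7,.ofNat 0,.ofNat 0,.ofNat 4,.ofNat 0,.ofNat 0,.ofNat 0,.ofNat 0,.ofNat 4,.negSucc 3,.negSucc 3,.ofNat 4,.ofNat 8,.ofNat 0,.ofNat 0,.ofNat 0,.negSucc 3,.negSucc 3,.negSucc 3], [.negSucc 7,.negSucc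 11,.negSucc 3,.negSucc 3,.ofNat 4,.ofNat 8,.ofNat 0,.ofNat 0,.ofNat 0,.ofNat 4,.ofNat 4,.ofNat 4,.ofNat 4,.ofNat 0,.ofNat 0,.ofNat 0,.ofNat 0,.ofNat 0,.ofNat 4,.ofNat 8,.negSucc 3,.negSucc 3,.ofNat 0,.negSucc 3]], [.ofNat 0,.ofNat 4,.ofNat 0,.ofNat 0,.ofNat 0,.ofNat 0,.ofNat 0,.ofNat 0,.ofNat 2,.negSucc 1,.ofNat 2,.negSucc 1,.ofNat 2,.negSucc 1,.negSucc 1,.ofNat 2,.negSucc 1,.ofNat 0,.negSucc 1,.ofNat 0,.ofNat 2,.ofNat 0,.ofNat 2,.ofNat 0]⟩,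
  ⟨(0, 179), [[.ofNat 8,.ofNat 16,.ofNat 0,.ofNat 0,.ofNat 0,.ofNat 0,.ofNat 0,.ofNat 0,.ofNat 0,.negSucc 3,.ofNat 0,.negSucc 3,.ofNat 0,.negSucc 3,.ofNat 0,.ofNat 4,.ofNat 4,.ofNat 4,.ofNat 4,.ofNat 4,.negSucc 3,.negSucc 3,.negSucc 3,.negSucc 3], [.ofNat 4,.ofNat 4,.ofNat 4,.ofNat 8,.negSucc 7,.negSucc 11,.ofNat 0,.ofNat 0,.negSucc 3,.ofNat 0,.negSucc 3,.negSucc 3,.ofNat 0,.ofNat 0,.ofNat 0,.negSucc 3,.negSucc 3,.negSucc 3,.ofNat 4,.ofNat 8,.ofNat 0,.negSucc 3,.ofNat 0,.ofNat 0], [.negSucc 7,.negSucc 11,.ofNat 4,.ofNat 4,.negSucc 3,.negSucc 7,.ofNat 0,.ofNat 0,.ofNat 4,.ofNat 0,.ofNat 0,.ofNat 0,.ofNat 0,.ofNat 4,.negSucc 3,.negSucc 3,.negSucc 3,.negSucc 7,.ofNat 0,.ofNat 0,.ofNat 0,.ofNat 4,.ofNat 4,.ofNat 4], [.negSucc 7,.negSucc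 11,.negSucc 3,.negSucc 3,.ofNat 4,.ofNat 8,.ofNat 0,.ofNat 0,.ofNat 0,.ofNat 4,.ofNat 4,.ofNat 4,.ofNat 4,.ofNat 0,.ofNat 0,.ofNat 0,.ofNat 0,.ofNat 0,.negSucc 3,.negSucc 7,.ofNat 4,.ofNat 4,.ofNat 0,.ofNat 4]], [.ofNat 0,.ofNat 4,.ofNat 0,.ofNat 0,.ofNat 0,.ofNat 0,.ofNat 0,.ofNat 0,.ofNat 2,.negSucc 1,.ofNat 2,.negSucc 1,.ofNat 2,.negSucc 1,.negSucc 1,.ofNat 2,.ofNat 2,.ofNat 0,.ofNat 2,.ofNat 0,.negSucc 1,.ofNat 0,.negSucc 1,.ofNat 0]⟩,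
  ⟨(0, 180), [[.ofNat 8,.ofNat 16,.ofNat 0,.ofNat 0,.ofNat 0,.ofNat 0,.ofNat 0,.ofNat 0,.ofNat 0,.ofNat 4,.ofNat 0,.ofNat 4,.ofNat 0,.negSucc 3,.ofNat 0,.ofNat 4,.negSucc 3,.negSucc 3,.ofNat 4,.ofNat 4,.ofNat 4,.ofNat 4,.negSucc 3,.negSucc 3], [.ofNat 4,.ofNat 4,.ofNat 4,.ofNat 8,.negSucc 7,.negSucc 11,.ofNat 0,.ofNat 0,.ofNat 0,.negSucc 3,.ofNat 0,.ofNat 0,.negSucc 3,.negSucc 3,.ofNat 4,.ofNat 0,.ofNat 0,.ofNat 0,.ofNat 0,.ofNat 4,.ofNat 4,.ofNat 8,.ofNat 4,.ofNat 4], [.negSucc 7,.negSucc 11,.ofNat 4,.ofNat 4,.negSucc 3,.negSucc 7,.ofNat 0,.ofNat 0,.negSucc 3,.negSucc 3,.ofNat 0,.negSucc 3,.ofNat 0,.ofNat 0,.negSucc 3,.ofNat 0,.ofNat 4,.ofNat 4,.ofNat 0,.negSucc 3,.ofNat 0,.ofNat 0,.ofNat 4,.ofNat 8], [.negSucc 7,.negSucc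 11,.negSucc 3,.negSucc 3,.ofNat 4,.ofNat 8,.ofNat 0,.ofNat 0,.ofNat 0,.ofNat 0,.negSucc 3,.ofNat 0,.ofNat 4,.ofNat 4,.ofNat 0,.negSucc 3,.ofNat 0,.ofNat 4,.negSucc 3,.negSucc 3,.negSucc 3,.negSucc 7,.ofNat 0,.ofNat 0]], [.ofNat 0,.ofNat 4,.ofNat 0,.ofNat 0,.ofNat 0,.ofNat 0,.ofNat 0,.ofNat 0,.negSucc 1,.ofNat 2,.negSucc 1,.ofNat 2,.ofNat 2,.negSucc 1,.negSucc 1,.ofNat 2,.negSucc 1,.ofNat 0,.ofNat 2,.ofNat 0,.ofNat 2,.ofNat 0,.negSucc 1,.ofNat 0]⟩,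
  ⟨(0, 181), [[.ofNat 8,.ofNat 16,.ofNat 0,.ofNat 0,.ofNat 0,.ofNat 0,.ofNat 0,.ofNat 0,.ofNat 0,.ofNat 4,.ofNat 0,.ofNat 4,.ofNat 0,.negSucc 3,.ofNat 0,.ofNat 4,.ofNat 4,.ofNat 4,.negSucc 3,.negSucc 3,.negSucc 3,.negSucc 3,.ofNat 4,.ofNat 4], [.ofNat 4,.ofNat 4,.ofNat 4,.ofNat 8,.negSucc 7,.negSucc 11,.ofNat 0,.ofNat 0,.ofNat 0,.negSucc 3,.ofNat 0,.ofNat 0,.negSucc 3,.negSucc 3,.ofNat 4,.ofNat 0,.ofNat 0,.ofNat 0,.ofNat 0,.negSucc 3,.negSucc 3,.negSucc 7,.negSucc 3,.negSucc 3], [.negSucc 7,.negSucc 11,.ofNat 4,.ofNat 4,.negSucc 3,.negSucc 7,.ofNat 0,.ofNat 0,.negSucc 3,.negSucc 3,.ofNat 0,.negSucc 3,.ofNat 0,.ofNat 0,.negSucc 3,.ofNat 0,.negSucc 3,.negSucc 3,.ofNat 0,.ofNat 4,.ofNat 0,.ofNat 0,.negSucc 3,.negSucc 7], [.negSucc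 7,.negSucc 11,.negSucc 3,.negSucc 3,.ofNat 4,.ofNat 8,.ofNat 0,.ofNat 0,.ofNat 0,.ofNat 0,.negSucc 3,.ofNat 0,.ofNat 4,.ofNat 4,.ofNat 0,.negSucc 3,.ofNat 0,.negSucc 3,.ofNat 4,.ofNat 4,.ofNat 4,.ofNat 8,.ofNat 0,.ofNat 0]], [.ofNat 0,.ofNat 4,.ofNat 0,.ofNat 0,.ofNat 0,.ofNat 0,.ofNat 0,.ofNat 0,.negSucc 1,.ofNat 2,.negSucc 1,.ofNat 2,.ofNat 2,.negSucc 1,.negSucc 1,.ofNat 2,.ofNat 2,.ofNat 0,.negSucc 1,.ofNat 0,.negSucc 1,.ofNat 0,.ofNat 2,.ofNat 0]⟩,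
  ⟨(0, 182), [[.ofNat 8,.ofNat 16,.ofNat 0,.ofNat 0,.ofNat 0,.ofNat 0,.ofNat 0,.ofNat 0,.ofNat 0,.negSucc 3,.ofNat 0,.negSucc 3,.ofNat 0,.ofNat 4,.ofNat 0,.negSucc 3,.negSucc 3,.negSucc 3,.ofNat 4,.ofNat 4,.ofNat 4,.ofNat 4,.negSucc 3,.negSucc 3], [.ofNat 4,.ofNat 4,.ofNat 4,.ofNat 8,.negSucc 7,.negSucc 11,.ofNat 0,.ofNat 0,.ofNat 0,.ofNat 4,.ofNat 0,.ofNat 0,.ofNat 4,.ofNat 4,.negSucc 3,.ofNat 0,.ofNat 0,.ofNat 0,.ofNat 0,.ofNat 4,.ofNat 4,.ofNat 8,.ofNat 4,.ofNat 4], [.negSucc 7,.negSucc 11,.ofNat 4,.ofNat 4,.negSucc 3,.negSucc 7,.ofNat 0,.ofNat 0,.ofNat 4,.ofNat 4,.ofNat 0,.ofNat 4,.ofNat 0,.ofNat 0,.ofNat 4,.ofNat 0,.ofNat 4,.ofNat 4,.ofNat 0,.negSucc 3,.ofNat 0,.ofNat 0,.ofNat 4,.ofNat 8], [.negSucc 7,.negSucc 11,.negSucc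 3,.negSucc 3,.ofNat 4,.ofNat 8,.ofNat 0,.ofNat 0,.ofNat 0,.ofNat 0,.ofNat 4,.ofNat 0,.negSucc 3,.negSucc 3,.ofNat 0,.ofNat 4,.ofNat 0,.ofNat 4,.negSucc 3,.negSucc 3,.negSucc 3,.negSucc 7,.ofNat 0,.ofNat 0]], [.ofNat 0,.ofNat 4,.ofNat 0,.ofNat 0,.ofNat 0,.ofNat 0,.ofNat 0,.ofNat 0,.ofNat 2,.negSucc 1,.ofNat 2,.negSucc 1,.negSucc 1,.ofNat 2,.ofNat 2,.negSucc 1,.negSucc 1,.ofNat 0,.ofNat 2,.ofNat 0,.ofNat 2,.ofNat 0,.negSucc 1,.ofNat 0]⟩,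
  ⟨(0, 183), [[.ofNat 8,.ofNat 16,.ofNat 0,.ofNat 0,.ofNat 0,.ofNat 0,.ofNat 0,.ofNat 0,.ofNat 0,.negSucc 3,.ofNat 0,.negSucc 3,.ofNat 0,.ofNat 4,.ofNat 0,.negSucc 3,.ofNat 4,.ofNat 4,.negSucc 3,.negSucc 3,.negSucc 3,.negSucc 3,.ofNat 4,.ofNat 4], [.ofNat 4,.ofNat 4,.ofNat 4,.ofNat 8,.negSucc 7,.negSucc 11,.ofNat 0,.ofNat 0,.ofNat 0,.ofNat 4,.ofNat 0,.ofNat 0,.ofNat 4,.ofNat 4,.negSucc 3,.ofNat 0,.ofNat 0,.ofNat 0,.ofNat 0,.negSucc 3,.negSucc 3,.negSucc 7,.negSucc 3,.negSucc 3], [.negSucc 7,.negSucc 11,.ofNat 4,.ofNat 4,.negSucc 3,.negSucc 7,.ofNat 0,.ofNat 0,.ofNat 4,.ofNat 4,.ofNat 0,.ofNat 4,.ofNat 0,.ofNat 0,.ofNat 4,.ofNat 0,.negSucc 3,.negSucc 3,.ofNat 0,.ofNat 4,.ofNat 0,.ofNat 0,.negSucc 3,.negSucc 7], [.negSucc 7,.negSucc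 11,.negSucc 3,.negSucc 3,.ofNat 4,.ofNat 8,.ofNat 0,.ofNat 0,.ofNat 0,.ofNat 0,.ofNat 4,.ofNat 0,.negSucc 3,.negSucc 3,.ofNat 0,.ofNat 4,.ofNat 0,.negSucc 3,.ofNat 4,.ofNat 4,.ofNat 4,.ofNat 8,.ofNat 0,.ofNat 0]], [.ofNat 0,.ofNat 4,.ofNat 0,.ofNat 0,.ofNat 0,.ofNat 0,.ofNat 0,.ofNat 0,.ofNat 2,.negSucc 1,.ofNat 2,.negSucc 1,.negSucc 1,.ofNat 2,.ofNat 2,.negSucc 1,.ofNat 2,.ofNat 0,.negSucc 1,.ofNat 0,.negSucc 1,.ofNat 0,.ofNat 2,.ofNat 0]⟩,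
  ⟨(0, 184), [[.ofNat 8,.ofNat 16,.ofNat 0,.ofNat 0,.ofNat 0,.ofNat 0,.ofNat 0,.ofNat 0,.ofNat 0,.ofNat 4,.ofNat 0,.negSucc 3,.ofNat 0,.ofNat 4,.ofNat 0,.ofNat 4,.negSucc 3,.negSucc 3,.ofNat 4,.ofNat 4,.negSucc 3,.negSucc 3,.ofNat 4,.ofNat 4], [.ofNat 4,.ofNat 4,.ofNat 4,.ofNat 8,.negSucc 7,.negSucc 11,.ofNat 0,.ofNat 0,.ofNat 4,.ofNat 4,.negSucc 3,.ofNat 0,.ofNat 0,.negSucc 3,.ofNat 0,.ofNat 0,.negSucc 3,.negSucc 7,.negSucc 3,.negSucc 3,.ofNat 0,.ofNat 0,.ofNat 0,.ofNat 4], [.negSucc 7,.negSucc 11,.ofNat 4,.ofNat 4,.negSucc 3,.negSucc 7,.ofNat 0,.ofNat 0,.ofNat 0,.ofNat 0,.ofNat 4,.ofNat 0,.negSucc 3,.negSucc 3,.ofNat 0,.negSucc 3,.ofNat 0,.ofNat 0,.negSucc 3,.negSucc 7,.ofNat 4,.ofNat 4,.ofNat 0,.negSucc 3], [.negSucc 7,.negSucc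 11,.negSucc 3,.negSucc 3,.ofNat 4,.ofNat 8,.ofNat 0,.ofNat 0,.negSucc 3,.negSucc 3,.ofNat 0,.ofNat 4,.ofNat 0,.ofNat 0,.negSucc 3,.ofNat 0,.ofNat 4,.ofNat 8,.ofNat 0,.ofNat 0,.ofNat 0,.ofNat 4,.negSucc 3,.negSucc 3]], [.ofNat 0,.ofNat 4,.ofNat 0,.ofNat 0,.ofNat 0,.ofNat 0,.ofNat 0,.ofNat 0,.negSucc 1,.ofNat 2,.ofNat 2,.negSucc 1,.negSucc 1,.ofNat 2,.negSucc 1,.ofNat 2,.negSucc 1,.ofNat 0,.ofNat 2,.ofNat 0,.negSucc 1,.ofNat 0,.ofNat 2,.ofNat 0]⟩,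
  ⟨(0, 185), [[.ofNat 8,.ofNat 16,.ofNat 0,.ofNat 0,.ofNat 0,.ofNat 0,.ofNat 0,.ofNat 0,.ofNat 0,.ofNat 4,.ofNat 0,.negSucc 3,.ofNat 0,.ofNat 4,.ofNat 0,.ofNat 4,.ofNat 4,.ofNat 4,.negSucc 3,.negSucc 3,.ofNat 4,.ofNat 4,.negSucc 3,.negSucc 3], [.ofNat 4,.ofNat 4,.ofNat 4,.ofNat 8,.negSucc 7,.negSucc 11,.ofNat 0,.ofNat 0,.ofNat 4,.ofNat 4,.negSucc 3,.ofNat 0,.ofNat 0,.negSucc 3,.ofNat 0,.ofNat 0,.ofNat 4,.ofNat 8,.ofNat 4,.ofNat 4,.ofNat 0,.ofNat 0,.ofNat 0,.negSucc 3], [.negSucc 7,.negSucc 11,.ofNat 4,.ofNat 4,.negSucc 3,.negSucc 7,.ofNat 0,.ofNat 0,.ofNat 0,.ofNat 0,.ofNat 4,.ofNat 0,.negSucc 3,.negSucc 3,.ofNat 0,.negSucc 3,.ofNat 0,.ofNat 0,.ofNat 4,.ofNat 8,.negSucc 3,.negSucc 3,.ofNat 0,.ofNat 4], [.negSucc 7,.negSucc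 11,.negSucc 3,.negSucc 3,.ofNat 4,.ofNat 8,.ofNat 0,.ofNat 0,.negSucc 3,.negSucc 3,.ofNat 0,.ofNat 4,.ofNat 0,.ofNat 0,.negSucc 3,.ofNat 0,.negSucc 3,.negSucc 7,.ofNat 0,.ofNat 0,.ofNat 0,.negSucc 3,.ofNat 4,.ofNat 4]], [.ofNat 0,.ofNat 4,.ofNat 0,.ofNat 0,.ofNat 0,.ofNat 0,.ofNat 0,.ofNat 0,.negSucc 1,.ofNat 2,.ofNat 2,.negSucc 1,.negSucc 1,.ofNat 2,.negSucc 1,.ofNat 2,.ofNat 2,.ofNat 0,.negSucc 1,.ofNat 0,.ofNat 2,.ofNat 0,.negSucc 1,.ofNat 0]⟩,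
  ⟨(0, 186), [[.ofNat 8,.ofNat 16,.ofNat 0,.ofNat 0,.ofNat 0,.ofNat 0,.ofNat 0,.ofNat 0,.ofNat 0,.negSucc 3,.ofNat 0,.ofNat 4,.ofNat 0,.negSucc 3,.ofNat 0,.negSucc 3,.negSucc 3,.negSucc 3,.ofNat 4,.ofNat 4,.negSucc 3,.negSucc 3,.ofNat 4,.ofNat 4], [.ofNat 4,.ofNat 4,.ofNat 4,.ofNat 8,.negSucc 7,.negSucc 11,.ofNat 0,.ofNat 0,.negSucc 3,.negSucc 3,.ofNat 4,.ofNat 0,.ofNat 0,.ofNat 4,.ofNat 0,.ofNat 0,.negSucc 3,.negSucc 7,.negSucc 3,.negSucc 3,.ofNat 0,.ofNat 0,.ofNat 0,.ofNat 4], [.negSucc 7,.negSucc 11,.ofNat 4,.ofNat 4,.negSucc 3,.negSucc 7,.ofNat 0,.ofNat 0,.ofNat 0,.ofNat 0,.negSucc 3,.ofNat 0,.ofNat 4,.ofNat 4,.ofNat 0,.ofNat 4,.ofNat 0,.ofNat 0,.negSucc 3,.negSucc 7,.ofNat 4,.ofNat 4,.ofNat 0,.negSucc 3], [.negSucc 7,.negSucc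 11,.negSucc 3,.negSucc 3,.ofNat 4,.ofNat 8,.ofNat 0,.ofNat 0,.ofNat 4,.ofNat 4,.ofNat 0,.negSucc 3,.ofNat 0,.ofNat 0,.ofNat 4,.ofNat 0,.ofNat 4,.ofNat 8,.ofNat 0,.ofNat 0,.ofNat 0,.ofNat 4,.negSucc 3,.negSucc 3]], [.ofNat 0,.ofNat 4,.ofNat 0,.ofNat 0,.ofNat 0,.ofNat 0,.ofNat 0,.ofNat 0,.ofNat 2,.negSucc 1,.negSucc 1,.ofNat 2,.ofNat 2,.negSucc 1,.ofNat 2,.negSucc 1,.negSucc 1,.ofNat 0,.ofNat 2,.ofNat 0,.negSucc 1,.ofNat 0,.ofNat 2,.ofNat 0]⟩,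
  ⟨(0, 187), [[.ofNat 8,.ofNat 16,.ofNat 0,.ofNat 0,.ofNat 0,.ofNat 0,.ofNat 0,.ofNat 0,.ofNat 0,.negSucc 3,.ofNat 0,.ofNat 4,.ofNat 0,.negSucc 3,.ofNat 0,.negSucc 3,.ofNat 4,.ofNat 4,.negSucc 3,.negSucc 3,.ofNat 4,.ofNat 4,.negSucc 3,.negSucc 3], [.ofNat 4,.ofNat 4,.ofNat 4,.ofNat 8,.negSucc 7,.negSucc 11,.ofNat 0,.ofNat 0,.negSucc 3,.negSucc 3,.ofNat 4,.ofNat 0,.ofNat 0,.ofNat 4,.ofNat 0,.ofNat 0,.ofNat 4,.ofNat 8,.ofNat 4,.ofNat 4,.ofNat 0,.ofNat 0,.ofNat 0,.negSucc 3], [.negSucc 7,.negSucc 11,.ofNat 4,.ofNat 4,.negSucc 3,.negSucc 7,.ofNat 0,.ofNat 0,.ofNat 0,.ofNat 0,.negSucc 3,.ofNat 0,.ofNat 4,.ofNat 4,.ofNat 0,.ofNat 4,.ofNat 0,.ofNat 0,.ofNat 4,.ofNat 8,.negSucc 3,.negSucc 3,.ofNat 0,.ofNat 4], [.negSucc 7,.negSucc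 11,.negSucc 3,.negSucc 3,.ofNat 4,.ofNat 8,.ofNat 0,.ofNat 0,.ofNat 4,.ofNat 4,.ofNat 0,.negSucc 3,.ofNat 0,.ofNat 0,.ofNat 4,.ofNat 0,.negSucc 3,.negSucc 7,.ofNat 0,.ofNat 0,.ofNat 0,.negSucc 3,.ofNat 4,.ofNat 4]], [.ofNat 0,.ofNat 4,.ofNat 0,.ofNat 0,.ofNat 0,.ofNat 0,.ofNat 0,.ofNat 0,.ofNat 2,.negSucc 1,.negSucc 1,.ofNat 2,.ofNat 2,.negSucc 1,.ofNat 2,.negSucc 1,.ofNat 2,.ofNat 0,.negSucc 1,.ofNat 0,.ofNat 2,.ofNat 0,.negSucc 1,.ofNat 0]⟩,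
  ⟨(0, 188), [[.ofNat 8,.ofNat 16,.ofNat 0,.ofNat 0,.ofNat 0,.ofNat 0,.ofNat 0,.ofNat 0,.ofNat 0,.ofNat 4,.ofNat 0,.negSucc 3,.ofNat 0,.negSucc 3,.ofNat 0,.negSucc 3,.negSucc 3,.negSucc 3,.negSucc 3,.negSucc 3,.negSucc 3,.negSucc 3,.negSucc 3,.negSucc 3], [.ofNat 4,.ofNat 4,.ofNat 4,.ofNat 8,.negSucc 7,.negSucc 11,.ofNat 0,.ofNat 0,.ofNat 0,.ofNat 0,.ofNat 0,.ofNat 4,.negSucc 3,.ofNat 0,.negSucc 3,.negSucc 3,.ofNat 0,.negSucc 3,.ofNat 0,.ofNat 0,.ofNat 4,.ofNat 4,.negSucc 3,.negSucc 7], [.negSucc 7,.negSucc 11,.ofNat 4,.ofNat 4,.negSucc 3,.negSucc 7,.ofNat 0,.ofNat 0,.ofNat 0,.negSucc 3,.ofNat 4,.ofNat 4,.ofNat 4,.ofNat 0,.ofNat 0,.ofNat 0,.ofNat 0,.ofNat 4,.ofNat 4,.ofNat 4,.ofNat 4,.ofNat 8,.ofNat 0,.ofNat 0], [.negSucc 7,.negSucc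 11,.negSucc 3,.negSucc 3,.ofNat 4,.ofNat 8,.ofNat 0,.ofNat 0,.negSucc 3,.ofNat 0,.ofNat 0,.ofNat 0,.ofNat 0,.ofNat 4,.ofNat 4,.ofNat 4,.ofNat 4,.ofNat 4,.ofNat 0,.ofNat 4,.ofNat 0,.ofNat 0,.ofNat 4,.ofNat 8]], [.ofNat 0,.ofNat 4,.ofNat 0,.ofNat 0,.ofNat 0,.ofNat 0,.ofNat 0,.ofNat 0,.negSucc 1,.ofNat 2,.ofNat 2,.negSucc 1,.ofNat 2,.negSucc 1,.ofNat 2,.negSucc 1,.negSucc 1,.ofNat 0,.negSucc 1,.ofNat 0,.negSucc 1,.ofNat 0,.negSucc 1,.ofNat 0]⟩,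
  ⟨(0, 189), [[.ofNat 8,.ofNat 16,.ofNat 0,.ofNat 0,.ofNat 0,.ofNat 0,.ofNat 0,.ofNat 0,.ofNat 0,.ofNat 4,.ofNat 0,.negSucc 3,.ofNat 0,.negSucc 3,.ofNat 0,.negSucc 3,.ofNat 4,.ofNat 4,.ofNat 4,.ofNat 4,.ofNat 4,.ofNat 4,.ofNat 4,.ofNat 4], [.ofNat 4,.ofNat 4,.ofNat 4,.ofNat 8,.negSucc 7,.negSucc 11,.ofNat 0,.ofNat 0,.ofNat 0,.ofNat 0,.ofNat 0,.ofNat 4,.negSucc 3,.ofNat 0,.negSucc 3,.negSucc 3,.ofNat 0,.ofNat 4,.ofNat 0,.ofNat 0,.negSucc 3,.negSucc 3,.ofNat 4,.ofNat 8], [.negSucc 7,.negSucc 11,.ofNat 4,.ofNat 4,.negSucc 3,.negSucc 7,.ofNat 0,.ofNat 0,.ofNat 0,.negSucc 3,.ofNat 4,.ofNat 4,.ofNat 4,.ofNat 0,.ofNat 0,.ofNat 0,.ofNat 0,.negSucc 3,.negSucc 3,.negSucc 3,.negSucc 3,.negSucc 7,.ofNat 0,.ofNat 0], [.negSucc 7,.negSucc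 11,.negSucc 3,.negSucc 3,.ofNat 4,.ofNat 8,.ofNat 0,.ofNat 0,.negSucc 3,.ofNat 0,.ofNat 0,.ofNat 0,.ofNat 0,.ofNat 4,.ofNat 4,.ofNat 4,.negSucc 3,.negSucc 3,.ofNat 0,.negSucc 3,.ofNat 0,.ofNat 0,.negSucc 3,.negSucc 7]], [.ofNat 0,.ofNat 4,.ofNat 0,.ofNat 0,.ofNat 0,.ofNat 0,.ofNat 0,.ofNat 0,.negSucc 1,.ofNat 2,.ofNat 2,.negSucc 1,.ofNat 2,.negSucc 1,.ofNat 2,.negSucc 1,.ofNat 2,.ofNat 0,.ofNat 2,.ofNat 0,.ofNat 2,.ofNat 0,.ofNat 2,.ofNat 0]⟩,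
  ⟨(0, 190), [[.ofNat 8,.ofNat 16,.ofNat 0,.ofNat 0,.ofNat 0,.ofNat 0,.ofNat 0,.ofNat 0,.ofNat 0,.negSucc 3,.ofNat 0,.ofNat 4,.ofNat 0,.ofNat 4,.ofNat 0,.ofNat 4,.negSucc 3,.negSucc 3,.negSucc 3,.negSucc 3,.negSucc 3,.negSucc 3,.negSucc 3,.negSucc 3], [.ofNat 4,.ofNat 4,.ofNat 4,.ofNat 8,.negSucc 7,.negSucc 11,.ofNat 0,.ofNat 0,.ofNat 0,.ofNat 0,.ofNat 0,.negSucc 3,.ofNat 4,.ofNat 0,.ofNat 4,.ofNat 4,.ofNat 0,.negSucc 3,.ofNat 0,.ofNat 0,.ofNat 4,.ofNat 4,.negSucc 3,.negSucc 7], [.negSucc 7,.negSucc 11,.ofNat 4,.ofNat 4,.negSucc 3,.negSucc 7,.ofNat 0,.ofNat 0,.ofNat 0,.ofNat 4,.negSucc 3,.negSucc 3,.negSucc 3,.ofNat 0,.ofNat 0,.ofNat 0,.ofNat 0,.ofNat 4,.ofNat 4,.ofNat 4,.ofNat 4,.ofNat 8,.ofNat 0,.ofNat 0], [.negSucc 7,.negSucc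 11,.negSucc 3,.negSucc 3,.ofNat 4,.ofNat 8,.ofNat 0,.ofNat 0,.ofNat 4,.ofNat 0,.ofNat 0,.ofNat 0,.ofNat 0,.negSucc 3,.negSucc 3,.negSucc 3,.ofNat 4,.ofNat 4,.ofNat 0,.ofNat 4,.ofNat 0,.ofNat 0,.ofNat 4,.ofNat 8]], [.ofNat 0,.ofNat 4,.ofNat 0,.ofNat 0,.ofNat 0,.ofNat 0,.ofNat 0,.ofNat 0,.ofNat 2,.negSucc 1,.negSucc 1,.ofNat 2,.negSucc 1,.ofNat 2,.negSucc 1,.ofNat 2,.negSucc 1,.ofNat 0,.negSucc 1,.ofNat 0,.negSucc 1,.ofNat 0,.negSucc 1,.ofNat 0]⟩,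
  ⟨(0, 191), [[.ofNat 8,.ofNat 16,.ofNat 0,.ofNat 0,.ofNat 0,.ofNat 0,.ofNat 0,.ofNat 0,.ofNat 0,.negSucc 3,.ofNat 0,.ofNat 4,.ofNat 0,.ofNat 4,.ofNat 0,.ofNat 4,.ofNat 4,.ofNat 4,.ofNat 4,.ofNat 4,.ofNat 4,.ofNat 4,.ofNat 4,.ofNat 4], [.ofNat 4,.ofNat 4,.ofNat 4,.ofNat 8,.negSucc 7,.negSucc 11,.ofNat 0,.ofNat 0,.ofNat 0,.ofNat 0,.ofNat 0,.negSucc 3,.ofNat 4,.ofNat 0,.ofNat 4,.ofNat 4,.ofNat 0,.ofNat 4,.ofNat 0,.ofNat 0,.negSucc 3,.negSucc 3,.ofNat 4,.ofNat 8], [.negSucc 7,.negSucc 11,.ofNat 4,.ofNat 4,.negSucc 3,.negSucc 7,.ofNat 0,.ofNat 0,.ofNat 0,.ofNat 4,.negSucc 3,.negSucc 3,.negSucc 3,.ofNat 0,.ofNat 0,.ofNat 0,.ofNat 0,.negSucc 3,.negSucc 3,.negSucc 3,.negSucc 3,.negSucc 7,.ofNat 0,.ofNat 0], [.negSucc 7,.negSucc 11,.negSucc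 3,.negSucc 3,.ofNat 4,.ofNat 8,.ofNat 0,.ofNat 0,.ofNat 4,.ofNat 0,.ofNat 0,.ofNat 0,.ofNat 0,.negSucc 3,.negSucc 3,.negSucc 3,.negSucc 3,.negSucc 3,.ofNat 0,.negSucc 3,.ofNat 0,.ofNat 0,.negSucc 3,.negSucc 7]], [.ofNat 0,.ofNat 4,.ofNat 0,.ofNat 0,.ofNat 0,.ofNat 0,.ofNat 0,.ofNat 0,.ofNat 2,.negSucc 1,.negSucc 1,.ofNat 2,.negSucc 1,.ofNat 2,.negSucc 1,.ofNat 2,.ofNat 2,.ofNat 0,.ofNat 2,.ofNat 0,.ofNat 2,.ofNat 0,.ofNat 2,.ofNat 0]⟩]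

def candRec3 : List Rec := [
  ⟨(0, 224), [[.ofNat 8,.ofNat 8,.ofNat 8,.ofNat 8,.ofNat 0,.ofNat 0,.ofNat 0,.ofNat 0,.negSucc 7,.negSucc 7,.negSucc 7,.negSucc 7,.ofNat 0,.ofNat 0,.ofNat 0,.ofNat 0,.ofNat 0,.ofNat 0,.ofNat 0,.ofNat 0,.ofNat 0,.ofNat 0,.ofNat 0,.ofNat 0], [.negSucc 3,.ofNat 0,.ofNat 4,.ofNat 8,.negSucc 3,.negSucc 7,.ofNat 4,.ofNat 8,.ofNat 4,.ofNat 0,.negSucc 3,.negSucc 7,.ofNat 4,.ofNat 8,.negSucc 3,.negSucc 7,.ofNat 0,.ofNat 0,.ofNat 0,.ofNat 0,.ofNat 0,.ofNat 0,.ofNat 0,.ofNat 0], [.negSucc 3,.negSucc 11,.negSucc 3,.negSucc 3,.negSucc 3,.negSucc 3,.ofNat 4,.ofNat 4,.ofNat 4,.ofNat 12,.ofNat 4,.ofNat 4,.ofNat 4,.ofNat 4,.negSucc 3,.negSucc 3,.ofNat 0,.ofNat 0,.ofNat 0,.ofNat 0,.ofNat 0,.ofNat 0,.ofNat 0,.ofNat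 0], [.negSucc 3,.negSucc 3,.negSucc 3,.negSucc 11,.ofNat 4,.ofNat 4,.negSucc 3,.negSucc 3,.ofNat 4,.ofNat 4,.ofNat 4,.ofNat 12,.negSucc 3,.negSucc 3,.ofNat 4,.ofNat 4,.ofNat 0,.ofNat 0,.ofNat 0,.ofNat 0,.ofNat 0,.ofNat 0,.ofNat 0,.ofNat 0]], [.ofNat 4,.ofNat 0,.ofNat 4,.ofNat 0,.ofNat 0,.ofNat 0,.ofNat 0,.ofNat 0,.negSucc 3,.ofNat 0,.negSucc 3,.ofNat 0,.ofNat 0,.ofNat 0,.ofNat 0,.ofNat 0,.ofNat 0,.ofNat 0,.ofNat 0,.ofNat 0,.ofNat 0,.ofNat 0,.ofNat 0,.ofNat 0]⟩,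
  ⟨(0, 225), [[.ofNat 8,.ofNat 8,.ofNat 8,.ofNat 8,.ofNat 0,.ofNat 0,.ofNat 0,.ofNat 0,.negSucc 7,.negSucc 7,.ofNat 8,.ofNat 8,.ofNat 0,.ofNat 0,.ofNat 0,.ofNat 0,.ofNat 0,.ofNat 0,.ofNat 0,.ofNat 0,.ofNat 0,.ofNat 0,.ofNat 0,.ofNat 0], [.negSucc 3,.ofNat 0,.ofNat 4,.ofNat 8,.negSucc 3,.negSucc 7,.ofNat 4,.ofNat 8,.negSucc 3,.negSucc 7,.negSucc 3,.ofNat 0,.ofNat 4,.ofNat 8,.ofNat 4,.ofNat 8,.ofNat 0,.ofNat 0,.ofNat 0,.ofNat 0,.ofNat 0,.ofNat 0,.ofNat 0,.ofNat 0], [.negSucc 3,.negSucc 11,.negSucc 3,.negSucc 3,.negSucc 3,.negSucc 3,.ofNat 4,.ofNat 4,.ofNat 4,.ofNat 4,.negSucc 3,.negSucc 11,.ofNat 4,.ofNat 4,.ofNat 4,.ofNat 4,.ofNat 0,.ofNat 0,.ofNat 0,.ofNat 0,.ofNat 0,.ofNat 0,.ofNat 0,.ofNat 0], [.negSucc 3,.negSucc 3,.negSucc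 3,.negSucc 11,.ofNat 4,.ofNat 4,.negSucc 3,.negSucc 3,.ofNat 4,.ofNat 12,.negSucc 3,.negSucc 3,.negSucc 3,.negSucc 3,.negSucc 3,.negSucc 3,.ofNat 0,.ofNat 0,.ofNat 0,.ofNat 0,.ofNat 0,.ofNat 0,.ofNat 0,.ofNat 0]], [.ofNat 4,.ofNat 0,.ofNat 4,.ofNat 0,.ofNat 0,.ofNat 0,.ofNat 0,.ofNat 0,.negSucc 3,.ofNat 0,.ofNat 4,.ofNat 0,.ofNat 0,.ofNat 0,.ofNat 0,.ofNat 0,.ofNat 0,.ofNat 0,.ofNat 0,.ofNat 0,.ofNat 0,.ofNat 0,.ofNat 0,.ofNat 0]⟩,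
  ⟨(0, 226), [[.ofNat 8,.ofNat 8,.ofNat 8,.ofNat 8,.ofNat 0,.ofNat 0,.ofNat 0,.ofNat 0,.ofNat 0,.ofNat 0,.ofNat 0,.ofNat 0,.negSucc 7,.negSucc 7,.negSucc 7,.negSucc 7,.ofNat 0,.ofNat 0,.ofNat 0,.ofNat 0,.ofNat 0,.ofNat 0,.ofNat 0,.ofNat 0], [.negSucc 3,.ofNat 0,.ofNat 4,.ofNat 8,.negSucc 3,.negSucc 7,.ofNat 4,.ofNat 8,.negSucc 3,.negSucc 7,.ofNat 4,.ofNat 8,.ofNat 4,.ofNat 0,.negSucc 3,.negSucc 7,.ofNat 0,.ofNat 0,.ofNat 0,.ofNat 0,.ofNat 0,.ofNat 0,.ofNat 0,.ofNat 0], [.negSucc 3,.negSucc 11,.negSucc 3,.negSucc 3,.negSucc 3,.negSucc 3,.ofNat 4,.ofNat 4,.negSucc 3,.negSucc 3,.ofNat 4,.ofNat 4,.ofNat 4,.ofNat 12,.ofNat 4,.ofNat 4,.ofNat 0,.ofNat 0,.ofNat 0,.ofNat 0,.ofNat 0,.ofNat 0,.ofNat 0,.ofNat 0], [.negSucc 3,.negSucc 3,.negSucc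 3,.negSucc 11,.ofNat 4,.ofNat 4,.negSucc 3,.negSucc 3,.ofNat 4,.ofNat 4,.negSucc 3,.negSucc 3,.ofNat 4,.ofNat 4,.ofNat 4,.ofNat 12,.ofNat 0,.ofNat 0,.ofNat 0,.ofNat 0,.ofNat 0,.ofNat 0,.ofNat 0,.ofNat 0]], [.ofNat 4,.ofNat 0,.ofNat 4,.ofNat 0,.ofNat 0,.ofNat 0,.ofNat 0,.ofNat 0,.ofNat 0,.ofNat 0,.ofNat 0,.ofNat 0,.negSucc 3,.ofNat 0,.negSucc 3,.ofNat 0,.ofNat 0,.ofNat 0,.ofNat 0,.ofNat 0,.ofNat 0,.ofNat 0,.ofNat 0,.ofNat 0]⟩,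
  ⟨(0, 227), [[.ofNat 8,.ofNat 8,.ofNat 8,.ofNat 8,.ofNat 0,.ofNat 0,.ofNat 0,.ofNat 0,.ofNat 0,.ofNat 0,.ofNat 0,.ofNat 0,.negSucc 7,.negSucc 7,.ofNat 8,.ofNat 8,.ofNat 0,.ofNat 0,.ofNat 0,.ofNat 0,.ofNat 0,.ofNat 0,.ofNat 0,.ofNat 0], [.negSucc 3,.ofNat 0,.ofNat 4,.ofNat 8,.negSucc 3,.negSucc 7,.ofNat 4,.ofNat 8,.negSucc 3,.negSucc 7,.negSucc 3,.negSucc 7,.negSucc 3,.negSucc 7,.negSucc 3,.ofNat 0,.ofNat 0,.ofNat 0,.ofNat 0,.ofNat 0,.ofNat 0,.ofNat 0,.ofNat 0,.ofNat 0], [.negSucc 3,.negSucc 11,.negSucc 3,.negSucc 3,.negSucc 3,.negSucc 3,.ofNat 4,.ofNat 4,.negSucc 3,.negSucc 3,.negSucc 3,.negSucc 3,.ofNat 4,.ofNat 4,.negSucc 3,.negSucc 11,.ofNat 0,.ofNat 0,.ofNat 0,.ofNat 0,.ofNat 0,.ofNat 0,.ofNat 0,.ofNat 0], [.negSucc 3,.negSucc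 3,.negSucc 3,.negSucc 11,.ofNat 4,.ofNat 4,.negSucc 3,.negSucc 3,.ofNat 4,.ofNat 4,.ofNat 4,.ofNat 4,.ofNat 4,.ofNat 12,.negSucc 3,.negSucc 3,.ofNat 0,.ofNat 0,.ofNat 0,.ofNat 0,.ofNat 0,.ofNat 0,.ofNat 0,.ofNat 0]], [.ofNat 4,.ofNat 0,.ofNat 4,.ofNat 0,.ofNat 0,.ofNat 0,.ofNat 0,.ofNat 0,.ofNat 0,.ofNat 0,.ofNat 0,.ofNat 0,.negSucc 3,.ofNat 0,.ofNat 4,.ofNat 0,.ofNat 0,.ofNat 0,.ofNat 0,.ofNat 0,.ofNat 0,.ofNat 0,.ofNat 0,.ofNat 0]⟩,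
  ⟨(0, 228), [[.ofNat 8,.ofNat 8,.ofNat 8,.ofNat 8,.ofNat 0,.ofNat 0,.ofNat 0,.ofNat 0,.ofNat 0,.ofNat 0,.ofNat 0,.ofNat 0,.ofNat 8,.ofNat 8,.negSucc 7,.negSucc 7,.ofNat 0,.ofNat 0,.ofNat 0,.ofNat 0,.ofNat 0,.ofNat 0,.ofNat 0,.ofNat 0], [.negSucc 3,.ofNat 0,.ofNat 4,.ofNat 8,.negSucc 3,.negSucc 7,.ofNat 4,.ofNat 8,.ofNat 4,.ofNat 8,.ofNat 4,.ofNat 8,.ofNat 4,.ofNat 8,.ofNat 4,.ofNat 0,.ofNat 0,.ofNat 0,.ofNat 0,.ofNat 0,.ofNat 0,.ofNat 0,.ofNat 0,.ofNat 0], [.negSucc 3,.negSucc 11,.negSucc 3,.negSucc 3,.negSucc 3,.negSucc 3,.ofNat 4,.ofNat 4,.ofNat 4,.ofNat 4,.ofNat 4,.ofNat 4,.negSucc 3,.negSucc 3,.ofNat 4,.ofNat 12,.ofNat 0,.ofNat 0,.ofNat 0,.ofNat 0,.ofNat 0,.ofNat 0,.ofNat 0,.ofNat 0], [.negSucc 3,.negSucc 3,.negSucc 3,.negSucc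 11,.ofNat 4,.ofNat 4,.negSucc 3,.negSucc 3,.negSucc 3,.negSucc 3,.negSucc 3,.negSucc 3,.negSucc 3,.negSucc 11,.ofNat 4,.ofNat 4,.ofNat 0,.ofNat 0,.ofNat 0,.ofNat 0,.ofNat 0,.ofNat 0,.ofNat 0,.ofNat 0]], [.ofNat 4,.ofNat 0,.ofNat 4,.ofNat 0,.ofNat 0,.ofNat 0,.ofNat 0,.ofNat 0,.ofNat 0,.ofNat 0,.ofNat 0,.ofNat 0,.ofNat 4,.ofNat 0,.negSucc 3,.ofNat 0,.ofNat 0,.ofNat 0,.ofNat 0,.ofNat 0,.ofNat 0,.ofNat 0,.ofNat 0,.ofNat 0]⟩,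
  ⟨(0, 229), [[.ofNat 8,.ofNat 8,.ofNat 8,.ofNat 8,.ofNat 0,.ofNat 0,.ofNat 0,.ofNat 0,.ofNat 0,.ofNat 0,.ofNat 0,.ofNat 0,.ofNat 8,.ofNat 8,.ofNat 8,.ofNat 8,.ofNat 0,.ofNat 0,.ofNat 0,.ofNat 0,.ofNat 0,.ofNat 0,.ofNat 0,.ofNat 0], [.negSucc 3,.ofNat 0,.ofNat 4,.ofNat 8,.negSucc 3,.negSucc 7,.ofNat 4,.ofNat 8,.ofNat 4,.ofNat 8,.negSucc 3,.negSucc 7,.negSucc 3,.ofNat 0,.ofNat 4,.ofNat 8,.ofNat 0,.ofNat 0,.ofNat 0,.ofNat 0,.ofNat 0,.ofNat 0,.ofNat 0,.ofNat 0], [.negSucc 3,.negSucc 11,.negSucc 3,.negSucc 3,.negSucc 3,.negSucc 3,.ofNat 4,.ofNat 4,.ofNat 4,.ofNat 4,.negSucc 3,.negSucc 3,.negSucc 3,.negSucc 11,.negSucc 3,.negSucc 3,.ofNat 0,.ofNat 0,.ofNat 0,.ofNat 0,.ofNat 0,.ofNat 0,.ofNat 0,.ofNat 0], [.negSucc 3,.negSucc 3,.negSucc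 3,.negSucc 11,.ofNat 4,.ofNat 4,.negSucc 3,.negSucc 3,.negSucc 3,.negSucc 3,.ofNat 4,.ofNat 4,.negSucc 3,.negSucc 3,.negSucc 3,.negSucc 11,.ofNat 0,.ofNat 0,.ofNat 0,.ofNat 0,.ofNat 0,.ofNat 0,.ofNat 0,.ofNat 0]], [.ofNat 4,.ofNat 0,.ofNat 4,.ofNat 0,.ofNat 0,.ofNat 0,.ofNat 0,.ofNat 0,.ofNat 0,.ofNat 0,.ofNat 0,.ofNat 0,.ofNat 4,.ofNat 0,.ofNat 4,.ofNat 0,.ofNat 0,.ofNat 0,.ofNat 0,.ofNat 0,.ofNat 0,.ofNat 0,.ofNat 0,.ofNat 0]⟩,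
  ⟨(0, 230), [[.ofNat 8,.ofNat 8,.ofNat 8,.ofNat 8,.ofNat 0,.ofNat 0,.ofNat 0,.ofNat 0,.ofNat 8,.ofNat 8,.negSucc 7,.negSucc 7,.ofNat 0,.ofNat 0,.ofNat 0,.ofNat 0,.ofNat 0,.ofNat 0,.ofNat 0,.ofNat 0,.ofNat 0,.ofNat 0,.ofNat 0,.ofNat 0], [.negSucc 3,.ofNat 0,.ofNat 4,.ofNat 8,.negSucc 3,.negSucc 7,.ofNat 4,.ofNat 8,.ofNat 4,.ofNat 8,.ofNat 4,.ofNat 0,.negSucc 3,.negSucc 7,.negSucc 3,.negSucc 7,.ofNat 0,.ofNat 0,.ofNat 0,.ofNat 0,.ofNat 0,.ofNat 0,.ofNat 0,.ofNat 0], [.negSucc 3,.negSucc 11,.negSucc 3,.negSucc 3,.negSucc 3,.negSucc 3,.ofNat 4,.ofNat 4,.negSucc 3,.negSucc 3,.ofNat 4,.ofNat 12,.negSucc 3,.negSucc 3,.negSucc 3,.negSucc 3,.ofNat 0,.ofNat 0,.ofNat 0,.ofNat 0,.ofNat 0,.ofNat 0,.ofNat 0,.ofNat 0], [.negSucc 3,.negSucc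 3,.negSucc 3,.negSucc 11,.ofNat 4,.ofNat 4,.negSucc 3,.negSucc 3,.negSucc 3,.negSucc 11,.ofNat 4,.ofNat 4,.ofNat 4,.ofNat 4,.ofNat 4,.ofNat 4,.ofNat 0,.ofNat 0,.ofNat 0,.ofNat 0,.ofNat 0,.ofNat 0,.ofNat 0,.ofNat 0]], [.ofNat 4,.ofNat 0,.ofNat 4,.ofNat 0,.ofNat 0,.ofNat 0,.ofNat 0,.ofNat 0,.ofNat 4,.ofNat 0,.negSucc 3,.ofNat 0,.ofNat 0,.ofNat 0,.ofNat 0,.ofNat 0,.ofNat 0,.ofNat 0,.ofNat 0,.ofNat 0,.ofNat 0,.ofNat 0,.ofNat 0,.ofNat 0]⟩,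
  ⟨(0, 231), [[.ofNat 8,.ofNat 8,.ofNat 8,.ofNat 8,.ofNat 0,.ofNat 0,.ofNat 0,.ofNat 0,.ofNat 8,.ofNat 8,.ofNat 8,.ofNat 8,.ofNat 0,.ofNat 0,.ofNat 0,.ofNat 0,.ofNat 0,.ofNat 0,.ofNat 0,.ofNat 0,.ofNat 0,.ofNat 0,.ofNat 0,.ofNat 0], [.negSucc 3,.ofNat 0,.ofNat 4,.ofNat 8,.negSucc 3,.negSucc 7,.ofNat 4,.ofNat 8,.negSucc 3,.ofNat 0,.ofNat 4,.ofNat 8,.negSucc 3,.negSucc 7,.ofNat 4,.ofNat 8,.ofNat 0,.ofNat 0,.ofNat 0,.ofNat 0,.ofNat 0,.ofNat 0,.ofNat 0,.ofNat 0], [.negSucc 3,.negSucc 11,.negSucc 3,.negSucc 3,.negSucc 3,.negSucc 3,.ofNat 4,.ofNat 4,.negSucc 3,.negSucc 11,.negSucc 3,.negSucc 3,.negSucc 3,.negSucc 3,.ofNat 4,.ofNat 4,.ofNat 0,.ofNat 0,.ofNat 0,.ofNat 0,.ofNat 0,.ofNat 0,.ofNat 0,.ofNat 0], [.negSucc 3,.negSucc 3,.negSucc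 3,.negSucc 11,.ofNat 4,.ofNat 4,.negSucc 3,.negSucc 3,.negSucc 3,.negSucc 3,.negSucc 3,.negSucc 11,.ofNat 4,.ofNat 4,.negSucc 3,.negSucc 3,.ofNat 0,.ofNat 0,.ofNat 0,.ofNat 0,.ofNat 0,.ofNat 0,.ofNat 0,.ofNat 0]], [.ofNat 4,.ofNat 0,.ofNat 4,.ofNat 0,.ofNat 0,.ofNat 0,.ofNat 0,.ofNat 0,.ofNat 4,.ofNat 0,.ofNat 4,.ofNat 0,.ofNat 0,.ofNat 0,.ofNat 0,.ofNat 0,.ofNat 0,.ofNat 0,.ofNat 0,.ofNat 0,.ofNat 0,.ofNat 0,.ofNat 0,.ofNat 0]⟩,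
  ⟨(0, 232), [[.ofNat 8,.ofNat 8,.ofNat 8,.ofNat 8,.ofNat 0,.ofNat 0,.ofNat 0,.ofNat 0,.ofNat 0,.ofNat 0,.ofNat 0,.ofNat 0,.ofNat 0,.ofNat 0,.ofNat 0,.ofNat 0,.negSucc 7,.negSucc 7,.negSucc 7,.negSucc 7,.ofNat 0,.ofNat 0,.ofNat 0,.ofNat 0], [.negSucc 3,.ofNat 0,.ofNat 4,.ofNat 8,.negSucc 3,.negSucc 7,.ofNat 4,.ofNat 8,.ofNat 0,.ofNat 0,.ofNat 0,.ofNat 0,.ofNat 0,.ofNat 0,.ofNat 0,.ofNat 0,.ofNat 4,.ofNat 0,.negSucc 3,.negSucc 7,.ofNat 4,.ofNat 8,.negSucc 3,.negSucc 7], [.negSucc 3,.negSucc 11,.negSucc 3,.negSucc 3,.negSucc 3,.negSucc 3,.ofNat 4,.ofNat 4,.ofNat 0,.ofNat 0,.ofNat 0,.ofNat 0,.ofNat 0,.ofNat 0,.ofNat 0,.ofNat 0,.ofNat 4,.ofNat 12,.ofNat 4,.ofNat 4,.ofNat 4,.ofNat 4,.negSucc 3,.negSucc 3], [.negSucc 3,.negSucc 3,.negSucc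 3,.negSucc 11,.ofNat 4,.ofNat 4,.negSucc 3,.negSucc 3,.ofNat 0,.ofNat 0,.ofNat 0,.ofNat 0,.ofNat 0,.ofNat 0,.ofNat 0,.ofNat 0,.ofNat 4,.ofNat 4,.ofNat 4,.ofNat 12,.negSucc 3,.negSucc 3,.ofNat 4,.ofNat 4]], [.ofNat 4,.ofNat 0,.ofNat 4,.ofNat 0,.ofNat 0,.ofNat 0,.ofNat 0,.ofNat 0,.ofNat 0,.ofNat 0,.ofNat 0,.ofNat 0,.ofNat 0,.ofNat 0,.ofNat 0,.ofNat 0,.negSucc 3,.ofNat 0,.negSucc 3,.ofNat 0,.ofNat 0,.ofNat 0,.ofNat 0,.ofNat 0]⟩,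
  ⟨(0, 233), [[.ofNat 8,.ofNat 8,.ofNat 8,.ofNat 8,.ofNat 0,.ofNat 0,.ofNat 0,.ofNat 0,.ofNat 0,.ofNat 0,.ofNat 0,.ofNat 0,.ofNat 0,.ofNat 0,.ofNat 0,.ofNat 0,.negSucc 7,.negSucc 7,.ofNat 8,.ofNat 8,.ofNat 0,.ofNat 0,.ofNat 0,.ofNat 0], [.negSucc 3,.ofNat 0,.ofNat 4,.ofNat 8,.negSucc 3,.negSucc 7,.ofNat 4,.ofNat 8,.ofNat 0,.ofNat 0,.ofNat 0,.ofNat 0,.ofNat 0,.ofNat 0,.ofNat 0,.ofNat 0,.negSucc 3,.negSucc 7,.negSucc 3,.ofNat 0,.ofNat 4,.ofNat 8,.ofNat 4,.ofNat 8], [.negSucc 3,.negSucc 11,.negSucc 3,.negSucc 3,.negSucc 3,.negSucc 3,.ofNat 4,.ofNat 4,.ofNat 0,.ofNat 0,.ofNat 0,.ofNat 0,.ofNat 0,.ofNat 0,.ofNat 0,.ofNat 0,.ofNat 4,.ofNat 4,.negSucc 3,.negSucc 11,.ofNat 4,.ofNat 4,.ofNat 4,.ofNat 4], [.negSucc 3,.negSucc 3,.negSucc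 3,.negSucc 11,.ofNat 4,.ofNat 4,.negSucc 3,.negSucc 3,.ofNat 0,.ofNat 0,.ofNat 0,.ofNat 0,.ofNat 0,.ofNat 0,.ofNat 0,.ofNat 0,.ofNat 4,.ofNat 12,.negSucc 3,.negSucc 3,.negSucc 3,.negSucc 3,.negSucc 3,.negSucc 3]], [.ofNat 4,.ofNat 0,.ofNat 4,.ofNat 0,.ofNat 0,.ofNat 0,.ofNat 0,.ofNat 0,.ofNat 0,.ofNat 0,.ofNat 0,.ofNat 0,.ofNat 0,.ofNat 0,.ofNat 0,.ofNat 0,.negSucc 3,.ofNat 0,.ofNat 4,.ofNat 0,.ofNat 0,.ofNat 0,.ofNat 0,.ofNat 0]⟩,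
  ⟨(0, 234), [[.ofNat 8,.ofNat 8,.ofNat 8,.ofNat 8,.ofNat 0,.ofNat 0,.ofNat 0,.ofNat 0,.ofNat 0,.ofNat 0,.ofNat 0,.ofNat 0,.ofNat 0,.ofNat 0,.ofNat 0,.ofNat 0,.ofNat 0,.ofNat 0,.ofNat 0,.ofNat 0,.negSucc 7,.negSucc 7,.negSucc 7,.negSucc 7], [.negSucc 3,.ofNat 0,.ofNat 4,.ofNat 8,.negSucc 3,.negSucc 7,.ofNat 4,.ofNat 8,.ofNat 0,.ofNat 0,.ofNat 0,.ofNat 0,.ofNat 0,.ofNat 0,.ofNat 0,.ofNat 0,.negSucc 3,.negSucc 7,.ofNat 4,.ofNat 8,.ofNat 4,.ofNat 0,.negSucc 3,.negSucc 7], [.negSucc 3,.negSucc 11,.negSucc 3,.negSucc 3,.negSucc 3,.negSucc 3,.ofNat 4,.ofNat 4,.ofNat 0,.ofNat 0,.ofNat 0,.ofNat 0,.ofNat 0,.ofNat 0,.ofNat 0,.ofNat 0,.negSucc 3,.negSucc 3,.ofNat 4,.ofNat 4,.ofNat 4,.ofNat 12,.ofNat 4,.ofNat 4], [.negSucc 3,.negSucc 3,.negSucc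 3,.negSucc 11,.ofNat 4,.ofNat 4,.negSucc 3,.negSucc 3,.ofNat 0,.ofNat 0,.ofNat 0,.ofNat 0,.ofNat 0,.ofNat 0,.ofNat 0,.ofNat 0,.ofNat 4,.ofNat 4,.negSucc 3,.negSucc 3,.ofNat 4,.ofNat 4,.ofNat 4,.ofNat 12]], [.ofNat 4,.ofNat 0,.ofNat 4,.ofNat 0,.ofNat 0,.ofNat 0,.ofNat 0,.ofNat 0,.ofNat 0,.ofNat 0,.ofNat 0,.ofNat 0,.ofNat 0,.ofNat 0,.ofNat 0,.ofNat 0,.ofNat 0,.ofNat 0,.ofNat 0,.ofNat 0,.negSucc 3,.ofNat 0,.negSucc 3,.ofNat 0]⟩,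
  ⟨(0, 235), [[.ofNat 8,.ofNat 8,.ofNat 8,.ofNat 8,.ofNat 0,.ofNat 0,.ofNat 0,.ofNat 0,.ofNat 0,.ofNat 0,.ofNat 0,.ofNat 0,.ofNat 0,.ofNat 0,.ofNat 0,.ofNat 0,.ofNat 0,.ofNat 0,.ofNat 0,.ofNat 0,.negSucc 7,.negSucc 7,.ofNat 8,.ofNat 8], [.negSucc 3,.ofNat 0,.ofNat 4,.ofNat 8,.negSucc 3,.negSucc 7,.ofNat 4,.ofNat 8,.ofNat 0,.ofNat 0,.ofNat 0,.ofNat 0,.ofNat 0,.ofNat 0,.ofNat 0,.ofNat 0,.negSucc 3,.negSucc 7,.negSucc 3,.negSucc 7,.negSucc 3,.negSucc 7,.negSucc 3,.ofNat 0], [.negSucc 3,.negSucc 11,.negSucc 3,.negSucc 3,.negSucc 3,.negSucc 3,.ofNat 4,.ofNat 4,.ofNat 0,.ofNat 0,.ofNat 0,.ofNat 0,.ofNat 0,.ofNat 0,.ofNat 0,.ofNat 0,.negSucc 3,.negSucc 3,.negSucc 3,.negSucc 3,.ofNat 4,.ofNat 4,.negSucc 3,.negSucc 11], [.negSucc 3,.negSucc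 3,.negSucc 3,.negSucc 11,.ofNat 4,.ofNat 4,.negSucc 3,.negSucc 3,.ofNat 0,.ofNat 0,.ofNat 0,.ofNat 0,.ofNat 0,.ofNat 0,.ofNat 0,.ofNat 0,.ofNat 4,.ofNat 4,.ofNat 4,.ofNat 4,.ofNat 4,.ofNat 12,.negSucc 3,.negSucc 3]], [.ofNat 4,.ofNat 0,.ofNat 4,.ofNat 0,.ofNat 0,.ofNat 0,.ofNat 0,.ofNat 0,.ofNat 0,.ofNat 0,.ofNat 0,.ofNat 0,.ofNat 0,.ofNat 0,.ofNat 0,.ofNat 0,.ofNat 0,.ofNat 0,.ofNat 0,.ofNat 0,.negSucc 3,.ofNat 0,.ofNat 4,.ofNat 0]⟩,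
  ⟨(0, 236), [[.ofNat 8,.ofNat 8,.ofNat 8,.ofNat 8,.ofNat 0,.ofNat 0,.ofNat 0,.ofNat 0,.ofNat 0,.ofNat 0,.ofNat 0,.ofNat 0,.ofNat 0,.ofNat 0,.ofNat 0,.ofNat 0,.ofNat 0,.ofNat 0,.ofNat 0,.ofNat 0,.ofNat 8,.ofNat 8,.negSucc 7,.negSucc 7], [.negSucc 3,.ofNat 0,.ofNat 4,.ofNat 8,.negSucc 3,.negSucc 7,.ofNat 4,.ofNat 8,.ofNat 0,.ofNat 0,.ofNat 0,.ofNat 0,.ofNat 0,.ofNat 0,.ofNat 0,.ofNat 0,.ofNat 4,.ofNat 8,.ofNat 4,.ofNat 8,.ofNat 4,.ofNat 8,.ofNat 4,.ofNat 0], [.negSucc 3,.negSucc 11,.negSucc 3,.negSucc 3,.negSucc 3,.negSucc 3,.ofNat 4,.ofNat 4,.ofNat 0,.ofNat 0,.ofNat 0,.ofNat 0,.ofNat 0,.ofNat 0,.ofNat 0,.ofNat 0,.ofNat 4,.ofNat 4,.ofNat 4,.ofNat 4,.negSucc 3,.negSucc 3,.ofNat 4,.ofNat 12], [.negSucc 3,.negSucc 3,.negSucc 3,.negSucc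 11,.ofNat 4,.ofNat 4,.negSucc 3,.negSucc 3,.ofNat 0,.ofNat 0,.ofNat 0,.ofNat 0,.ofNat 0,.ofNat 0,.ofNat 0,.ofNat 0,.negSucc 3,.negSucc 3,.negSucc 3,.negSucc 3,.negSucc 3,.negSucc 11,.ofNat 4,.ofNat 4]], [.ofNat 4,.ofNat 0,.ofNat 4,.ofNat 0,.ofNat 0,.ofNat 0,.ofNat 0,.ofNat 0,.ofNat 0,.ofNat 0,.ofNat 0,.ofNat 0,.ofNat 0,.ofNat 0,.ofNat 0,.ofNat 0,.ofNat 0,.ofNat 0,.ofNat 0,.ofNat 0,.ofNat 4,.ofNat 0,.negSucc 3,.ofNat 0]⟩,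
  ⟨(0, 237), [[.ofNat 8,.ofNat 8,.ofNat 8,.ofNat 8,.ofNat 0,.ofNat 0,.ofNat 0,.ofNat 0,.ofNat 0,.ofNat 0,.ofNat 0,.ofNat 0,.ofNat 0,.ofNat 0,.ofNat 0,.ofNat 0,.ofNat 0,.ofNat 0,.ofNat 0,.ofNat 0,.ofNat 8,.ofNat 8,.ofNat 8,.ofNat 8], [.negSucc 3,.ofNat 0,.ofNat 4,.ofNat 8,.negSucc 3,.negSucc 7,.ofNat 4,.ofNat 8,.ofNat 0,.ofNat 0,.ofNat 0,.ofNat 0,.ofNat 0,.ofNat 0,.ofNat 0,.ofNat 0,.ofNat 4,.ofNat 8,.negSucc 3,.negSucc 7,.negSucc 3,.ofNat 0,.ofNat 4,.ofNat 8], [.negSucc 3,.negSucc 11,.negSucc 3,.negSucc 3,.negSucc 3,.negSucc 3,.ofNat 4,.ofNat 4,.ofNat 0,.ofNat 0,.ofNat 0,.ofNat 0,.ofNat 0,.ofNat 0,.ofNat 0,.ofNat 0,.ofNat 4,.ofNat 4,.negSucc 3,.negSucc 3,.negSucc 3,.negSucc 11,.negSucc 3,.negSucc 3], [.negSucc 3,.negSucc 3,.negSucc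 3,.negSucc 11,.ofNat 4,.ofNat 4,.negSucc 3,.negSucc 3,.ofNat 0,.ofNat 0,.ofNat 0,.ofNat 0,.ofNat 0,.ofNat 0,.ofNat 0,.ofNat 0,.negSucc 3,.negSucc 3,.ofNat 4,.ofNat 4,.negSucc 3,.negSucc 3,.negSucc 3,.negSucc 11]], [.ofNat 4,.ofNat 0,.ofNat 4,.ofNat 0,.ofNat 0,.ofNat 0,.ofNat 0,.ofNat 0,.ofNat 0,.ofNat 0,.ofNat 0,.ofNat 0,.ofNat 0,.ofNat 0,.ofNat 0,.ofNat 0,.ofNat 0,.ofNat 0,.ofNat 0,.ofNat 0,.ofNat 4,.ofNat 0,.ofNat 4,.ofNat 0]⟩,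
  ⟨(0, 238), [[.ofNat 8,.ofNat 8,.ofNat 8,.ofNat 8,.ofNat 0,.ofNat 0,.ofNat 0,.ofNat 0,.ofNat 0,.ofNat 0,.ofNat 0,.ofNat 0,.ofNat 0,.ofNat 0,.ofNat 0,.ofNat 0,.ofNat 8,.ofNat 8,.negSucc 7,.negSucc 7,.ofNat 0,.ofNat 0,.ofNat 0,.ofNat 0], [.negSucc 3,.ofNat 0,.ofNat 4,.ofNat 8,.negSucc 3,.negSucc 7,.ofNat 4,.ofNat 8,.ofNat 0,.ofNat 0,.ofNat 0,.ofNat 0,.ofNat 0,.ofNat 0,.ofNat 0,.ofNat 0,.ofNat 4,.ofNat 8,.ofNat 4,.ofNat 0,.negSucc 3,.negSucc 7,.negSucc 3,.negSucc 7], [.negSucc 3,.negSucc 11,.negSucc 3,.negSucc 3,.negSucc 3,.negSucc 3,.ofNat 4,.ofNat 4,.ofNat 0,.ofNat 0,.ofNat 0,.ofNat 0,.ofNat 0,.ofNat 0,.ofNat 0,.ofNat 0,.negSucc 3,.negSucc 3,.ofNat 4,.ofNat 12,.negSucc 3,.negSucc 3,.negSucc 3,.negSucc 3], [.negSucc 3,.negSucc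 3,.negSucc 3,.negSucc 11,.ofNat 4,.ofNat 4,.negSucc 3,.negSucc 3,.ofNat 0,.ofNat 0,.ofNat 0,.ofNat 0,.ofNat 0,.ofNat 0,.ofNat 0,.ofNat 0,.negSucc 3,.negSucc 11,.ofNat 4,.ofNat 4,.ofNat 4,.ofNat 4,.ofNat 4,.ofNat 4]], [.ofNat 4,.ofNat 0,.ofNat 4,.ofNat 0,.ofNat 0,.ofNat 0,.ofNat 0,.ofNat 0,.ofNat 0,.ofNat 0,.ofNat 0,.ofNat 0,.ofNat 0,.ofNat 0,.ofNat 0,.ofNat 0,.ofNat 4,.ofNat 0,.negSucc 3,.ofNat 0,.ofNat 0,.ofNat 0,.ofNat 0,.ofNat 0]⟩,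
  ⟨(0, 239), [[.ofNat 8,.ofNat 8,.ofNat 8,.ofNat 8,.ofNat 0,.ofNat 0,.ofNat 0,.ofNat 0,.ofNat 0,.ofNat 0,.ofNat 0,.ofNat 0,.ofNat 0,.ofNat 0,.ofNat 0,.ofNat 0,.ofNat 8,.ofNat 8,.ofNat 8,.ofNat 8,.ofNat 0,.ofNat 0,.ofNat 0,.ofNat 0], [.negSucc 3,.ofNat 0,.ofNat 4,.ofNat 8,.negSucc 3,.negSucc 7,.ofNat 4,.ofNat 8,.ofNat 0,.ofNat 0,.ofNat 0,.ofNat 0,.ofNat 0,.ofNat 0,.ofNat 0,.ofNat 0,.negSucc 3,.ofNat 0,.ofNat 4,.ofNat 8,.negSucc 3,.negSucc 7,.ofNat 4,.ofNat 8], [.negSucc 3,.negSucc 11,.negSucc 3,.negSucc 3,.negSucc 3,.negSucc 3,.ofNat 4,.ofNat 4,.ofNat 0,.ofNat 0,.ofNat 0,.ofNat 0,.ofNat 0,.ofNat 0,.ofNat 0,.ofNat 0,.negSucc 3,.negSucc 11,.negSucc 3,.negSucc 3,.negSucc 3,.negSucc 3,.ofNat 4,.ofNat 4], [.negSucc 3,.negSucc 3,.negSucc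 3,.negSucc 11,.ofNat 4,.ofNat 4,.negSucc 3,.negSucc 3,.ofNat 0,.ofNat 0,.ofNat 0,.ofNat 0,.ofNat 0,.ofNat 0,.ofNat 0,.ofNat 0,.negSucc 3,.negSucc 3,.negSucc 3,.negSucc 11,.ofNat 4,.ofNat 4,.negSucc 3,.negSucc 3]], [.ofNat 4,.ofNat 0,.ofNat 4,.ofNat 0,.ofNat 0,.ofNat 0,.ofNat 0,.ofNat 0,.ofNat 0,.ofNat 0,.ofNat 0,.ofNat 0,.ofNat 0,.ofNat 0,.ofNat 0,.ofNat 0,.ofNat 4,.ofNat 0,.ofNat 4,.ofNat 0,.ofNat 0,.ofNat 0,.ofNat 0,.ofNat 0]⟩,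
  ⟨(0, 240), [[.ofNat 8,.ofNat 8,.ofNat 4,.ofNat 4,.ofNat 0,.negSucc 3,.ofNat 4,.ofNat 8,.negSucc 3,.negSucc 3,.ofNat 0,.ofNat 0,.negSucc 3,.negSucc 7,.ofNat 0,.negSucc 3,.negSucc 3,.negSucc 3,.ofNat 0,.ofNat 0,.negSucc 3,.negSucc 7,.ofNat 0,.negSucc 3], [.negSucc 3,.ofNat 0,.ofNat 0,.ofNat 0,.negSucc 7,.negSucc 11,.ofNat 4,.ofNat 4,.negSucc 3,.negSucc 7,.ofNat 0,.ofNat 0,.ofNat 0,.ofNat 4,.negSucc 3,.negSucc 3,.negSucc 3,.negSucc 7,.ofNat 0,.ofNat 0,.ofNat 0,.ofNat 4,.negSucc 3,.negSucc 3], [.negSucc 3,.negSucc 11,.negSucc 3,.negSucc 3,.negSucc 3,.negSucc 3,.negSucc 3,.negSucc 3,.ofNat 0,.ofNat 0,.ofNat 0,.ofNat 0,.ofNat 8,.ofNat 8,.ofNat 0,.ofNat 0,.ofNat 0,.ofNat 0,.ofNat 0,.ofNat 0,.ofNat 8,.ofNat 8,.ofNat 0,.ofNat 0],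 [.negSucc 3,.negSucc 3,.ofNat 0,.negSucc 3,.ofNat 8,.ofNat 8,.negSucc 3,.negSucc 7,.ofNat 4,.ofNat 8,.ofNat 0,.ofNat 0,.ofNat 0,.ofNat 4,.ofNat 4,.ofNat 4,.ofNat 4,.ofNat 8,.ofNat 0,.ofNat 0,.ofNat 0,.ofNat 4,.ofNat 4,.ofNat 4]], [.ofNat 4,.ofNat 0,.ofNat 2,.ofNat 0,.ofNat 2,.negSucc 1,.ofNat 0,.ofNat 2,.negSucc 1,.ofNat 0,.ofNat 0,.ofNat 0,.ofNat 0,.negSucc 1,.ofNat 2,.negSucc 1,.negSucc 1,.ofNat 0,.ofNat 0,.ofNat 0,.ofNat 0,.negSucc 1,.ofNat 2,.negSucc 1]⟩,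
  ⟨(0, 241), [[.ofNat 8,.ofNat 8,.ofNat 4,.ofNat 4,.ofNat 0,.negSucc 3,.ofNat 4,.ofNat 8,.negSucc 3,.negSucc 3,.ofNat 0,.ofNat 0,.negSucc 3,.negSucc 7,.ofNat 0,.negSucc 3,.ofNat 4,.ofNat 4,.ofNat 0,.ofNat 0,.ofNat 4,.ofNat 8,.ofNat 0,.ofNat 4], [.negSucc 3,.ofNat 0,.ofNat 0,.ofNat 0,.negSucc 7,.negSucc 11,.ofNat 4,.ofNat 4,.negSucc 3,.negSucc 7,.ofNat 0,.ofNat 0,.ofNat 0,.ofNat 4,.negSucc 3,.negSucc 3,.ofNat 4,.ofNat 8,.ofNat 0,.ofNat 0,.ofNat 0,.negSucc 3,.ofNat 4,.ofNat 4], [.negSucc 3,.negSucc 11,.negSucc 3,.negSucc 3,.negSucc 3,.negSucc 3,.negSucc 3,.negSucc 3,.ofNat 0,.ofNat 0,.ofNat 0,.ofNat 0,.ofNat 8,.ofNat 8,.ofNat 0,.ofNat 0,.ofNat 0,.ofNat 0,.ofNat 0,.ofNat 0,.negSucc 7,.negSucc 7,.ofNat 0,.ofNat 0], [.negSucc 3,.negSucc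 3,.ofNat 0,.negSucc 3,.ofNat 8,.ofNat 8,.negSucc 3,.negSucc 7,.ofNat 4,.ofNat 8,.ofNat 0,.ofNat 0,.ofNat 0,.ofNat 4,.ofNat 4,.ofNat 4,.negSucc 3,.negSucc 7,.ofNat 0,.ofNat 0,.ofNat 0,.negSucc 3,.negSucc 3,.negSucc 3]], [.ofNat 4,.ofNat 0,.ofNat 2,.ofNat 0,.ofNat 2,.negSucc 1,.ofNat 0,.ofNat 2,.negSucc 1,.ofNat 0,.ofNat 0,.ofNat 0,.ofNat 0,.negSucc 1,.ofNat 2,.negSucc 1,.ofNat 2,.ofNat 0,.ofNat 0,.ofNat 0,.ofNat 0,.ofNat 2,.negSucc 1,.ofNat 2]⟩,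
  ⟨(0, 242), [[.ofNat 8,.ofNat 8,.ofNat 4,.ofNat 4,.ofNat 0,.negSucc 3,.ofNat 4,.ofNat 8,.ofNat 4,.ofNat 4,.ofNat 0,.ofNat 0,.ofNat 4,.ofNat 8,.ofNat 0,.ofNat 4,.negSucc 3,.negSucc 3,.ofNat 0,.ofNat 0,.negSucc 3,.negSucc 7,.ofNat 0,.negSucc 3], [.negSucc 3,.ofNat 0,.ofNat 0,.ofNat 0,.negSucc 7,.negSucc 11,.ofNat 4,.ofNat 4,.ofNat 4,.ofNat 8,.ofNat 0,.ofNat 0,.ofNat 0,.negSucc 3,.ofNat 4,.ofNat 4,.negSucc 3,.negSucc 7,.ofNat 0,.ofNat 0,.ofNat 0,.ofNat 4,.negSucc 3,.negSucc 3], [.negSucc 3,.negSucc 11,.negSucc 3,.negSucc 3,.negSucc 3,.negSucc 3,.negSucc 3,.negSucc 3,.ofNat 0,.ofNat 0,.ofNat 0,.ofNat 0,.negSucc 7,.negSucc 7,.ofNat 0,.ofNat 0,.ofNat 0,.ofNat 0,.ofNat 0,.ofNat 0,.ofNat 8,.ofNat 8,.ofNat 0,.ofNat 0], [.negSucc 3,.negSucc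 3,.ofNat 0,.negSucc 3,.ofNat 8,.ofNat 8,.negSucc 3,.negSucc 7,.negSucc 3,.negSucc 7,.ofNat 0,.ofNat 0,.ofNat 0,.negSucc 3,.negSucc 3,.negSucc 3,.ofNat 4,.ofNat 8,.ofNat 0,.ofNat 0,.ofNat 0,.ofNat 4,.ofNat 4,.ofNat 4]], [.ofNat 4,.ofNat 0,.ofNat 2,.ofNat 0,.ofNat 2,.negSucc 1,.ofNat 0,.ofNat 2,.ofNat 2,.ofNat 0,.ofNat 0,.ofNat 0,.ofNat 0,.ofNat 2,.negSucc 1,.ofNat 2,.negSucc 1,.ofNat 0,.ofNat 0,.ofNat 0,.ofNat 0,.negSucc 1,.ofNat 2,.negSucc 1]⟩,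
  ⟨(0, 243), [[.ofNat 8,.ofNat 8,.ofNat 4,.ofNat 4,.ofNat 0,.negSucc 3,.ofNat 4,.ofNat 8,.ofNat 4,.ofNat 4,.ofNat 0,.ofNat 0,.ofNat 4,.ofNat 8,.ofNat 0,.ofNat 4,.ofNat 4,.ofNat 4,.ofNat 0,.ofNat 0,.ofNat 4,.ofNat 8,.ofNat 0,.ofNat 4], [.negSucc 3,.ofNat 0,.ofNat 0,.ofNat 0,.negSucc 7,.negSucc 11,.ofNat 4,.ofNat 4,.ofNat 4,.ofNat 8,.ofNat 0,.ofNat 0,.ofNat 0,.negSucc 3,.ofNat 4,.ofNat 4,.ofNat 4,.ofNat 8,.ofNat 0,.ofNat 0,.ofNat 0,.negSucc 3,.ofNat 4,.ofNat 4], [.negSucc 3,.negSucc 11,.negSucc 3,.negSucc 3,.negSucc 3,.negSucc 3,.negSucc 3,.negSucc 3,.ofNat 0,.ofNat 0,.ofNat 0,.ofNat 0,.negSucc 7,.negSucc 7,.ofNat 0,.ofNat 0,.ofNat 0,.ofNat 0,.ofNat 0,.ofNat 0,.negSucc 7,.negSucc 7,.ofNat 0,.ofNat 0], [.negSucc 3,.negSucc 3,.ofNat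 0,.negSucc 3,.ofNat 8,.ofNat 8,.negSucc 3,.negSucc 7,.negSucc 3,.negSucc 7,.ofNat 0,.ofNat 0,.ofNat 0,.negSucc 3,.negSucc 3,.negSucc 3,.negSucc 3,.negSucc 7,.ofNat 0,.ofNat 0,.ofNat 0,.negSucc 3,.negSucc 3,.negSucc 3]], [.ofNat 4,.ofNat 0,.ofNat 2,.ofNat 0,.ofNat 2,.negSucc 1,.ofNat 0,.ofNat 2,.ofNat 2,.ofNat 0,.ofNat 0,.ofNat 0,.ofNat 0,.ofNat 2,.negSucc 1,.ofNat 2,.ofNat 2,.ofNat 0,.ofNat 0,.ofNat 0,.ofNat 0,.ofNat 2,.negSucc 1,.ofNat 2]⟩,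
  ⟨(0, 244), [[.ofNat 8,.ofNat 8,.ofNat 4,.ofNat 4,.ofNat 0,.negSucc 3,.ofNat 4,.ofNat 8,.ofNat 0,.ofNat 4,.negSucc 3,.negSucc 7,.ofNat 0,.ofNat 0,.negSucc 3,.negSucc 3,.ofNat 0,.ofNat 4,.negSucc 3,.negSucc 7,.ofNat 0,.ofNat 0,.negSucc 3,.negSucc 3], [.negSucc 3,.ofNat 0,.ofNat 0,.ofNat 0,.negSucc 7,.negSucc 11,.ofNat 4,.ofNat 4,.ofNat 4,.ofNat 4,.ofNat 0,.ofNat 4,.ofNat 0,.ofNat 0,.negSucc 3,.negSucc 7,.ofNat 4,.ofNat 4,.ofNat 0,.ofNat 4,.ofNat 0,.ofNat 0,.negSucc 3,.negSucc 7], [.negSucc 3,.negSucc 11,.negSucc 3,.negSucc 3,.negSucc 3,.negSucc 3,.negSucc 3,.negSucc 3,.ofNat 0,.ofNat 0,.ofNat 8,.ofNat 8,.ofNat 0,.ofNat 0,.ofNat 0,.ofNat 0,.ofNat 0,.ofNat 0,.ofNat 8,.ofNat 8,.ofNat 0,.ofNat 0,.ofNat 0,.ofNat 0], [.negSucc 3,.negSucc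 3,.ofNat 0,.negSucc 3,.ofNat 8,.ofNat 8,.negSucc 3,.negSucc 7,.negSucc 3,.negSucc 3,.ofNat 0,.ofNat 4,.ofNat 0,.ofNat 0,.ofNat 4,.ofNat 8,.negSucc 3,.negSucc 3,.ofNat 0,.ofNat 4,.ofNat 0,.ofNat 0,.ofNat 4,.ofNat 8]], [.ofNat 4,.ofNat 0,.ofNat 2,.ofNat 0,.ofNat 2,.negSucc 1,.ofNat 0,.ofNat 2,.negSucc 1,.ofNat 2,.ofNat 0,.negSucc 1,.ofNat 0,.ofNat 0,.negSucc 1,.ofNat 0,.negSucc 1,.ofNat 2,.ofNat 0,.negSucc 1,.ofNat 0,.ofNat 0,.negSucc 1,.ofNat 0]⟩,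
  ⟨(0, 245), [[.ofNat 8,.ofNat 8,.ofNat 4,.ofNat 4,.ofNat 0,.negSucc 3,.ofNat 4,.ofNat 8,.ofNat 0,.ofNat 4,.negSucc 3,.negSucc 7,.ofNat 0,.ofNat 0,.negSucc 3,.negSucc 3,.ofNat 0,.negSucc 3,.ofNat 4,.ofNat 8,.ofNat 0,.ofNat 0,.ofNat 4,.ofNat 4], [.negSucc 3,.ofNat 0,.ofNat 0,.ofNat 0,.negSucc 7,.negSucc 11,.ofNat 4,.ofNat 4,.ofNat 4,.ofNat 4,.ofNat 0,.ofNat 4,.ofNat 0,.ofNat 0,.negSucc 3,.negSucc 7,.negSucc 3,.negSucc 3,.ofNat 0,.negSucc 3,.ofNat 0,.ofNat 0,.ofNat 4,.ofNat 8], [.negSucc 3,.negSucc 11,.negSucc 3,.negSucc 3,.negSucc 3,.negSucc 3,.negSucc 3,.negSucc 3,.ofNat 0,.ofNat 0,.ofNat 8,.ofNat 8,.ofNat 0,.ofNat 0,.ofNat 0,.ofNat 0,.ofNat 0,.ofNat 0,.negSucc 7,.negSucc 7,.ofNat 0,.ofNat 0,.ofNat 0,.ofNat 0], [.negSucc 3,.negSucc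 3,.ofNat 0,.negSucc 3,.ofNat 8,.ofNat 8,.negSucc 3,.negSucc 7,.negSucc 3,.negSucc 3,.ofNat 0,.ofNat 4,.ofNat 0,.ofNat 0,.ofNat 4,.ofNat 8,.ofNat 4,.ofNat 4,.ofNat 0,.negSucc 3,.ofNat 0,.ofNat 0,.negSucc 3,.negSucc 7]], [.ofNat 4,.ofNat 0,.ofNat 2,.ofNat 0,.ofNat 2,.negSucc 1,.ofNat 0,.ofNat 2,.negSucc 1,.ofNat 2,.ofNat 0,.negSucc 1,.ofNat 0,.ofNat 0,.negSucc 1,.ofNat 0,.ofNat 2,.negSucc 1,.ofNat 0,.ofNat 2,.ofNat 0,.ofNat 0,.ofNat 2,.ofNat 0]⟩,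
  ⟨(0, 246), [[.ofNat 8,.ofNat 8,.ofNat 4,.ofNat 4,.ofNat 0,.negSucc 3,.ofNat 4,.ofNat 8,.ofNat 0,.negSucc 3,.ofNat 4,.ofNat 8,.ofNat 0,.ofNat 0,.ofNat 4,.ofNat 4,.ofNat 0,.ofNat 4,.negSucc 3,.negSucc 7,.ofNat 0,.ofNat 0,.negSucc 3,.negSucc 3], [.negSucc 3,.ofNat 0,.ofNat 0,.ofNat 0,.negSucc 7,.negSucc 11,.ofNat 4,.ofNat 4,.negSucc 3,.negSucc 3,.ofNat 0,.negSucc 3,.ofNat 0,.ofNat 0,.ofNat 4,.ofNat 8,.ofNat 4,.ofNat 4,.ofNat 0,.ofNat 4,.ofNat 0,.ofNat 0,.negSucc 3,.negSucc 7], [.negSucc 3,.negSucc 11,.negSucc 3,.negSucc 3,.negSucc 3,.negSucc 3,.negSucc 3,.negSucc 3,.ofNat 0,.ofNat 0,.negSucc 7,.negSucc 7,.ofNat 0,.ofNat 0,.ofNat 0,.ofNat 0,.ofNat 0,.ofNat 0,.ofNat 8,.ofNat 8,.ofNat 0,.ofNat 0,.ofNat 0,.ofNat 0], [.negSucc 3,.negSucc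 3,.ofNat 0,.negSucc 3,.ofNat 8,.ofNat 8,.negSucc 3,.negSucc 7,.ofNat 4,.ofNat 4,.ofNat 0,.negSucc 3,.ofNat 0,.ofNat 0,.negSucc 3,.negSucc 7,.negSucc 3,.negSucc 3,.ofNat 0,.ofNat 4,.ofNat 0,.ofNat 0,.ofNat 4,.ofNat 8]], [.ofNat 4,.ofNat 0,.ofNat 2,.ofNat 0,.ofNat 2,.negSucc 1,.ofNat 0,.ofNat 2,.ofNat 2,.negSucc 1,.ofNat 0,.ofNat 2,.ofNat 0,.ofNat 0,.ofNat 2,.ofNat 0,.negSucc 1,.ofNat 2,.ofNat 0,.negSucc 1,.ofNat 0,.ofNat 0,.negSucc 1,.ofNat 0]⟩,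
  ⟨(0, 247), [[.ofNat 8,.ofNat 8,.ofNat 4,.ofNat 4,.ofNat 0,.negSucc 3,.ofNat 4,.ofNat 8,.ofNat 0,.negSucc 3,.ofNat 4,.ofNat 8,.ofNat 0,.ofNat 0,.ofNat 4,.ofNat 4,.ofNat 0,.negSucc 3,.ofNat 4,.ofNat 8,.ofNat 0,.ofNat 0,.ofNat 4,.ofNat 4], [.negSucc 3,.ofNat 0,.ofNat 0,.ofNat 0,.negSucc 7,.negSucc 11,.ofNat 4,.ofNat 4,.negSucc 3,.negSucc 3,.ofNat 0,.negSucc 3,.ofNat 0,.ofNat 0,.ofNat 4,.ofNat 8,.negSucc 3,.negSucc 3,.ofNat 0,.negSucc 3,.ofNat 0,.ofNat 0,.ofNat 4,.ofNat 8], [.negSucc 3,.negSucc 11,.negSucc 3,.negSucc 3,.negSucc 3,.negSucc 3,.negSucc 3,.negSucc 3,.ofNat 0,.ofNat 0,.negSucc 7,.negSucc 7,.ofNat 0,.ofNat 0,.ofNat 0,.ofNat 0,.ofNat 0,.ofNat 0,.negSucc 7,.negSucc 7,.ofNat 0,.ofNat 0,.ofNat 0,.ofNat 0], [.negSucc 3,.negSucc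 3,.ofNat 0,.negSucc 3,.ofNat 8,.ofNat 8,.negSucc 3,.negSucc 7,.ofNat 4,.ofNat 4,.ofNat 0,.negSucc 3,.ofNat 0,.ofNat 0,.negSucc 3,.negSucc 7,.ofNat 4,.ofNat 4,.ofNat 0,.negSucc 3,.ofNat 0,.ofNat 0,.negSucc 3,.negSucc 7]], [.ofNat 4,.ofNat 0,.ofNat 2,.ofNat 0,.ofNat 2,.negSucc 1,.ofNat 0,.ofNat 2,.ofNat 2,.negSucc 1,.ofNat 0,.ofNat 2,.ofNat 0,.ofNat 0,.ofNat 2,.ofNat 0,.ofNat 2,.negSucc 1,.ofNat 0,.ofNat 2,.ofNat 0,.ofNat 0,.ofNat 2,.ofNat 0]⟩,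
  ⟨(0, 248), [[.ofNat 8,.ofNat 8,.ofNat 4,.ofNat 4,.ofNat 0,.negSucc 3,.ofNat 4,.ofNat 8,.negSucc 3,.negSucc 7,.ofNat 0,.negSucc 3,.ofNat 4,.ofNat 4,.ofNat 0,.ofNat 0,.negSucc 3,.negSucc 7,.ofNat 0,.negSucc 3,.ofNat 4,.ofNat 4,.ofNat 0,.ofNat 0], [.negSucc 3,.ofNat 0,.ofNat 0,.ofNat 0,.negSucc 7,.negSucc 11,.ofNat 4,.ofNat 4,.ofNat 0,.ofNat 4,.negSucc 3,.negSucc 3,.ofNat 4,.ofNat 8,.ofNat 0,.ofNat 0,.ofNat 0,.ofNat 4,.negSucc 3,.negSucc 3,.ofNat 4,.ofNat 8,.ofNat 0,.ofNat 0], [.negSucc 3,.negSucc 11,.negSucc 3,.negSucc 3,.negSucc 3,.negSucc 3,.negSucc 3,.negSucc 3,.ofNat 8,.ofNat 8,.ofNat 0,.ofNat 0,.ofNat 0,.ofNat 0,.ofNat 0,.ofNat 0,.ofNat 8,.ofNat 8,.ofNat 0,.ofNat 0,.ofNat 0,.ofNat 0,.ofNat 0,.ofNat 0], [.negSucc 3,.negSucc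 3,.ofNat 0,.negSucc 3,.ofNat 8,.ofNat 8,.negSucc 3,.negSucc 7,.ofNat 0,.ofNat 4,.ofNat 4,.ofNat 4,.negSucc 3,.negSucc 7,.ofNat 0,.ofNat 0,.ofNat 0,.ofNat 4,.ofNat 4,.ofNat 4,.negSucc 3,.negSucc 7,.ofNat 0,.ofNat 0]], [.ofNat 4,.ofNat 0,.ofNat 2,.ofNat 0,.ofNat 2,.negSucc 1,.ofNat 0,.ofNat 2,.ofNat 0,.negSucc 1,.ofNat 2,.negSucc 1,.ofNat 2,.ofNat 0,.ofNat 0,.ofNat 0,.ofNat 0,.negSucc 1,.ofNat 2,.negSucc 1,.ofNat 2,.ofNat 0,.ofNat 0,.ofNat 0]⟩,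
  ⟨(0, 249), [[.ofNat 8,.ofNat 8,.ofNat 4,.ofNat 4,.ofNat 0,.negSucc 3,.ofNat 4,.ofNat 8,.negSucc 3,.negSucc 7,.ofNat 0,.negSucc 3,.ofNat 4,.ofNat 4,.ofNat 0,.ofNat 0,.ofNat 4,.ofNat 8,.ofNat 0,.ofNat 4,.negSucc 3,.negSucc 3,.ofNat 0,.ofNat 0], [.negSucc 3,.ofNat 0,.ofNat 0,.ofNat 0,.negSucc 7,.negSucc 11,.ofNat 4,.ofNat 4,.ofNat 0,.ofNat 4,.negSucc 3,.negSucc 3,.ofNat 4,.ofNat 8,.ofNat 0,.ofNat 0,.ofNat 0,.negSucc 3,.ofNat 4,.ofNat 4,.negSucc 3,.negSucc 7,.ofNat 0,.ofNat 0], [.negSucc 3,.negSucc 11,.negSucc 3,.negSucc 3,.negSucc 3,.negSucc 3,.negSucc 3,.negSucc 3,.ofNat 8,.ofNat 8,.ofNat 0,.ofNat 0,.ofNat 0,.ofNat 0,.ofNat 0,.ofNat 0,.negSucc 7,.negSucc 7,.ofNat 0,.ofNat 0,.ofNat 0,.ofNat 0,.ofNat 0,.ofNat 0], [.negSucc 3,.negSucc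 3,.ofNat 0,.negSucc 3,.ofNat 8,.ofNat 8,.negSucc 3,.negSucc 7,.ofNat 0,.ofNat 4,.ofNat 4,.ofNat 4,.negSucc 3,.negSucc 7,.ofNat 0,.ofNat 0,.ofNat 0,.negSucc 3,.negSucc 3,.negSucc 3,.ofNat 4,.ofNat 8,.ofNat 0,.ofNat 0]], [.ofNat 4,.ofNat 0,.ofNat 2,.ofNat 0,.ofNat 2,.negSucc 1,.ofNat 0,.ofNat 2,.ofNat 0,.negSucc 1,.ofNat 2,.negSucc 1,.ofNat 2,.ofNat 0,.ofNat 0,.ofNat 0,.ofNat 0,.ofNat 2,.negSucc 1,.ofNat 2,.negSucc 1,.ofNat 0,.ofNat 0,.ofNat 0]⟩,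
  ⟨(0, 250), [[.ofNat 8,.ofNat 8,.ofNat 4,.ofNat 4,.ofNat 0,.negSucc 3,.ofNat 4,.ofNat 8,.ofNat 4,.ofNat 8,.ofNat 0,.ofNat 4,.negSucc 3,.negSucc 3,.ofNat 0,.ofNat 0,.negSucc 3,.negSucc 7,.ofNat 0,.negSucc 3,.ofNat 4,.ofNat 4,.ofNat 0,.ofNat 0], [.negSucc 3,.ofNat 0,.ofNat 0,.ofNat 0,.negSucc 7,.negSucc 11,.ofNat 4,.ofNat 4,.ofNat 0,.negSucc 3,.ofNat 4,.ofNat 4,.negSucc 3,.negSucc 7,.ofNat 0,.ofNat 0,.ofNat 0,.ofNat 4,.negSucc 3,.negSucc 3,.ofNat 4,.ofNat 8,.ofNat 0,.ofNat 0], [.negSucc 3,.negSucc 11,.negSucc 3,.negSucc 3,.negSucc 3,.negSucc 3,.negSucc 3,.negSucc 3,.negSucc 7,.negSucc 7,.ofNat 0,.ofNat 0,.ofNat 0,.ofNat 0,.ofNat 0,.ofNat 0,.ofNat 8,.ofNat 8,.ofNat 0,.ofNat 0,.ofNat 0,.ofNat 0,.ofNat 0,.ofNat 0], [.negSucc 3,.negSucc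 3,.ofNat 0,.negSucc 3,.ofNat 8,.ofNat 8,.negSucc 3,.negSucc 7,.ofNat 0,.negSucc 3,.negSucc 3,.negSucc 3,.ofNat 4,.ofNat 8,.ofNat 0,.ofNat 0,.ofNat 0,.ofNat 4,.ofNat 4,.ofNat 4,.negSucc 3,.negSucc 7,.ofNat 0,.ofNat 0]], [.ofNat 4,.ofNat 0,.ofNat 2,.ofNat 0,.ofNat 2,.negSucc 1,.ofNat 0,.ofNat 2,.ofNat 0,.ofNat 2,.negSucc 1,.ofNat 2,.negSucc 1,.ofNat 0,.ofNat 0,.ofNat 0,.ofNat 0,.negSucc 1,.ofNat 2,.negSucc 1,.ofNat 2,.ofNat 0,.ofNat 0,.ofNat 0]⟩,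
  ⟨(0, 251), [[.ofNat 8,.ofNat 8,.ofNat 4,.ofNat 4,.ofNat 0,.negSucc 3,.ofNat 4,.ofNat 8,.ofNat 4,.ofNat 8,.ofNat 0,.ofNat 4,.negSucc 3,.negSucc 3,.ofNat 0,.ofNat 0,.ofNat 4,.ofNat 8,.ofNat 0,.ofNat 4,.negSucc 3,.negSucc 3,.ofNat 0,.ofNat 0], [.negSucc 3,.ofNat 0,.ofNat 0,.ofNat 0,.negSucc 7,.negSucc 11,.ofNat 4,.ofNat 4,.ofNat 0,.negSucc 3,.ofNat 4,.ofNat 4,.negSucc 3,.negSucc 7,.ofNat 0,.ofNat 0,.ofNat 0,.negSucc 3,.ofNat 4,.ofNat 4,.negSucc 3,.negSucc 7,.ofNat 0,.ofNat 0], [.negSucc 3,.negSucc 11,.negSucc 3,.negSucc 3,.negSucc 3,.negSucc 3,.negSucc 3,.negSucc 3,.negSucc 7,.negSucc 7,.ofNat 0,.ofNat 0,.ofNat 0,.ofNat 0,.ofNat 0,.ofNat 0,.negSucc 7,.negSucc 7,.ofNat 0,.ofNat 0,.ofNat 0,.ofNat 0,.ofNat 0,.ofNat 0], [.negSucc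 3,.negSucc 3,.ofNat 0,.negSucc 3,.ofNat 8,.ofNat 8,.negSucc 3,.negSucc 7,.ofNat 0,.negSucc 3,.negSucc 3,.negSucc 3,.ofNat 4,.ofNat 8,.ofNat 0,.ofNat 0,.ofNat 0,.negSucc 3,.negSucc 3,.negSucc 3,.ofNat 4,.ofNat 8,.ofNat 0,.ofNat 0]], [.ofNat 4,.ofNat 0,.ofNat 2,.ofNat 0,.ofNat 2,.negSucc 1,.ofNat 0,.ofNat 2,.ofNat 0,.ofNat 2,.negSucc 1,.ofNat 2,.negSucc 1,.ofNat 0,.ofNat 0,.ofNat 0,.ofNat 0,.ofNat 2,.negSucc 1,.ofNat 2,.negSucc 1,.ofNat 0,.ofNat 0,.ofNat 0]⟩,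
  ⟨(0, 252), [[.ofNat 8,.ofNat 8,.ofNat 4,.ofNat 4,.ofNat 0,.negSucc 3,.ofNat 4,.ofNat 8,.ofNat 0,.ofNat 0,.negSucc 3,.negSucc 3,.ofNat 0,.negSucc 3,.ofNat 4,.ofNat 8,.ofNat 0,.ofNat 0,.negSucc 3,.negSucc 3,.ofNat 0,.negSucc 3,.ofNat 4,.ofNat 8], [.negSucc 3,.ofNat 0,.ofNat 0,.ofNat 0,.negSucc 7,.negSucc 11,.ofNat 4,.ofNat 4,.ofNat 0,.ofNat 0,.negSucc 3,.negSucc 7,.negSucc 3,.negSucc 3,.ofNat 0,.negSucc 3,.ofNat 0,.ofNat 0,.negSucc 3,.negSucc 7,.negSucc 3,.negSucc 3,.ofNat 0,.negSucc 3], [.negSucc 3,.negSucc 11,.negSucc 3,.negSucc 3,.negSucc 3,.negSucc 3,.negSucc 3,.negSucc 3,.ofNat 0,.ofNat 0,.ofNat 0,.ofNat 0,.ofNat 0,.ofNat 0,.negSucc 7,.negSucc 7,.ofNat 0,.ofNat 0,.ofNat 0,.ofNat 0,.ofNat 0,.ofNat 0,.negSucc 7,.negSucc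 7], [.negSucc 3,.negSucc 3,.ofNat 0,.negSucc 3,.ofNat 8,.ofNat 8,.negSucc 3,.negSucc 7,.ofNat 0,.ofNat 0,.ofNat 4,.ofNat 8,.ofNat 4,.ofNat 4,.ofNat 0,.negSucc 3,.ofNat 0,.ofNat 0,.ofNat 4,.ofNat 8,.ofNat 4,.ofNat 4,.ofNat 0,.negSucc 3]], [.ofNat 4,.ofNat 0,.ofNat 2,.ofNat 0,.ofNat 2,.negSucc 1,.ofNat 0,.ofNat 2,.ofNat 0,.ofNat 0,.negSucc 1,.ofNat 0,.ofNat 2,.negSucc 1,.ofNat 0,.ofNat 2,.ofNat 0,.ofNat 0,.negSucc 1,.ofNat 0,.ofNat 2,.negSucc 1,.ofNat 0,.ofNat 2]⟩,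
  ⟨(0, 253), [[.ofNat 8,.ofNat 8,.ofNat 4,.ofNat 4,.ofNat 0,.negSucc 3,.ofNat 4,.ofNat 8,.ofNat 0,.ofNat 0,.negSucc 3,.negSucc 3,.ofNat 0,.negSucc 3,.ofNat 4,.ofNat 8,.ofNat 0,.ofNat 0,.ofNat 4,.ofNat 4,.ofNat 0,.ofNat 4,.negSucc 3,.negSucc 7], [.negSucc 3,.ofNat 0,.ofNat 0,.ofNat 0,.negSucc 7,.negSucc 11,.ofNat 4,.ofNat 4,.ofNat 0,.ofNat 0,.negSucc 3,.negSucc 7,.negSucc 3,.negSucc 3,.ofNat 0,.negSucc 3,.ofNat 0,.ofNat 0,.ofNat 4,.ofNat 8,.ofNat 4,.ofNat 4,.ofNat 0,.ofNat 4], [.negSucc 3,.negSucc 11,.negSucc 3,.negSucc 3,.negSucc 3,.negSucc 3,.negSucc 3,.negSucc 3,.ofNat 0,.ofNat 0,.ofNat 0,.ofNat 0,.ofNat 0,.ofNat 0,.negSucc 7,.negSucc 7,.ofNat 0,.ofNat 0,.ofNat 0,.ofNat 0,.ofNat 0,.ofNat 0,.ofNat 8,.ofNat 8], [.negSucc 3,.negSucc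 3,.ofNat 0,.negSucc 3,.ofNat 8,.ofNat 8,.negSucc 3,.negSucc 7,.ofNat 0,.ofNat 0,.ofNat 4,.ofNat 8,.ofNat 4,.ofNat 4,.ofNat 0,.negSucc 3,.ofNat 0,.ofNat 0,.negSucc 3,.negSucc 7,.negSucc 3,.negSucc 3,.ofNat 0,.ofNat 4]], [.ofNat 4,.ofNat 0,.ofNat 2,.ofNat 0,.ofNat 2,.negSucc 1,.ofNat 0,.ofNat 2,.ofNat 0,.ofNat 0,.negSucc 1,.ofNat 0,.ofNat 2,.negSucc 1,.ofNat 0,.ofNat 2,.ofNat 0,.ofNat 0,.ofNat 2,.ofNat 0,.negSucc 1,.ofNat 2,.ofNat 0,.negSucc 1]⟩,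
  ⟨(0, 254), [[.ofNat 8,.ofNat 8,.ofNat 4,.ofNat 4,.ofNat 0,.negSucc 3,.ofNat 4,.ofNat 8,.ofNat 0,.ofNat 0,.ofNat 4,.ofNat 4,.ofNat 0,.ofNat 4,.negSucc 3,.negSucc 7,.ofNat 0,.ofNat 0,.negSucc 3,.negSucc 3,.ofNat 0,.negSucc 3,.ofNat 4,.ofNat 8], [.negSucc 3,.ofNat 0,.ofNat 0,.ofNat 0,.negSucc 7,.negSucc 11,.ofNat 4,.ofNat 4,.ofNat 0,.ofNat 0,.ofNat 4,.ofNat 8,.ofNat 4,.ofNat 4,.ofNat 0,.ofNat 4,.ofNat 0,.ofNat 0,.negSucc 3,.negSucc 7,.negSucc 3,.negSucc 3,.ofNat 0,.negSucc 3], [.negSucc 3,.negSucc 11,.negSucc 3,.negSucc 3,.negSucc 3,.negSucc 3,.negSucc 3,.negSucc 3,.ofNat 0,.ofNat 0,.ofNat 0,.ofNat 0,.ofNat 0,.ofNat 0,.ofNat 8,.ofNat 8,.ofNat 0,.ofNat 0,.ofNat 0,.ofNat 0,.ofNat 0,.ofNat 0,.negSucc 7,.negSucc 7], [.negSucc 3,.negSucc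 3,.ofNat 0,.negSucc 3,.ofNat 8,.ofNat 8,.negSucc 3,.negSucc 7,.ofNat 0,.ofNat 0,.negSucc 3,.negSucc 7,.negSucc 3,.negSucc 3,.ofNat 0,.ofNat 4,.ofNat 0,.ofNat 0,.ofNat 4,.ofNat 8,.ofNat 4,.ofNat 4,.ofNat 0,.negSucc 3]], [.ofNat 4,.ofNat 0,.ofNat 2,.ofNat 0,.ofNat 2,.negSucc 1,.ofNat 0,.ofNat 2,.ofNat 0,.ofNat 0,.ofNat 2,.ofNat 0,.negSucc 1,.ofNat 2,.ofNat 0,.negSucc 1,.ofNat 0,.ofNat 0,.negSucc 1,.ofNat 0,.ofNat 2,.negSucc 1,.ofNat 0,.ofNat 2]⟩,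
  ⟨(0, 255), [[.ofNat 8,.ofNat 8,.ofNat 4,.ofNat 4,.ofNat 0,.negSucc 3,.ofNat 4,.ofNat 8,.ofNat 0,.ofNat 0,.ofNat 4,.ofNat 4,.ofNat 0,.ofNat 4,.negSucc 3,.negSucc 7,.ofNat 0,.ofNat 0,.ofNat 4,.ofNat 4,.ofNat 0,.ofNat 4,.negSucc 3,.negSucc 7], [.negSucc 3,.ofNat 0,.ofNat 0,.ofNat 0,.negSucc 7,.negSucc 11,.ofNat 4,.ofNat 4,.ofNat 0,.ofNat 0,.ofNat 4,.ofNat 8,.ofNat 4,.ofNat 4,.ofNat 0,.ofNat 4,.ofNat 0,.ofNat 0,.ofNat 4,.ofNat 8,.ofNat 4,.ofNat 4,.ofNat 0,.ofNat 4], [.negSucc 3,.negSucc 11,.negSucc 3,.negSucc 3,.negSucc 3,.negSucc 3,.negSucc 3,.negSucc 3,.ofNat 0,.ofNat 0,.ofNat 0,.ofNat 0,.ofNat 0,.ofNat 0,.ofNat 8,.ofNat 8,.ofNat 0,.ofNat 0,.ofNat 0,.ofNat 0,.ofNat 0,.ofNat 0,.ofNat 8,.ofNat 8], [.negSucc 3,.negSucc 3,.ofNat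 0,.negSucc 3,.ofNat 8,.ofNat 8,.negSucc 3,.negSucc 7,.ofNat 0,.ofNat 0,.negSucc 3,.negSucc 7,.negSucc 3,.negSucc 3,.ofNat 0,.ofNat 4,.ofNat 0,.ofNat 0,.negSucc 3,.negSucc 7,.negSucc 3,.negSucc 3,.ofNat 0,.ofNat 4]], [.ofNat 4,.ofNat 0,.ofNat 2,.ofNat 0,.ofNat 2,.negSucc 1,.ofNat 0,.ofNat 2,.ofNat 0,.ofNat 0,.ofNat 2,.ofNat 0,.negSucc 1,.ofNat 2,.ofNat 0,.negSucc 1,.ofNat 0,.ofNat 0,.ofNat 2,.ofNat 0,.negSucc 1,.ofNat 2,.ofNat 0,.negSucc 1]⟩,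
  ⟨(0, 256), [[.ofNat 8,.ofNat 8,.ofNat 4,.ofNat 4,.ofNat 0,.negSucc 3,.negSucc 3,.negSucc 7,.negSucc 3,.negSucc 3,.ofNat 0,.ofNat 0,.ofNat 4,.ofNat 8,.ofNat 0,.negSucc 3,.ofNat 0,.ofNat 4,.ofNat 4,.ofNat 8,.ofNat 0,.ofNat 0,.negSucc 3,.negSucc 3], [.negSucc 3,.ofNat 0,.ofNat 8,.ofNat 12,.negSucc 3,.negSucc 3,.ofNat 0,.ofNat 0,.ofNat 4,.ofNat 4,.ofNat 0,.ofNat 0,.ofNat 4,.ofNat 8,.ofNat 0,.ofNat 4,.ofNat 0,.negSucc 3,.ofNat 4,.ofNat 8,.ofNat 0,.ofNat 0,.ofNat 4,.ofNat 4], [.negSucc 3,.negSucc 11,.ofNat 0,.ofNat 4,.ofNat 0,.ofNat 0,.ofNat 4,.ofNat 8,.ofNat 4,.ofNat 8,.ofNat 0,.ofNat 0,.ofNat 0,.negSucc 3,.ofNat 4,.ofNat 4,.negSucc 3,.negSucc 3,.ofNat 0,.negSucc 3,.ofNat 0,.ofNat 0,.ofNat 4,.ofNat 8], [.negSucc 3,.negSucc 3,.negSucc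 3,.negSucc 11,.ofNat 4,.ofNat 4,.ofNat 4,.ofNat 4,.ofNat 0,.ofNat 0,.ofNat 0,.ofNat 0,.negSucc 7,.negSucc 7,.ofNat 0,.ofNat 0,.ofNat 0,.ofNat 0,.negSucc 7,.negSucc 7,.ofNat 0,.ofNat 0,.ofNat 0,.ofNat 0]], [.ofNat 4,.ofNat 0,.ofNat 2,.ofNat 0,.ofNat 2,.negSucc 1,.ofNat 0,.negSucc 1,.negSucc 1,.ofNat 0,.ofNat 0,.ofNat 0,.ofNat 0,.ofNat 2,.ofNat 2,.negSucc 1,.negSucc 1,.ofNat 2,.ofNat 0,.ofNat 2,.ofNat 0,.ofNat 0,.negSucc 1,.ofNat 0]⟩,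
  ⟨(0, 257), [[.ofNat 8,.ofNat 8,.ofNat 4,.ofNat 4,.ofNat 0,.negSucc 3,.negSucc 3,.negSucc 7,.negSucc 3,.negSucc 3,.ofNat 0,.ofNat 0,.ofNat 4,.ofNat 8,.ofNat 0,.negSucc 3,.ofNat 0,.negSucc 3,.negSucc 3,.negSucc 7,.ofNat 0,.ofNat 0,.ofNat 4,.ofNat 4], [.negSucc 3,.ofNat 0,.ofNat 8,.ofNat 12,.negSucc 3,.negSucc 3,.ofNat 0,.ofNat 0,.ofNat 4,.ofNat 4,.ofNat 0,.ofNat 0,.ofNat 4,.ofNat 8,.ofNat 0,.ofNat 4,.ofNat 0,.ofNat 4,.negSucc 3,.negSucc 7,.ofNat 0,.ofNat 0,.negSucc 3,.negSucc 3], [.negSucc 3,.negSucc 11,.ofNat 0,.ofNat 4,.ofNat 0,.ofNat 0,.ofNat 4,.ofNat 8,.ofNat 4,.ofNat 8,.ofNat 0,.ofNat 0,.ofNat 0,.negSucc 3,.ofNat 4,.ofNat 4,.ofNat 4,.ofNat 4,.ofNat 0,.ofNat 4,.ofNat 0,.ofNat 0,.negSucc 3,.negSucc 7], [.negSucc 3,.negSucc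 3,.negSucc 3,.negSucc 11,.ofNat 4,.ofNat 4,.ofNat 4,.ofNat 4,.ofNat 0,.ofNat 0,.ofNat 0,.ofNat 0,.negSucc 7,.negSucc 7,.ofNat 0,.ofNat 0,.ofNat 0,.ofNat 0,.ofNat 8,.ofNat 8,.ofNat 0,.ofNat 0,.ofNat 0,.ofNat 0]], [.ofNat 4,.ofNat 0,.ofNat 2,.ofNat 0,.ofNat 2,.negSucc 1,.ofNat 0,.negSucc 1,.negSucc 1,.ofNat 0,.ofNat 0,.ofNat 0,.ofNat 0,.ofNat 2,.ofNat 2,.negSucc 1,.ofNat 2,.negSucc 1,.ofNat 0,.negSucc 1,.ofNat 0,.ofNat 0,.ofNat 2,.ofNat 0]⟩,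
  ⟨(0, 258), [[.ofNat 8,.ofNat 8,.ofNat 4,.ofNat 4,.ofNat 0,.negSucc 3,.negSucc 3,.negSucc 7,.ofNat 4,.ofNat 4,.ofNat 0,.ofNat 0,.negSucc 3,.negSucc 7,.ofNat 0,.ofNat 4,.ofNat 0,.ofNat 4,.ofNat 4,.ofNat 8,.ofNat 0,.ofNat 0,.negSucc 3,.negSucc 3], [.negSucc 3,.ofNat 0,.ofNat 8,.ofNat 12,.negSucc 3,.negSucc 3,.ofNat 0,.ofNat 0,.negSucc 3,.negSucc 3,.ofNat 0,.ofNat 0,.negSucc 3,.negSucc 7,.ofNat 0,.negSucc 3,.ofNat 0,.negSucc 3,.ofNat 4,.ofNat 8,.ofNat 0,.ofNat 0,.ofNat 4,.ofNat 4], [.negSucc 3,.negSucc 11,.ofNat 0,.ofNat 4,.ofNat 0,.ofNat 0,.ofNat 4,.ofNat 8,.negSucc 3,.negSucc 7,.ofNat 0,.ofNat 0,.ofNat 0,.ofNat 4,.negSucc 3,.negSucc 3,.negSucc 3,.negSucc 3,.ofNat 0,.negSucc 3,.ofNat 0,.ofNat 0,.ofNat 4,.ofNat 8], [.negSucc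 3,.negSucc 3,.negSucc 3,.negSucc 11,.ofNat 4,.ofNat 4,.ofNat 4,.ofNat 4,.ofNat 0,.ofNat 0,.ofNat 0,.ofNat 0,.ofNat 8,.ofNat 8,.ofNat 0,.ofNat 0,.ofNat 0,.ofNat 0,.negSucc 7,.negSucc 7,.ofNat 0,.ofNat 0,.ofNat 0,.ofNat 0]], [.ofNat 4,.ofNat 0,.ofNat 2,.ofNat 0,.ofNat 2,.negSucc 1,.ofNat 0,.negSucc 1,.ofNat 2,.ofNat 0,.ofNat 0,.ofNat 0,.ofNat 0,.negSucc 1,.negSucc 1,.ofNat 2,.negSucc 1,.ofNat 2,.ofNat 0,.ofNat 2,.ofNat 0,.ofNat 0,.negSucc 1,.ofNat 0]⟩,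
  ⟨(0, 259), [[.ofNat 8,.ofNat 8,.ofNat 4,.ofNat 4,.ofNat 0,.negSucc 3,.negSucc 3,.negSucc 7,.ofNat 4,.ofNat 4,.ofNat 0,.ofNat 0,.negSucc 3,.negSucc 7,.ofNat 0,.ofNat 4,.ofNat 0,.negSucc 3,.negSucc 3,.negSucc 7,.ofNat 0,.ofNat 0,.ofNat 4,.ofNat 4], [.negSucc 3,.ofNat 0,.ofNat 8,.ofNat 12,.negSucc 3,.negSucc 3,.ofNat 0,.ofNat 0,.negSucc 3,.negSucc 3,.ofNat 0,.ofNat 0,.negSucc 3,.negSucc 7,.ofNat 0,.negSucc 3,.ofNat 0,.ofNat 4,.negSucc 3,.negSucc 7,.ofNat 0,.ofNat 0,.negSucc 3,.negSucc 3], [.negSucc 3,.negSucc 11,.ofNat 0,.ofNat 4,.ofNat 0,.ofNat 0,.ofNat 4,.ofNat 8,.negSucc 3,.negSucc 7,.ofNat 0,.ofNat 0,.ofNat 0,.ofNat 4,.negSucc 3,.negSucc 3,.ofNat 4,.ofNat 4,.ofNat 0,.ofNat 4,.ofNat 0,.ofNat 0,.negSucc 3,.negSucc 7], [.negSucc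 3,.negSucc 3,.negSucc 3,.negSucc 11,.ofNat 4,.ofNat 4,.ofNat 4,.ofNat 4,.ofNat 0,.ofNat 0,.ofNat 0,.ofNat 0,.ofNat 8,.ofNat 8,.ofNat 0,.ofNat 0,.ofNat 0,.ofNat 0,.ofNat 8,.ofNat 8,.ofNat 0,.ofNat 0,.ofNat 0,.ofNat 0]], [.ofNat 4,.ofNat 0,.ofNat 2,.ofNat 0,.ofNat 2,.negSucc 1,.ofNat 0,.negSucc 1,.ofNat 2,.ofNat 0,.ofNat 0,.ofNat 0,.ofNat 0,.negSucc 1,.negSucc 1,.ofNat 2,.ofNat 2,.negSucc 1,.ofNat 0,.negSucc 1,.ofNat 0,.ofNat 0,.ofNat 2,.ofNat 0]⟩,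
  ⟨(0, 260), [[.ofNat 8,.ofNat 8,.ofNat 4,.ofNat 4,.ofNat 0,.negSucc 3,.negSucc 3,.negSucc 7,.ofNat 0,.ofNat 4,.ofNat 4,.ofNat 8,.ofNat 0,.ofNat 0,.negSucc 3,.negSucc 3,.negSucc 3,.negSucc 3,.ofNat 0,.ofNat 0,.ofNat 4,.ofNat 8,.ofNat 0,.negSucc 3], [.negSucc 3,.ofNat 0,.ofNat 8,.ofNat 12,.negSucc 3,.negSucc 3,.ofNat 0,.ofNat 0,.ofNat 0,.negSucc 3,.ofNat 4,.ofNat 8,.ofNat 0,.ofNat 0,.ofNat 4,.ofNat 4,.ofNat 4,.ofNat 4,.ofNat 0,.ofNat 0,.ofNat 4,.ofNat 8,.ofNat 0,.ofNat 4], [.negSucc 3,.negSucc 11,.ofNat 0,.ofNat 4,.ofNat 0,.ofNat 0,.ofNat 4,.ofNat 8,.negSucc 3,.negSucc 3,.ofNat 0,.negSucc 3,.ofNat 0,.ofNat 0,.ofNat 4,.ofNat 8,.ofNat 4,.ofNat 8,.ofNat 0,.ofNat 0,.ofNat 0,.negSucc 3,.ofNat 4,.ofNat 4], [.negSucc 3,.negSucc 3,.negSucc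 3,.negSucc 11,.ofNat 4,.ofNat 4,.ofNat 4,.ofNat 4,.ofNat 0,.ofNat 0,.negSucc 7,.negSucc 7,.ofNat 0,.ofNat 0,.ofNat 0,.ofNat 0,.ofNat 0,.ofNat 0,.ofNat 0,.ofNat 0,.negSucc 7,.negSucc 7,.ofNat 0,.ofNat 0]], [.ofNat 4,.ofNat 0,.ofNat 2,.ofNat 0,.ofNat 2,.negSucc 1,.ofNat 0,.negSucc 1,.negSucc 1,.ofNat 2,.ofNat 0,.ofNat 2,.ofNat 0,.ofNat 0,.negSucc 1,.ofNat 0,.negSucc 1,.ofNat 0,.ofNat 0,.ofNat 0,.ofNat 0,.ofNat 2,.ofNat 2,.negSucc 1]⟩,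
  ⟨(0, 261), [[.ofNat 8,.ofNat 8,.ofNat 4,.ofNat 4,.ofNat 0,.negSucc 3,.negSucc 3,.negSucc 7,.ofNat 0,.ofNat 4,.ofNat 4,.ofNat 8,.ofNat 0,.ofNat 0,.negSucc 3,.negSucc 3,.ofNat 4,.ofNat 4,.ofNat 0,.ofNat 0,.negSucc 3,.negSucc 7,.ofNat 0,.ofNat 4], [.negSucc 3,.ofNat 0,.ofNat 8,.ofNat 12,.negSucc 3,.negSucc 3,.ofNat 0,.ofNat 0,.ofNat 0,.negSucc 3,.ofNat 4,.ofNat 8,.ofNat 0,.ofNat 0,.ofNat 4,.ofNat 4,.negSucc 3,.negSucc 3,.ofNat 0,.ofNat 0,.negSucc 3,.negSucc 7,.ofNat 0,.negSucc 3], [.negSucc 3,.negSucc 11,.ofNat 0,.ofNat 4,.ofNat 0,.ofNat 0,.ofNat 4,.ofNat 8,.negSucc 3,.negSucc 3,.ofNat 0,.negSucc 3,.ofNat 0,.ofNat 0,.ofNat 4,.ofNat 8,.negSucc 3,.negSucc 7,.ofNat 0,.ofNat 0,.ofNat 0,.ofNat 4,.negSucc 3,.negSucc 3], [.negSucc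 3,.negSucc 3,.negSucc 3,.negSucc 11,.ofNat 4,.ofNat 4,.ofNat 4,.ofNat 4,.ofNat 0,.ofNat 0,.negSucc 7,.negSucc 7,.ofNat 0,.ofNat 0,.ofNat 0,.ofNat 0,.ofNat 0,.ofNat 0,.ofNat 0,.ofNat 0,.ofNat 8,.ofNat 8,.ofNat 0,.ofNat 0]], [.ofNat 4,.ofNat 0,.ofNat 2,.ofNat 0,.ofNat 2,.negSucc 1,.ofNat 0,.negSucc 1,.negSucc 1,.ofNat 2,.ofNat 0,.ofNat 2,.ofNat 0,.ofNat 0,.negSucc 1,.ofNat 0,.ofNat 2,.ofNat 0,.ofNat 0,.ofNat 0,.ofNat 0,.negSucc 1,.negSucc 1,.ofNat 2]⟩,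
  ⟨(0, 262), [[.ofNat 8,.ofNat 8,.ofNat 4,.ofNat 4,.ofNat 0,.negSucc 3,.negSucc 3,.negSucc 7,.ofNat 0,.negSucc 3,.negSucc 3,.negSucc 7,.ofNat 0,.ofNat 0,.ofNat 4,.ofNat 4,.negSucc 3,.negSucc 3,.ofNat 0,.ofNat 0,.ofNat 4,.ofNat 8,.ofNat 0,.negSucc 3], [.negSucc 3,.ofNat 0,.ofNat 8,.ofNat 12,.negSucc 3,.negSucc 3,.ofNat 0,.ofNat 0,.ofNat 0,.ofNat 4,.negSucc 3,.negSucc 7,.ofNat 0,.ofNat 0,.negSucc 3,.negSucc 3,.ofNat 4,.ofNat 4,.ofNat 0,.ofNat 0,.ofNat 4,.ofNat 8,.ofNat 0,.ofNat 4], [.negSucc 3,.negSucc 11,.ofNat 0,.ofNat 4,.ofNat 0,.ofNat 0,.ofNat 4,.ofNat 8,.ofNat 4,.ofNat 4,.ofNat 0,.ofNat 4,.ofNat 0,.ofNat 0,.negSucc 3,.negSucc 7,.ofNat 4,.ofNat 8,.ofNat 0,.ofNat 0,.ofNat 0,.negSucc 3,.ofNat 4,.ofNat 4], [.negSucc 3,.negSucc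 3,.negSucc 3,.negSucc 11,.ofNat 4,.ofNat 4,.ofNat 4,.ofNat 4,.ofNat 0,.ofNat 0,.ofNat 8,.ofNat 8,.ofNat 0,.ofNat 0,.ofNat 0,.ofNat 0,.ofNat 0,.ofNat 0,.ofNat 0,.ofNat 0,.negSucc 7,.negSucc 7,.ofNat 0,.ofNat 0]], [.ofNat 4,.ofNat 0,.ofNat 2,.ofNat 0,.ofNat 2,.negSucc 1,.ofNat 0,.negSucc 1,.ofNat 2,.negSucc 1,.ofNat 0,.negSucc 1,.ofNat 0,.ofNat 0,.ofNat 2,.ofNat 0,.negSucc 1,.ofNat 0,.ofNat 0,.ofNat 0,.ofNat 0,.ofNat 2,.ofNat 2,.negSucc 1]⟩,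
  ⟨(0, 263), [[.ofNat 8,.ofNat 8,.ofNat 4,.ofNat 4,.ofNat 0,.negSucc 3,.negSucc 3,.negSucc 7,.ofNat 0,.negSucc 3,.negSucc 3,.negSucc 7,.ofNat 0,.ofNat 0,.ofNat 4,.ofNat 4,.ofNat 4,.ofNat 4,.ofNat 0,.ofNat 0,.negSucc 3,.negSucc 7,.ofNat 0,.ofNat 4], [.negSucc 3,.ofNat 0,.ofNat 8,.ofNat 12,.negSucc 3,.negSucc 3,.ofNat 0,.ofNat 0,.ofNat 0,.ofNat 4,.negSucc 3,.negSucc 7,.ofNat 0,.ofNat 0,.negSucc 3,.negSucc 3,.negSucc 3,.negSucc 3,.ofNat 0,.ofNat 0,.negSucc 3,.negSucc 7,.ofNat 0,.negSucc 3], [.negSucc 3,.negSucc 11,.ofNat 0,.ofNat 4,.ofNat 0,.ofNat 0,.ofNat 4,.ofNat 8,.ofNat 4,.ofNat 4,.ofNat 0,.ofNat 4,.ofNat 0,.ofNat 0,.negSucc 3,.negSucc 7,.negSucc 3,.negSucc 7,.ofNat 0,.ofNat 0,.ofNat 0,.ofNat 4,.negSucc 3,.negSucc 3], [.negSucc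 3,.negSucc 3,.negSucc 3,.negSucc 11,.ofNat 4,.ofNat 4,.ofNat 4,.ofNat 4,.ofNat 0,.ofNat 0,.ofNat 8,.ofNat 8,.ofNat 0,.ofNat 0,.ofNat 0,.ofNat 0,.ofNat 0,.ofNat 0,.ofNat 0,.ofNat 0,.ofNat 8,.ofNat 8,.ofNat 0,.ofNat 0]], [.ofNat 4,.ofNat 0,.ofNat 2,.ofNat 0,.ofNat 2,.negSucc 1,.ofNat 0,.negSucc 1,.ofNat 2,.negSucc 1,.ofNat 0,.negSucc 1,.ofNat 0,.ofNat 0,.ofNat 2,.ofNat 0,.ofNat 2,.ofNat 0,.ofNat 0,.ofNat 0,.ofNat 0,.negSucc 1,.negSucc 1,.ofNat 2]⟩,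
  ⟨(0, 264), [[.ofNat 8,.ofNat 8,.ofNat 4,.ofNat 4,.ofNat 0,.negSucc 3,.negSucc 3,.negSucc 7,.negSucc 3,.negSucc 7,.ofNat 0,.ofNat 4,.negSucc 3,.negSucc 3,.ofNat 0,.ofNat 0,.ofNat 0,.ofNat 0,.negSucc 3,.negSucc 3,.ofNat 0,.negSucc 3,.negSucc 3,.negSucc 7], [.negSucc 3,.ofNat 0,.ofNat 8,.ofNat 12,.negSucc 3,.negSucc 3,.ofNat 0,.ofNat 0,.negSucc 3,.negSucc 7,.ofNat 0,.negSucc 3,.ofNat 4,.ofNat 4,.ofNat 0,.ofNat 0,.ofNat 0,.ofNat 0,.ofNat 4,.ofNat 4,.ofNat 0,.ofNat 4,.negSucc 3,.negSucc 7], [.negSucc 3,.negSucc 11,.ofNat 0,.ofNat 4,.ofNat 0,.ofNat 0,.ofNat 4,.ofNat 8,.ofNat 0,.ofNat 4,.negSucc 3,.negSucc 3,.ofNat 4,.ofNat 8,.ofNat 0,.ofNat 0,.ofNat 0,.ofNat 0,.ofNat 4,.ofNat 8,.ofNat 4,.ofNat 4,.ofNat 0,.ofNat 4], [.negSucc 3,.negSucc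 3,.negSucc 3,.negSucc 11,.ofNat 4,.ofNat 4,.ofNat 4,.ofNat 4,.ofNat 8,.ofNat 8,.ofNat 0,.ofNat 0,.ofNat 0,.ofNat 0,.ofNat 0,.ofNat 0,.ofNat 0,.ofNat 0,.ofNat 0,.ofNat 0,.ofNat 0,.ofNat 0,.ofNat 8,.ofNat 8]], [.ofNat 4,.ofNat 0,.ofNat 2,.ofNat 0,.ofNat 2,.negSucc 1,.ofNat 0,.negSucc 1,.ofNat 0,.negSucc 1,.negSucc 1,.ofNat 2,.negSucc 1,.ofNat 0,.ofNat 0,.ofNat 0,.ofNat 0,.ofNat 0,.negSucc 1,.ofNat 0,.ofNat 2,.negSucc 1,.ofNat 0,.negSucc 1]⟩,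
  ⟨(0, 265), [[.ofNat 8,.ofNat 8,.ofNat 4,.ofNat 4,.ofNat 0,.negSucc 3,.negSucc 3,.negSucc 7,.negSucc 3,.negSucc 7,.ofNat 0,.ofNat 4,.negSucc 3,.negSucc 3,.ofNat 0,.ofNat 0,.ofNat 0,.ofNat 0,.ofNat 4,.ofNat 4,.ofNat 0,.ofNat 4,.ofNat 4,.ofNat 8], [.negSucc 3,.ofNat 0,.ofNat 8,.ofNat 12,.negSucc 3,.negSucc 3,.ofNat 0,.ofNat 0,.negSucc 3,.negSucc 7,.ofNat 0,.negSucc 3,.ofNat 4,.ofNat 4,.ofNat 0,.ofNat 0,.ofNat 0,.ofNat 0,.negSucc 3,.negSucc 3,.ofNat 0,.negSucc 3,.ofNat 4,.ofNat 8], [.negSucc 3,.negSucc 11,.ofNat 0,.ofNat 4,.ofNat 0,.ofNat 0,.ofNat 4,.ofNat 8,.ofNat 0,.ofNat 4,.negSucc 3,.negSucc 3,.ofNat 4,.ofNat 8,.ofNat 0,.ofNat 0,.ofNat 0,.ofNat 0,.negSucc 3,.negSucc 7,.negSucc 3,.negSucc 3,.ofNat 0,.negSucc 3], [.negSucc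 3,.negSucc 3,.negSucc 3,.negSucc 11,.ofNat 4,.ofNat 4,.ofNat 4,.ofNat 4,.ofNat 8,.ofNat 8,.ofNat 0,.ofNat 0,.ofNat 0,.ofNat 0,.ofNat 0,.ofNat 0,.ofNat 0,.ofNat 0,.ofNat 0,.ofNat 0,.ofNat 0,.ofNat 0,.negSucc 7,.negSucc 7]], [.ofNat 4,.ofNat 0,.ofNat 2,.ofNat 0,.ofNat 2,.negSucc 1,.ofNat 0,.negSucc 1,.ofNat 0,.negSucc 1,.negSucc 1,.ofNat 2,.negSucc 1,.ofNat 0,.ofNat 0,.ofNat 0,.ofNat 0,.ofNat 0,.ofNat 2,.ofNat 0,.negSucc 1,.ofNat 2,.ofNat 0,.ofNat 2]⟩,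
  ⟨(0, 266), [[.ofNat 8,.ofNat 8,.ofNat 4,.ofNat 4,.ofNat 0,.negSucc 3,.negSucc 3,.negSucc 7,.ofNat 4,.ofNat 8,.ofNat 0,.negSucc 3,.ofNat 4,.ofNat 4,.ofNat 0,.ofNat 0,.ofNat 0,.ofNat 0,.negSucc 3,.negSucc 3,.ofNat 0,.negSucc 3,.negSucc 3,.negSucc 7], [.negSucc 3,.ofNat 0,.ofNat 8,.ofNat 12,.negSucc 3,.negSucc 3,.ofNat 0,.ofNat 0,.ofNat 4,.ofNat 8,.ofNat 0,.ofNat 4,.negSucc 3,.negSucc 3,.ofNat 0,.ofNat 0,.ofNat 0,.ofNat 0,.ofNat 4,.ofNat 4,.ofNat 0,.ofNat 4,.negSucc 3,.negSucc 7], [.negSucc 3,.negSucc 11,.ofNat 0,.ofNat 4,.ofNat 0,.ofNat 0,.ofNat 4,.ofNat 8,.ofNat 0,.negSucc 3,.ofNat 4,.ofNat 4,.negSucc 3,.negSucc 7,.ofNat 0,.ofNat 0,.ofNat 0,.ofNat 0,.ofNat 4,.ofNat 8,.ofNat 4,.ofNat 4,.ofNat 0,.ofNat 4], [.negSucc 3,.negSucc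 3,.negSucc 3,.negSucc 11,.ofNat 4,.ofNat 4,.ofNat 4,.ofNat 4,.negSucc 7,.negSucc 7,.ofNat 0,.ofNat 0,.ofNat 0,.ofNat 0,.ofNat 0,.ofNat 0,.ofNat 0,.ofNat 0,.ofNat 0,.ofNat 0,.ofNat 0,.ofNat 0,.ofNat 8,.ofNat 8]], [.ofNat 4,.ofNat 0,.ofNat 2,.ofNat 0,.ofNat 2,.negSucc 1,.ofNat 0,.negSucc 1,.ofNat 0,.ofNat 2,.ofNat 2,.negSucc 1,.ofNat 2,.ofNat 0,.ofNat 0,.ofNat 0,.ofNat 0,.ofNat 0,.negSucc 1,.ofNat 0,.ofNat 2,.negSucc 1,.ofNat 0,.negSucc 1]⟩,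
  ⟨(0, 267), [[.ofNat 8,.ofNat 8,.ofNat 4,.ofNat 4,.ofNat 0,.negSucc 3,.negSucc 3,.negSucc 7,.ofNat 4,.ofNat 8,.ofNat 0,.negSucc 3,.ofNat 4,.ofNat 4,.ofNat 0,.ofNat 0,.ofNat 0,.ofNat 0,.ofNat 4,.ofNat 4,.ofNat 0,.ofNat 4,.ofNat 4,.ofNat 8], [.negSucc 3,.ofNat 0,.ofNat 8,.ofNat 12,.negSucc 3,.negSucc 3,.ofNat 0,.ofNat 0,.ofNat 4,.ofNat 8,.ofNat 0,.ofNat 4,.negSucc 3,.negSucc 3,.ofNat 0,.ofNat 0,.ofNat 0,.ofNat 0,.negSucc 3,.negSucc 3,.ofNat 0,.negSucc 3,.ofNat 4,.ofNat 8], [.negSucc 3,.negSucc 11,.ofNat 0,.ofNat 4,.ofNat 0,.ofNat 0,.ofNat 4,.ofNat 8,.ofNat 0,.negSucc 3,.ofNat 4,.ofNat 4,.negSucc 3,.negSucc 7,.ofNat 0,.ofNat 0,.ofNat 0,.ofNat 0,.negSucc 3,.negSucc 7,.negSucc 3,.negSucc 3,.ofNat 0,.negSucc 3], [.negSucc 3,.negSucc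 3,.negSucc 3,.negSucc 11,.ofNat 4,.ofNat 4,.ofNat 4,.ofNat 4,.negSucc 7,.negSucc 7,.ofNat 0,.ofNat 0,.ofNat 0,.ofNat 0,.ofNat 0,.ofNat 0,.ofNat 0,.ofNat 0,.ofNat 0,.ofNat 0,.ofNat 0,.ofNat 0,.negSucc 7,.negSucc 7]], [.ofNat 4,.ofNat 0,.ofNat 2,.ofNat 0,.ofNat 2,.negSucc 1,.ofNat 0,.negSucc 1,.ofNat 0,.ofNat 2,.ofNat 2,.negSucc 1,.ofNat 2,.ofNat 0,.ofNat 0,.ofNat 0,.ofNat 0,.ofNat 0,.ofNat 2,.ofNat 0,.negSucc 1,.ofNat 2,.ofNat 0,.ofNat 2]⟩,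
  ⟨(0, 268), [[.ofNat 8,.ofNat 8,.ofNat 4,.ofNat 4,.ofNat 0,.negSucc 3,.negSucc 3,.negSucc 7,.ofNat 0,.ofNat 0,.negSucc 3,.negSucc 3,.ofNat 0,.negSucc 3,.negSucc 3,.negSucc 7,.negSucc 3,.negSucc 7,.ofNat 0,.ofNat 4,.negSucc 3,.negSucc 3,.ofNat 0,.ofNat 0], [.negSucc 3,.ofNat 0,.ofNat 8,.ofNat 12,.negSucc 3,.negSucc 3,.ofNat 0,.ofNat 0,.ofNat 0,.ofNat 0,.ofNat 4,.ofNat 4,.ofNat 0,.ofNat 4,.negSucc 3,.negSucc 7,.negSucc 3,.negSucc 7,.ofNat 0,.negSucc 3,.ofNat 4,.ofNat 4,.ofNat 0,.ofNat 0], [.negSucc 3,.negSucc 11,.ofNat 0,.ofNat 4,.ofNat 0,.ofNat 0,.ofNat 4,.ofNat 8,.ofNat 0,.ofNat 0,.ofNat 4,.ofNat 8,.ofNat 4,.ofNat 4,.ofNat 0,.ofNat 4,.ofNat 0,.ofNat 4,.negSucc 3,.negSucc 3,.ofNat 4,.ofNat 8,.ofNat 0,.ofNat 0], [.negSucc 3,.negSucc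 3,.negSucc 3,.negSucc 11,.ofNat 4,.ofNat 4,.ofNat 4,.ofNat 4,.ofNat 0,.ofNat 0,.ofNat 0,.ofNat 0,.ofNat 0,.ofNat 0,.ofNat 8,.ofNat 8,.ofNat 8,.ofNat 8,.ofNat 0,.ofNat 0,.ofNat 0,.ofNat 0,.ofNat 0,.ofNat 0]], [.ofNat 4,.ofNat 0,.ofNat 2,.ofNat 0,.ofNat 2,.negSucc 1,.ofNat 0,.negSucc 1,.ofNat 0,.ofNat 0,.negSucc 1,.ofNat 0,.ofNat 2,.negSucc 1,.ofNat 0,.negSucc 1,.ofNat 0,.negSucc 1,.negSucc 1,.ofNat 2,.negSucc 1,.ofNat 0,.ofNat 0,.ofNat 0]⟩,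
  ⟨(0, 269), [[.ofNat 8,.ofNat 8,.ofNat 4,.ofNat 4,.ofNat 0,.negSucc 3,.negSucc 3,.negSucc 7,.ofNat 0,.ofNat 0,.negSucc 3,.negSucc 3,.ofNat 0,.negSucc 3,.negSucc 3,.negSucc 7,.ofNat 4,.ofNat 8,.ofNat 0,.negSucc 3,.ofNat 4,.ofNat 4,.ofNat 0,.ofNat 0], [.negSucc 3,.ofNat 0,.ofNat 8,.ofNat 12,.negSucc 3,.negSucc 3,.ofNat 0,.ofNat 0,.ofNat 0,.ofNat 0,.ofNat 4,.ofNat 4,.ofNat 0,.ofNat 4,.negSucc 3,.negSucc 7,.ofNat 4,.ofNat 8,.ofNat 0,.ofNat 4,.negSucc 3,.negSucc 3,.ofNat 0,.ofNat 0], [.negSucc 3,.negSucc 11,.ofNat 0,.ofNat 4,.ofNat 0,.ofNat 0,.ofNat 4,.ofNat 8,.ofNat 0,.ofNat 0,.ofNat 4,.ofNat 8,.ofNat 4,.ofNat 4,.ofNat 0,.ofNat 4,.ofNat 0,.negSucc 3,.ofNat 4,.ofNat 4,.negSucc 3,.negSucc 7,.ofNat 0,.ofNat 0], [.negSucc 3,.negSucc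 3,.negSucc 3,.negSucc 11,.ofNat 4,.ofNat 4,.ofNat 4,.ofNat 4,.ofNat 0,.ofNat 0,.ofNat 0,.ofNat 0,.ofNat 0,.ofNat 0,.ofNat 8,.ofNat 8,.negSucc 7,.negSucc 7,.ofNat 0,.ofNat 0,.ofNat 0,.ofNat 0,.ofNat 0,.ofNat 0]], [.ofNat 4,.ofNat 0,.ofNat 2,.ofNat 0,.ofNat 2,.negSucc 1,.ofNat 0,.negSucc 1,.ofNat 0,.ofNat 0,.negSucc 1,.ofNat 0,.ofNat 2,.negSucc 1,.ofNat 0,.negSucc 1,.ofNat 0,.ofNat 2,.ofNat 2,.negSucc 1,.ofNat 2,.ofNat 0,.ofNat 0,.ofNat 0]⟩,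
  ⟨(0, 270), [[.ofNat 8,.ofNat 8,.ofNat 4,.ofNat 4,.ofNat 0,.negSucc 3,.negSucc 3,.negSucc 7,.ofNat 0,.ofNat 0,.ofNat 4,.ofNat 4,.ofNat 0,.ofNat 4,.ofNat 4,.ofNat 8,.negSucc 3,.negSucc 7,.ofNat 0,.ofNat 4,.negSucc 3,.negSucc 3,.ofNat 0,.ofNat 0], [.negSucc 3,.ofNat 0,.ofNat 8,.ofNat 12,.negSucc 3,.negSucc 3,.ofNat 0,.ofNat 0,.ofNat 0,.ofNat 0,.negSucc 3,.negSucc 3,.ofNat 0,.negSucc 3,.ofNat 4,.ofNat 8,.negSucc 3,.negSucc 7,.ofNat 0,.negSucc 3,.ofNat 4,.ofNat 4,.ofNat 0,.ofNat 0], [.negSucc 3,.negSucc 11,.ofNat 0,.ofNat 4,.ofNat 0,.ofNat 0,.ofNat 4,.ofNat 8,.ofNat 0,.ofNat 0,.negSucc 3,.negSucc 7,.negSucc 3,.negSucc 3,.ofNat 0,.negSucc 3,.ofNat 0,.ofNat 4,.negSucc 3,.negSucc 3,.ofNat 4,.ofNat 8,.ofNat 0,.ofNat 0], [.negSucc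 3,.negSucc 3,.negSucc 3,.negSucc 11,.ofNat 4,.ofNat 4,.ofNat 4,.ofNat 4,.ofNat 0,.ofNat 0,.ofNat 0,.ofNat 0,.ofNat 0,.ofNat 0,.negSucc 7,.negSucc 7,.ofNat 8,.ofNat 8,.ofNat 0,.ofNat 0,.ofNat 0,.ofNat 0,.ofNat 0,.ofNat 0]], [.ofNat 4,.ofNat 0,.ofNat 2,.ofNat 0,.ofNat 2,.negSucc 1,.ofNat 0,.negSucc 1,.ofNat 0,.ofNat 0,.ofNat 2,.ofNat 0,.negSucc 1,.ofNat 2,.ofNat 0,.ofNat 2,.ofNat 0,.negSucc 1,.negSucc 1,.ofNat 2,.negSucc 1,.ofNat 0,.ofNat 0,.ofNat 0]⟩,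
  ⟨(0, 271), [[.ofNat 8,.ofNat 8,.ofNat 4,.ofNat 4,.ofNat 0,.negSucc 3,.negSucc 3,.negSucc 7,.ofNat 0,.ofNat 0,.ofNat 4,.ofNat 4,.ofNat 0,.ofNat 4,.ofNat 4,.ofNat 8,.ofNat 4,.ofNat 8,.ofNat 0,.negSucc 3,.ofNat 4,.ofNat 4,.ofNat 0,.ofNat 0], [.negSucc 3,.ofNat 0,.ofNat 8,.ofNat 12,.negSucc 3,.negSucc 3,.ofNat 0,.ofNat 0,.ofNat 0,.ofNat 0,.negSucc 3,.negSucc 3,.ofNat 0,.negSucc 3,.ofNat 4,.ofNat 8,.ofNat 4,.ofNat 8,.ofNat 0,.ofNat 4,.negSucc 3,.negSucc 3,.ofNat 0,.ofNat 0], [.negSucc 3,.negSucc 11,.ofNat 0,.ofNat 4,.ofNat 0,.ofNat 0,.ofNat 4,.ofNat 8,.ofNat 0,.ofNat 0,.negSucc 3,.negSucc 7,.negSucc 3,.negSucc 3,.ofNat 0,.negSucc 3,.ofNat 0,.negSucc 3,.ofNat 4,.ofNat 4,.negSucc 3,.negSucc 7,.ofNat 0,.ofNat 0], [.negSucc 3,.negSucc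 3,.negSucc 3,.negSucc 11,.ofNat 4,.ofNat 4,.ofNat 4,.ofNat 4,.ofNat 0,.ofNat 0,.ofNat 0,.ofNat 0,.ofNat 0,.ofNat 0,.negSucc 7,.negSucc 7,.negSucc 7,.negSucc 7,.ofNat 0,.ofNat 0,.ofNat 0,.ofNat 0,.ofNat 0,.ofNat 0]], [.ofNat 4,.ofNat 0,.ofNat 2,.ofNat 0,.ofNat 2,.negSucc 1,.ofNat 0,.negSucc 1,.ofNat 0,.ofNat 0,.ofNat 2,.ofNat 0,.negSucc 1,.ofNat 2,.ofNat 0,.ofNat 2,.ofNat 0,.ofNat 2,.ofNat 2,.negSucc 1,.ofNat 2,.ofNat 0,.ofNat 0,.ofNat 0]⟩,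
  ⟨(18, 272), [[.ofNat 8,.ofNat 8,.ofNat 0,.negSucc 3,.negSucc 3,.negSucc 7,.ofNat 4,.ofNat 4,.negSucc 3,.negSucc 7,.negSucc 3,.negSucc 3,.ofNat 0,.ofNat 0,.ofNat 0,.ofNat 4,.ofNat 0,.ofNat 0,.ofNat 0,.ofNat 4,.ofNat 4,.ofNat 8,.ofNat 4,.ofNat 4], [.negSucc 3,.ofNat 0,.ofNat 0,.ofNat 0,.negSucc 7,.negSucc 11,.negSucc 3,.negSucc 3,.ofNat 0,.ofNat 0,.negSucc 3,.negSucc 7,.ofNat 4,.ofNat 4,.ofNat 0,.negSucc 3,.ofNat 4,.ofNat 4,.ofNat 0,.negSucc 3,.ofNat 0,.ofNat 0,.ofNat 4,.ofNat 8], [.negSucc 3,.negSucc 11,.ofNat 0,.ofNat 4,.ofNat 0,.ofNat 0,.negSucc 3,.negSucc 7,.ofNat 4,.ofNat 8,.ofNat 0,.ofNat 0,.ofNat 0,.ofNat 4,.negSucc 3,.negSucc 3,.ofNat 0,.ofNat 4,.negSucc 3,.negSucc 3,.negSucc 3,.negSucc 7,.ofNat 0,.ofNat 0], [.negSucc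 3,.negSucc 3,.ofNat 4,.ofNat 0,.ofNat 8,.ofNat 12,.ofNat 0,.ofNat 0,.ofNat 4,.ofNat 4,.ofNat 4,.ofNat 8,.ofNat 0,.negSucc 3,.ofNat 0,.ofNat 0,.ofNat 0,.negSucc 3,.ofNat 0,.ofNat 0,.negSucc 3,.negSucc 3,.negSucc 3,.negSucc 7]], [.ofNat 4,.ofNat 0,.ofNat 2,.negSucc 1,.ofNat 0,.negSucc 1,.ofNat 2,.ofNat 0,.ofNat 0,.negSucc 1,.negSucc 1,.ofNat 0,.ofNat 0,.ofNat 0,.negSucc 1,.ofNat 2,.ofNat 0,.ofNat 0,.negSucc 1,.ofNat 2,.ofNat 0,.ofNat 2,.ofNat 2,.ofNat 0]⟩,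
  ⟨(18, 273), [[.ofNat 8,.ofNat 8,.ofNat 0,.negSucc 3,.negSucc 3,.negSucc 7,.ofNat 4,.ofNat 4,.negSucc 3,.negSucc 7,.negSucc 3,.negSucc 3,.ofNat 0,.ofNat 0,.ofNat 0,.ofNat 4,.ofNat 0,.ofNat 0,.ofNat 0,.negSucc 3,.negSucc 3,.negSucc 7,.negSucc 3,.negSucc 3], [.negSucc 3,.ofNat 0,.ofNat 0,.ofNat 0,.negSucc 7,.negSucc 11,.negSucc 3,.negSucc 3,.ofNat 0,.ofNat 0,.negSucc 3,.negSucc 7,.ofNat 4,.ofNat 4,.ofNat 0,.negSucc 3,.negSucc 3,.negSucc 3,.ofNat 0,.ofNat 4,.ofNat 0,.ofNat 0,.negSucc 3,.negSucc 7], [.negSucc 3,.negSucc 11,.ofNat 0,.ofNat 4,.ofNat 0,.ofNat 0,.negSucc 3,.negSucc 7,.ofNat 4,.ofNat 8,.ofNat 0,.ofNat 0,.ofNat 0,.ofNat 4,.negSucc 3,.negSucc 3,.ofNat 0,.negSucc 3,.ofNat 4,.ofNat 4,.ofNat 4,.ofNat 8,.ofNat 0,.ofNat 0],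 [.negSucc 3,.negSucc 3,.ofNat 4,.ofNat 0,.ofNat 8,.ofNat 12,.ofNat 0,.ofNat 0,.ofNat 4,.ofNat 4,.ofNat 4,.ofNat 8,.ofNat 0,.negSucc 3,.ofNat 0,.ofNat 0,.ofNat 0,.ofNat 4,.ofNat 0,.ofNat 0,.ofNat 4,.ofNat 4,.ofNat 4,.ofNat 8]], [.ofNat 4,.ofNat 0,.ofNat 2,.negSucc 1,.ofNat 0,.negSucc 1,.ofNat 2,.ofNat 0,.ofNat 0,.negSucc 1,.negSucc 1,.ofNat 0,.ofNat 0,.ofNat 0,.negSucc 1,.ofNat 2,.ofNat 0,.ofNat 0,.ofNat 2,.negSucc 1,.ofNat 0,.negSucc 1,.negSucc 1,.ofNat 0]⟩,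
  ⟨(18, 274), [[.ofNat 8,.ofNat 8,.ofNat 0,.negSucc 3,.negSucc 3,.negSucc 7,.ofNat 4,.ofNat 4,.ofNat 4,.ofNat 8,.ofNat 4,.ofNat 4,.ofNat 0,.ofNat 0,.ofNat 0,.negSucc 3,.ofNat 0,.ofNat 0,.ofNat 0,.ofNat 4,.ofNat 4,.ofNat 8,.ofNat 4,.ofNat 4], [.negSucc 3,.ofNat 0,.ofNat 0,.ofNat 0,.negSucc 7,.negSucc 11,.negSucc 3,.negSucc 3,.ofNat 0,.ofNat 0,.ofNat 4,.ofNat 8,.negSucc 3,.negSucc 3,.ofNat 0,.ofNat 4,.ofNat 4,.ofNat 4,.ofNat 0,.negSucc 3,.ofNat 0,.ofNat 0,.ofNat 4,.ofNat 8], [.negSucc 3,.negSucc 11,.ofNat 0,.ofNat 4,.ofNat 0,.ofNat 0,.negSucc 3,.negSucc 7,.negSucc 3,.negSucc 7,.ofNat 0,.ofNat 0,.ofNat 0,.negSucc 3,.ofNat 4,.ofNat 4,.ofNat 0,.ofNat 4,.negSucc 3,.negSucc 3,.negSucc 3,.negSucc 7,.ofNat 0,.ofNat 0], [.negSucc 3,.negSucc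 3,.ofNat 4,.ofNat 0,.ofNat 8,.ofNat 12,.ofNat 0,.ofNat 0,.negSucc 3,.negSucc 3,.negSucc 3,.negSucc 7,.ofNat 0,.ofNat 4,.ofNat 0,.ofNat 0,.ofNat 0,.negSucc 3,.ofNat 0,.ofNat 0,.negSucc 3,.negSucc 3,.negSucc 3,.negSucc 7]], [.ofNat 4,.ofNat 0,.ofNat 2,.negSucc 1,.ofNat 0,.negSucc 1,.ofNat 2,.ofNat 0,.ofNat 0,.ofNat 2,.ofNat 2,.ofNat 0,.ofNat 0,.ofNat 0,.ofNat 2,.negSucc 1,.ofNat 0,.ofNat 0,.negSucc 1,.ofNat 2,.ofNat 0,.ofNat 2,.ofNat 2,.ofNat 0]⟩,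
  ⟨(18, 275), [[.ofNat 8,.ofNat 8,.ofNat 0,.negSucc 3,.negSucc 3,.negSucc 7,.ofNat 4,.ofNat 4,.ofNat 4,.ofNat 8,.ofNat 4,.ofNat 4,.ofNat 0,.ofNat 0,.ofNat 0,.negSucc 3,.ofNat 0,.ofNat 0,.ofNat 0,.negSucc 3,.negSucc 3,.negSucc 7,.negSucc 3,.negSucc 3], [.negSucc 3,.ofNat 0,.ofNat 0,.ofNat 0,.negSucc 7,.negSucc 11,.negSucc 3,.negSucc 3,.ofNat 0,.ofNat 0,.ofNat 4,.ofNat 8,.negSucc 3,.negSucc 3,.ofNat 0,.ofNat 4,.negSucc 3,.negSucc 3,.ofNat 0,.ofNat 4,.ofNat 0,.ofNat 0,.negSucc 3,.negSucc 7], [.negSucc 3,.negSucc 11,.ofNat 0,.ofNat 4,.ofNat 0,.ofNat 0,.negSucc 3,.negSucc 7,.negSucc 3,.negSucc 7,.ofNat 0,.ofNat 0,.ofNat 0,.negSucc 3,.ofNat 4,.ofNat 4,.ofNat 0,.negSucc 3,.ofNat 4,.ofNat 4,.ofNat 4,.ofNat 8,.ofNat 0,.ofNat 0], [.negSucc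 3,.negSucc 3,.ofNat 4,.ofNat 0,.ofNat 8,.ofNat 12,.ofNat 0,.ofNat 0,.negSucc 3,.negSucc 3,.negSucc 3,.negSucc 7,.ofNat 0,.ofNat 4,.ofNat 0,.ofNat 0,.ofNat 0,.ofNat 4,.ofNat 0,.ofNat 0,.ofNat 4,.ofNat 4,.ofNat 4,.ofNat 8]], [.ofNat 4,.ofNat 0,.ofNat 2,.negSucc 1,.ofNat 0,.negSucc 1,.ofNat 2,.ofNat 0,.ofNat 0,.ofNat 2,.ofNat 2,.ofNat 0,.ofNat 0,.ofNat 0,.ofNat 2,.negSucc 1,.ofNat 0,.ofNat 0,.ofNat 2,.negSucc 1,.ofNat 0,.negSucc 1,.negSucc 1,.ofNat 0]⟩,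
  ⟨(18, 276), [[.ofNat 8,.ofNat 8,.ofNat 0,.negSucc 3,.negSucc 3,.negSucc 7,.ofNat 4,.ofNat 4,.ofNat 0,.ofNat 4,.ofNat 0,.ofNat 0,.negSucc 3,.negSucc 3,.ofNat 4,.ofNat 8,.ofNat 4,.ofNat 4,.negSucc 3,.negSucc 7,.ofNat 0,.ofNat 4,.ofNat 0,.ofNat 0], [.negSucc 3,.ofNat 0,.ofNat 0,.ofNat 0,.negSucc 7,.negSucc 11,.negSucc 3,.negSucc 3,.ofNat 0,.negSucc 3,.negSucc 3,.negSucc 3,.negSucc 3,.negSucc 7,.ofNat 0,.ofNat 0,.ofNat 4,.ofNat 8,.ofNat 0,.ofNat 0,.ofNat 0,.negSucc 3,.negSucc 3,.negSucc 3], [.negSucc 3,.negSucc 11,.ofNat 0,.ofNat 4,.ofNat 0,.ofNat 0,.negSucc 3,.negSucc 7,.negSucc 3,.negSucc 3,.ofNat 0,.negSucc 3,.ofNat 0,.ofNat 0,.negSucc 3,.negSucc 7,.ofNat 0,.ofNat 0,.ofNat 4,.ofNat 8,.negSucc 3,.negSucc 3,.ofNat 0,.negSucc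 3], [.negSucc 3,.negSucc 3,.ofNat 4,.ofNat 0,.ofNat 8,.ofNat 12,.ofNat 0,.ofNat 0,.ofNat 0,.ofNat 0,.ofNat 0,.ofNat 4,.ofNat 4,.ofNat 8,.negSucc 3,.negSucc 3,.negSucc 3,.negSucc 7,.ofNat 4,.ofNat 4,.ofNat 0,.ofNat 0,.ofNat 0,.ofNat 4]], [.ofNat 4,.ofNat 0,.ofNat 2,.negSucc 1,.ofNat 0,.negSucc 1,.ofNat 2,.ofNat 0,.negSucc 1,.ofNat 2,.ofNat 0,.ofNat 0,.negSucc 1,.ofNat 0,.ofNat 0,.ofNat 2,.ofNat 2,.ofNat 0,.ofNat 0,.negSucc 1,.negSucc 1,.ofNat 2,.ofNat 0,.ofNat 0]⟩,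
  ⟨(18, 277), [[.ofNat 8,.ofNat 8,.ofNat 0,.negSucc 3,.negSucc 3,.negSucc 7,.ofNat 4,.ofNat 4,.ofNat 0,.ofNat 4,.ofNat 0,.ofNat 0,.negSucc 3,.negSucc 3,.ofNat 4,.ofNat 8,.negSucc 3,.negSucc 3,.ofNat 4,.ofNat 8,.ofNat 0,.negSucc 3,.ofNat 0,.ofNat 0], [.negSucc 3,.ofNat 0,.ofNat 0,.ofNat 0,.negSucc 7,.negSucc 11,.negSucc 3,.negSucc 3,.ofNat 0,.negSucc 3,.negSucc 3,.negSucc 3,.negSucc 3,.negSucc 7,.ofNat 0,.ofNat 0,.negSucc 3,.negSucc 7,.ofNat 0,.ofNat 0,.ofNat 0,.ofNat 4,.ofNat 4,.ofNat 4], [.negSucc 3,.negSucc 11,.ofNat 0,.ofNat 4,.ofNat 0,.ofNat 0,.negSucc 3,.negSucc 7,.negSucc 3,.negSucc 3,.ofNat 0,.negSucc 3,.ofNat 0,.ofNat 0,.negSucc 3,.negSucc 7,.ofNat 0,.ofNat 0,.negSucc 3,.negSucc 7,.ofNat 4,.ofNat 4,.ofNat 0,.ofNat 4],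 [.negSucc 3,.negSucc 3,.ofNat 4,.ofNat 0,.ofNat 8,.ofNat 12,.ofNat 0,.ofNat 0,.ofNat 0,.ofNat 0,.ofNat 0,.ofNat 4,.ofNat 4,.ofNat 8,.negSucc 3,.negSucc 3,.ofNat 4,.ofNat 8,.negSucc 3,.negSucc 3,.ofNat 0,.ofNat 0,.ofNat 0,.negSucc 3]], [.ofNat 4,.ofNat 0,.ofNat 2,.negSucc 1,.ofNat 0,.negSucc 1,.ofNat 2,.ofNat 0,.negSucc 1,.ofNat 2,.ofNat 0,.ofNat 0,.negSucc 1,.ofNat 0,.ofNat 0,.ofNat 2,.negSucc 1,.ofNat 0,.ofNat 0,.ofNat 2,.ofNat 2,.negSucc 1,.ofNat 0,.ofNat 0]⟩,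
  ⟨(18, 278), [[.ofNat 8,.ofNat 8,.ofNat 0,.negSucc 3,.negSucc 3,.negSucc 7,.ofNat 4,.ofNat 4,.ofNat 0,.negSucc 3,.ofNat 0,.ofNat 0,.ofNat 4,.ofNat 4,.negSucc 3,.negSucc 7,.ofNat 4,.ofNat 4,.negSucc 3,.negSucc 7,.ofNat 0,.ofNat 4,.ofNat 0,.ofNat 0], [.negSucc 3,.ofNat 0,.ofNat 0,.ofNat 0,.negSucc 7,.negSucc 11,.negSucc 3,.negSucc 3,.ofNat 0,.ofNat 4,.ofNat 4,.ofNat 4,.ofNat 4,.ofNat 8,.ofNat 0,.ofNat 0,.ofNat 4,.ofNat 8,.ofNat 0,.ofNat 0,.ofNat 0,.negSucc 3,.negSucc 3,.negSucc 3], [.negSucc 3,.negSucc 11,.ofNat 0,.ofNat 4,.ofNat 0,.ofNat 0,.negSucc 3,.negSucc 7,.ofNat 4,.ofNat 4,.ofNat 0,.ofNat 4,.ofNat 0,.ofNat 0,.ofNat 4,.ofNat 8,.ofNat 0,.ofNat 0,.ofNat 4,.ofNat 8,.negSucc 3,.negSucc 3,.ofNat 0,.negSucc 3], [.negSucc 3,.negSucc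 3,.ofNat 4,.ofNat 0,.ofNat 8,.ofNat 12,.ofNat 0,.ofNat 0,.ofNat 0,.ofNat 0,.ofNat 0,.negSucc 3,.negSucc 3,.negSucc 7,.ofNat 4,.ofNat 4,.negSucc 3,.negSucc 7,.ofNat 4,.ofNat 4,.ofNat 0,.ofNat 0,.ofNat 0,.ofNat 4]], [.ofNat 4,.ofNat 0,.ofNat 2,.negSucc 1,.ofNat 0,.negSucc 1,.ofNat 2,.ofNat 0,.ofNat 2,.negSucc 1,.ofNat 0,.ofNat 0,.ofNat 2,.ofNat 0,.ofNat 0,.negSucc 1,.ofNat 2,.ofNat 0,.ofNat 0,.negSucc 1,.negSucc 1,.ofNat 2,.ofNat 0,.ofNat 0]⟩,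
  ⟨(18, 279), [[.ofNat 8,.ofNat 8,.ofNat 0,.negSucc 3,.negSucc 3,.negSucc 7,.ofNat 4,.ofNat 4,.ofNat 0,.negSucc 3,.ofNat 0,.ofNat 0,.ofNat 4,.ofNat 4,.negSucc 3,.negSucc 7,.negSucc 3,.negSucc 3,.ofNat 4,.ofNat 8,.ofNat 0,.negSucc 3,.ofNat 0,.ofNat 0], [.negSucc 3,.ofNat 0,.ofNat 0,.ofNat 0,.negSucc 7,.negSucc 11,.negSucc 3,.negSucc 3,.ofNat 0,.ofNat 4,.ofNat 4,.ofNat 4,.ofNat 4,.ofNat 8,.ofNat 0,.ofNat 0,.negSucc 3,.negSucc 7,.ofNat 0,.ofNat 0,.ofNat 0,.ofNat 4,.ofNat 4,.ofNat 4], [.negSucc 3,.negSucc 11,.ofNat 0,.ofNat 4,.ofNat 0,.ofNat 0,.negSucc 3,.negSucc 7,.ofNat 4,.ofNat 4,.ofNat 0,.ofNat 4,.ofNat 0,.ofNat 0,.ofNat 4,.ofNat 8,.ofNat 0,.ofNat 0,.negSucc 3,.negSucc 7,.ofNat 4,.ofNat 4,.ofNat 0,.ofNat 4], [.negSucc 3,.negSucc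 3,.ofNat 4,.ofNat 0,.ofNat 8,.ofNat 12,.ofNat 0,.ofNat 0,.ofNat 0,.ofNat 0,.ofNat 0,.negSucc 3,.negSucc 3,.negSucc 7,.ofNat 4,.ofNat 4,.ofNat 4,.ofNat 8,.negSucc 3,.negSucc 3,.ofNat 0,.ofNat 0,.ofNat 0,.negSucc 3]], [.ofNat 4,.ofNat 0,.ofNat 2,.negSucc 1,.ofNat 0,.negSucc 1,.ofNat 2,.ofNat 0,.ofNat 2,.negSucc 1,.ofNat 0,.ofNat 0,.ofNat 2,.ofNat 0,.ofNat 0,.negSucc 1,.negSucc 1,.ofNat 0,.ofNat 0,.ofNat 2,.ofNat 2,.negSucc 1,.ofNat 0,.ofNat 0]⟩,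
  ⟨(18, 280), [[.ofNat 8,.ofNat 8,.ofNat 0,.negSucc 3,.negSucc 3,.negSucc 7,.ofNat 4,.ofNat 4,.ofNat 0,.ofNat 0,.ofNat 0,.ofNat 4,.ofNat 4,.ofNat 8,.ofNat 4,.ofNat 4,.negSucc 3,.negSucc 7,.negSucc 3,.negSucc 3,.ofNat 0,.ofNat 0,.ofNat 0,.ofNat 4], [.negSucc 3,.ofNat 0,.ofNat 0,.ofNat 0,.negSucc 7,.negSucc 11,.negSucc 3,.negSucc 3,.ofNat 4,.ofNat 4,.ofNat 0,.negSucc 3,.ofNat 0,.ofNat 0,.ofNat 4,.ofNat 8,.ofNat 0,.ofNat 0,.negSucc 3,.negSucc 7,.ofNat 4,.ofNat 4,.ofNat 0,.negSucc 3], [.negSucc 3,.negSucc 11,.ofNat 0,.ofNat 4,.ofNat 0,.ofNat 0,.negSucc 3,.negSucc 7,.ofNat 0,.ofNat 4,.negSucc 3,.negSucc 3,.negSucc 3,.negSucc 7,.ofNat 0,.ofNat 0,.ofNat 4,.ofNat 8,.ofNat 0,.ofNat 0,.ofNat 0,.ofNat 4,.negSucc 3,.negSucc 3], [.negSucc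 3,.negSucc 3,.ofNat 4,.ofNat 0,.ofNat 8,.ofNat 12,.ofNat 0,.ofNat 0,.ofNat 0,.negSucc 3,.ofNat 0,.ofNat 0,.negSucc 3,.negSucc 3,.negSucc 3,.negSucc 7,.ofNat 4,.ofNat 4,.ofNat 4,.ofNat 8,.ofNat 0,.negSucc 3,.ofNat 0,.ofNat 0]], [.ofNat 4,.ofNat 0,.ofNat 2,.negSucc 1,.ofNat 0,.negSucc 1,.ofNat 2,.ofNat 0,.ofNat 0,.ofNat 0,.negSucc 1,.ofNat 2,.ofNat 0,.ofNat 2,.ofNat 2,.ofNat 0,.ofNat 0,.negSucc 1,.negSucc 1,.ofNat 0,.ofNat 0,.ofNat 0,.negSucc 1,.ofNat 2]⟩,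
  ⟨(18, 281), [[.ofNat 8,.ofNat 8,.ofNat 0,.negSucc 3,.negSucc 3,.negSucc 7,.ofNat 4,.ofNat 4,.ofNat 0,.ofNat 0,.ofNat 0,.ofNat 4,.ofNat 4,.ofNat 8,.ofNat 4,.ofNat 4,.ofNat 4,.ofNat 8,.ofNat 4,.ofNat 4,.ofNat 0,.ofNat 0,.ofNat 0,.negSucc 3], [.negSucc 3,.ofNat 0,.ofNat 0,.ofNat 0,.negSucc 7,.negSucc 11,.negSucc 3,.negSucc 3,.ofNat 4,.ofNat 4,.ofNat 0,.negSucc 3,.ofNat 0,.ofNat 0,.ofNat 4,.ofNat 8,.ofNat 0,.ofNat 0,.ofNat 4,.ofNat 8,.negSucc 3,.negSucc 3,.ofNat 0,.ofNat 4], [.negSucc 3,.negSucc 11,.ofNat 0,.ofNat 4,.ofNat 0,.ofNat 0,.negSucc 3,.negSucc 7,.ofNat 0,.ofNat 4,.negSucc 3,.negSucc 3,.negSucc 3,.negSucc 7,.ofNat 0,.ofNat 0,.negSucc 3,.negSucc 7,.ofNat 0,.ofNat 0,.ofNat 0,.negSucc 3,.ofNat 4,.ofNat 4], [.negSucc 3,.negSucc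 3,.ofNat 4,.ofNat 0,.ofNat 8,.ofNat 12,.ofNat 0,.ofNat 0,.ofNat 0,.negSucc 3,.ofNat 0,.ofNat 0,.negSucc 3,.negSucc 3,.negSucc 3,.negSucc 7,.negSucc 3,.negSucc 3,.negSucc 3,.negSucc 7,.ofNat 0,.ofNat 4,.ofNat 0,.ofNat 0]], [.ofNat 4,.ofNat 0,.ofNat 2,.negSucc 1,.ofNat 0,.negSucc 1,.ofNat 2,.ofNat 0,.ofNat 0,.ofNat 0,.negSucc 1,.ofNat 2,.ofNat 0,.ofNat 2,.ofNat 2,.ofNat 0,.ofNat 0,.ofNat 2,.ofNat 2,.ofNat 0,.ofNat 0,.ofNat 0,.ofNat 2,.negSucc 1]⟩,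
  ⟨(18, 282), [[.ofNat 8,.ofNat 8,.ofNat 0,.negSucc 3,.negSucc 3,.negSucc 7,.ofNat 4,.ofNat 4,.ofNat 0,.ofNat 0,.ofNat 0,.negSucc 3,.negSucc 3,.negSucc 7,.negSucc 3,.negSucc 3,.negSucc 3,.negSucc 7,.negSucc 3,.negSucc 3,.ofNat 0,.ofNat 0,.ofNat 0,.ofNat 4], [.negSucc 3,.ofNat 0,.ofNat 0,.ofNat 0,.negSucc 7,.negSucc 11,.negSucc 3,.negSucc 3,.negSucc 3,.negSucc 3,.ofNat 0,.ofNat 4,.ofNat 0,.ofNat 0,.negSucc 3,.negSucc 7,.ofNat 0,.ofNat 0,.negSucc 3,.negSucc 7,.ofNat 4,.ofNat 4,.ofNat 0,.negSucc 3], [.negSucc 3,.negSucc 11,.ofNat 0,.ofNat 4,.ofNat 0,.ofNat 0,.negSucc 3,.negSucc 7,.ofNat 0,.negSucc 3,.ofNat 4,.ofNat 4,.ofNat 4,.ofNat 8,.ofNat 0,.ofNat 0,.ofNat 4,.ofNat 8,.ofNat 0,.ofNat 0,.ofNat 0,.ofNat 4,.negSucc 3,.negSucc 3],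 [.negSucc 3,.negSucc 3,.ofNat 4,.ofNat 0,.ofNat 8,.ofNat 12,.ofNat 0,.ofNat 0,.ofNat 0,.ofNat 4,.ofNat 0,.ofNat 0,.ofNat 4,.ofNat 4,.ofNat 4,.ofNat 8,.ofNat 4,.ofNat 4,.ofNat 4,.ofNat 8,.ofNat 0,.negSucc 3,.ofNat 0,.ofNat 0]], [.ofNat 4,.ofNat 0,.ofNat 2,.negSucc 1,.ofNat 0,.negSucc 1,.ofNat 2,.ofNat 0,.ofNat 0,.ofNat 0,.ofNat 2,.negSucc 1,.ofNat 0,.negSucc 1,.negSucc 1,.ofNat 0,.ofNat 0,.negSucc 1,.negSucc 1,.ofNat 0,.ofNat 0,.ofNat 0,.negSucc 1,.ofNat 2]⟩,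
  ⟨(18, 283), [[.ofNat 8,.ofNat 8,.ofNat 0,.negSucc 3,.negSucc 3,.negSucc 7,.ofNat 4,.ofNat 4,.ofNat 0,.ofNat 0,.ofNat 0,.negSucc 3,.negSucc 3,.negSucc 7,.negSucc 3,.negSucc 3,.ofNat 4,.ofNat 8,.ofNat 4,.ofNat 4,.ofNat 0,.ofNat 0,.ofNat 0,.negSucc 3], [.negSucc 3,.ofNat 0,.ofNat 0,.ofNat 0,.negSucc 7,.negSucc 11,.negSucc 3,.negSucc 3,.negSucc 3,.negSucc 3,.ofNat 0,.ofNat 4,.ofNat 0,.ofNat 0,.negSucc 3,.negSucc 7,.ofNat 0,.ofNat 0,.ofNat 4,.ofNat 8,.negSucc 3,.negSucc 3,.ofNat 0,.ofNat 4], [.negSucc 3,.negSucc 11,.ofNat 0,.ofNat 4,.ofNat 0,.ofNat 0,.negSucc 3,.negSucc 7,.ofNat 0,.negSucc 3,.ofNat 4,.ofNat 4,.ofNat 4,.ofNat 8,.ofNat 0,.ofNat 0,.negSucc 3,.negSucc 7,.ofNat 0,.ofNat 0,.ofNat 0,.negSucc 3,.ofNat 4,.ofNat 4], [.negSucc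 3,.negSucc 3,.ofNat 4,.ofNat 0,.ofNat 8,.ofNat 12,.ofNat 0,.ofNat 0,.ofNat 0,.ofNat 4,.ofNat 0,.ofNat 0,.ofNat 4,.ofNat 4,.ofNat 4,.ofNat 8,.negSucc 3,.negSucc 3,.negSucc 3,.negSucc 7,.ofNat 0,.ofNat 4,.ofNat 0,.ofNat 0]], [.ofNat 4,.ofNat 0,.ofNat 2,.negSucc 1,.ofNat 0,.negSucc 1,.ofNat 2,.ofNat 0,.ofNat 0,.ofNat 0,.ofNat 2,.negSucc 1,.ofNat 0,.negSucc 1,.negSucc 1,.ofNat 0,.ofNat 0,.ofNat 2,.ofNat 2,.ofNat 0,.ofNat 0,.ofNat 0,.ofNat 2,.negSucc 1]⟩,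
  ⟨(18, 284), [[.ofNat 8,.ofNat 8,.ofNat 0,.negSucc 3,.negSucc 3,.negSucc 7,.ofNat 4,.ofNat 4,.ofNat 4,.ofNat 4,.negSucc 3,.negSucc 7,.ofNat 0,.ofNat 4,.ofNat 0,.ofNat 0,.ofNat 0,.ofNat 4,.ofNat 0,.ofNat 0,.negSucc 3,.negSucc 3,.ofNat 4,.ofNat 8], [.negSucc 3,.ofNat 0,.ofNat 0,.ofNat 0,.negSucc 7,.negSucc 11,.negSucc 3,.negSucc 3,.ofNat 4,.ofNat 8,.ofNat 0,.ofNat 0,.ofNat 0,.negSucc 3,.negSucc 3,.negSucc 3,.ofNat 0,.negSucc 3,.negSucc 3,.negSucc 3,.negSucc 3,.negSucc 7,.ofNat 0,.ofNat 0], [.negSucc 3,.negSucc 11,.ofNat 0,.ofNat 4,.ofNat 0,.ofNat 0,.negSucc 3,.negSucc 7,.ofNat 0,.ofNat 0,.ofNat 4,.ofNat 8,.negSucc 3,.negSucc 3,.ofNat 0,.negSucc 3,.negSucc 3,.negSucc 3,.ofNat 0,.negSucc 3,.ofNat 0,.ofNat 0,.negSucc 3,.negSucc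 7], [.negSucc 3,.negSucc 3,.ofNat 4,.ofNat 0,.ofNat 8,.ofNat 12,.ofNat 0,.ofNat 0,.negSucc 3,.negSucc 7,.ofNat 4,.ofNat 4,.ofNat 0,.ofNat 0,.ofNat 0,.ofNat 4,.ofNat 0,.ofNat 0,.ofNat 0,.ofNat 4,.ofNat 4,.ofNat 8,.negSucc 3,.negSucc 3]], [.ofNat 4,.ofNat 0,.ofNat 2,.negSucc 1,.ofNat 0,.negSucc 1,.ofNat 2,.ofNat 0,.ofNat 2,.ofNat 0,.ofNat 0,.negSucc 1,.negSucc 1,.ofNat 2,.ofNat 0,.ofNat 0,.negSucc 1,.ofNat 2,.ofNat 0,.ofNat 0,.negSucc 1,.ofNat 0,.ofNat 0,.ofNat 2]⟩,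
  ⟨(18, 285), [[.ofNat 8,.ofNat 8,.ofNat 0,.negSucc 3,.negSucc 3,.negSucc 7,.ofNat 4,.ofNat 4,.ofNat 4,.ofNat 4,.negSucc 3,.negSucc 7,.ofNat 0,.ofNat 4,.ofNat 0,.ofNat 0,.ofNat 0,.negSucc 3,.ofNat 0,.ofNat 0,.ofNat 4,.ofNat 4,.negSucc 3,.negSucc 7], [.negSucc 3,.ofNat 0,.ofNat 0,.ofNat 0,.negSucc 7,.negSucc 11,.negSucc 3,.negSucc 3,.ofNat 4,.ofNat 8,.ofNat 0,.ofNat 0,.ofNat 0,.negSucc 3,.negSucc 3,.negSucc 3,.ofNat 0,.ofNat 4,.ofNat 4,.ofNat 4,.ofNat 4,.ofNat 8,.ofNat 0,.ofNat 0], [.negSucc 3,.negSucc 11,.ofNat 0,.ofNat 4,.ofNat 0,.ofNat 0,.negSucc 3,.negSucc 7,.ofNat 0,.ofNat 0,.ofNat 4,.ofNat 8,.negSucc 3,.negSucc 3,.ofNat 0,.negSucc 3,.ofNat 4,.ofNat 4,.ofNat 0,.ofNat 4,.ofNat 0,.ofNat 0,.ofNat 4,.ofNat 8], [.negSucc 3,.negSucc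 3,.ofNat 4,.ofNat 0,.ofNat 8,.ofNat 12,.ofNat 0,.ofNat 0,.negSucc 3,.negSucc 7,.ofNat 4,.ofNat 4,.ofNat 0,.ofNat 0,.ofNat 0,.ofNat 4,.ofNat 0,.ofNat 0,.ofNat 0,.negSucc 3,.negSucc 3,.negSucc 7,.ofNat 4,.ofNat 4]], [.ofNat 4,.ofNat 0,.ofNat 2,.negSucc 1,.ofNat 0,.negSucc 1,.ofNat 2,.ofNat 0,.ofNat 2,.ofNat 0,.ofNat 0,.negSucc 1,.negSucc 1,.ofNat 2,.ofNat 0,.ofNat 0,.ofNat 2,.negSucc 1,.ofNat 0,.ofNat 0,.ofNat 2,.ofNat 0,.ofNat 0,.negSucc 1]⟩,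
  ⟨(18, 286), [[.ofNat 8,.ofNat 8,.ofNat 0,.negSucc 3,.negSucc 3,.negSucc 7,.ofNat 4,.ofNat 4,.negSucc 3,.negSucc 3,.ofNat 4,.ofNat 8,.ofNat 0,.negSucc 3,.ofNat 0,.ofNat 0,.ofNat 0,.ofNat 4,.ofNat 0,.ofNat 0,.negSucc 3,.negSucc 3,.ofNat 4,.ofNat 8], [.negSucc 3,.ofNat 0,.ofNat 0,.ofNat 0,.negSucc 7,.negSucc 11,.negSucc 3,.negSucc 3,.negSucc 3,.negSucc 7,.ofNat 0,.ofNat 0,.ofNat 0,.ofNat 4,.ofNat 4,.ofNat 4,.ofNat 0,.negSucc 3,.negSucc 3,.negSucc 3,.negSucc 3,.negSucc 7,.ofNat 0,.ofNat 0], [.negSucc 3,.negSucc 11,.ofNat 0,.ofNat 4,.ofNat 0,.ofNat 0,.negSucc 3,.negSucc 7,.ofNat 0,.ofNat 0,.negSucc 3,.negSucc 7,.ofNat 4,.ofNat 4,.ofNat 0,.ofNat 4,.negSucc 3,.negSucc 3,.ofNat 0,.negSucc 3,.ofNat 0,.ofNat 0,.negSucc 3,.negSucc 7],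 [.negSucc 3,.negSucc 3,.ofNat 4,.ofNat 0,.ofNat 8,.ofNat 12,.ofNat 0,.ofNat 0,.ofNat 4,.ofNat 8,.negSucc 3,.negSucc 3,.ofNat 0,.ofNat 0,.ofNat 0,.negSucc 3,.ofNat 0,.ofNat 0,.ofNat 0,.ofNat 4,.ofNat 4,.ofNat 8,.negSucc 3,.negSucc 3]], [.ofNat 4,.ofNat 0,.ofNat 2,.negSucc 1,.ofNat 0,.negSucc 1,.ofNat 2,.ofNat 0,.negSucc 1,.ofNat 0,.ofNat 0,.ofNat 2,.ofNat 2,.negSucc 1,.ofNat 0,.ofNat 0,.negSucc 1,.ofNat 2,.ofNat 0,.ofNat 0,.negSucc 1,.ofNat 0,.ofNat 0,.ofNat 2]⟩,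
  ⟨(18, 287), [[.ofNat 8,.ofNat 8,.ofNat 0,.negSucc 3,.negSucc 3,.negSucc 7,.ofNat 4,.ofNat 4,.negSucc 3,.negSucc 3,.ofNat 4,.ofNat 8,.ofNat 0,.negSucc 3,.ofNat 0,.ofNat 0,.ofNat 0,.negSucc 3,.ofNat 0,.ofNat 0,.ofNat 4,.ofNat 4,.negSucc 3,.negSucc 7], [.negSucc 3,.ofNat 0,.ofNat 0,.ofNat 0,.negSucc 7,.negSucc 11,.negSucc 3,.negSucc 3,.negSucc 3,.negSucc 7,.ofNat 0,.ofNat 0,.ofNat 0,.ofNat 4,.ofNat 4,.ofNat 4,.ofNat 0,.ofNat 4,.ofNat 4,.ofNat 4,.ofNat 4,.ofNat 8,.ofNat 0,.ofNat 0], [.negSucc 3,.negSucc 11,.ofNat 0,.ofNat 4,.ofNat 0,.ofNat 0,.negSucc 3,.negSucc 7,.ofNat 0,.ofNat 0,.negSucc 3,.negSucc 7,.ofNat 4,.ofNat 4,.ofNat 0,.ofNat 4,.ofNat 4,.ofNat 4,.ofNat 0,.ofNat 4,.ofNat 0,.ofNat 0,.ofNat 4,.ofNat 8], [.negSucc 3,.negSucc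 3,.ofNat 4,.ofNat 0,.ofNat 8,.ofNat 12,.ofNat 0,.ofNat 0,.ofNat 4,.ofNat 8,.negSucc 3,.negSucc 3,.ofNat 0,.ofNat 0,.ofNat 0,.negSucc 3,.ofNat 0,.ofNat 0,.ofNat 0,.negSucc 3,.negSucc 3,.negSucc 7,.ofNat 4,.ofNat 4]], [.ofNat 4,.ofNat 0,.ofNat 2,.negSucc 1,.ofNat 0,.negSucc 1,.ofNat 2,.ofNat 0,.negSucc 1,.ofNat 0,.ofNat 0,.ofNat 2,.ofNat 2,.negSucc 1,.ofNat 0,.ofNat 0,.ofNat 2,.negSucc 1,.ofNat 0,.ofNat 0,.ofNat 2,.ofNat 0,.ofNat 0,.negSucc 1]⟩,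
  ⟨(20, 288), [[.ofNat 8,.ofNat 8,.ofNat 0,.negSucc 3,.negSucc 3,.negSucc 7,.negSucc 3,.negSucc 3,.ofNat 0,.ofNat 0,.ofNat 0,.ofNat 4,.ofNat 4,.ofNat 8,.negSucc 3,.negSucc 3,.ofNat 0,.negSucc 3,.ofNat 0,.ofNat 0,.negSucc 3,.negSucc 3,.negSucc 3,.negSucc 7], [.negSucc 3,.ofNat 0,.ofNat 4,.ofNat 8,.negSucc 3,.negSucc 7,.negSucc 3,.negSucc 7,.ofNat 4,.ofNat 4,.ofNat 4,.ofNat 4,.ofNat 4,.ofNat 4,.ofNat 4,.ofNat 4,.negSucc 3,.negSucc 3,.ofNat 4,.ofNat 4,.ofNat 4,.ofNat 4,.negSucc 3,.negSucc 3], [.negSucc 3,.negSucc 11,.ofNat 4,.ofNat 8,.ofNat 0,.ofNat 4,.ofNat 0,.ofNat 0,.ofNat 0,.ofNat 4,.ofNat 0,.ofNat 0,.negSucc 3,.negSucc 3,.ofNat 4,.ofNat 8,.ofNat 0,.ofNat 0,.ofNat 0,.ofNat 4,.ofNat 4,.ofNat 8,.ofNat 4,.ofNat 4], [.negSucc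 3,.negSucc 3,.ofNat 0,.negSucc 3,.ofNat 8,.ofNat 8,.ofNat 4,.ofNat 8,.ofNat 0,.negSucc 3,.negSucc 3,.negSucc 3,.negSucc 3,.negSucc 7,.ofNat 0,.ofNat 0,.ofNat 4,.ofNat 4,.ofNat 0,.negSucc 3,.ofNat 0,.ofNat 0,.ofNat 4,.ofNat 8]], [.ofNat 4,.ofNat 0,.ofNat 2,.negSucc 1,.ofNat 0,.negSucc 1,.negSucc 1,.ofNat 0,.ofNat 0,.ofNat 0,.negSucc 1,.ofNat 2,.ofNat 0,.ofNat 2,.negSucc 1,.ofNat 0,.ofNat 2,.negSucc 1,.ofNat 0,.ofNat 0,.negSucc 1,.ofNat 0,.ofNat 0,.negSucc 1]⟩,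
  ⟨(20, 289), [[.ofNat 8,.ofNat 8,.ofNat 0,.negSucc 3,.negSucc 3,.negSucc 7,.negSucc 3,.negSucc 3,.ofNat 0,.ofNat 0,.ofNat 0,.ofNat 4,.ofNat 4,.ofNat 8,.negSucc 3,.negSucc 3,.ofNat 0,.ofNat 4,.ofNat 0,.ofNat 0,.ofNat 4,.ofNat 4,.ofNat 4,.ofNat 8], [.negSucc 3,.ofNat 0,.ofNat 4,.ofNat 8,.negSucc 3,.negSucc 7,.negSucc 3,.negSucc 7,.ofNat 4,.ofNat 4,.ofNat 4,.ofNat 4,.ofNat 4,.ofNat 4,.ofNat 4,.ofNat 4,.ofNat 4,.ofNat 4,.negSucc 3,.negSucc 3,.negSucc 3,.negSucc 3,.ofNat 4,.ofNat 4], [.negSucc 3,.negSucc 11,.ofNat 4,.ofNat 8,.ofNat 0,.ofNat 4,.ofNat 0,.ofNat 0,.ofNat 0,.ofNat 4,.ofNat 0,.ofNat 0,.negSucc 3,.negSucc 3,.ofNat 4,.ofNat 8,.ofNat 0,.ofNat 0,.ofNat 0,.negSucc 3,.negSucc 3,.negSucc 7,.negSucc 3,.negSucc 3], [.negSucc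 3,.negSucc 3,.ofNat 0,.negSucc 3,.ofNat 8,.ofNat 8,.ofNat 4,.ofNat 8,.ofNat 0,.negSucc 3,.negSucc 3,.negSucc 3,.negSucc 3,.negSucc 7,.ofNat 0,.ofNat 0,.negSucc 3,.negSucc 3,.ofNat 0,.ofNat 4,.ofNat 0,.ofNat 0,.negSucc 3,.negSucc 7]], [.ofNat 4,.ofNat 0,.ofNat 2,.negSucc 1,.ofNat 0,.negSucc 1,.negSucc 1,.ofNat 0,.ofNat 0,.ofNat 0,.negSucc 1,.ofNat 2,.ofNat 0,.ofNat 2,.negSucc 1,.ofNat 0,.negSucc 1,.ofNat 2,.ofNat 0,.ofNat 0,.ofNat 2,.ofNat 0,.ofNat 0,.ofNat 2]⟩,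
  ⟨(20, 290), [[.ofNat 8,.ofNat 8,.ofNat 0,.negSucc 3,.negSucc 3,.negSucc 7,.negSucc 3,.negSucc 3,.ofNat 0,.ofNat 0,.ofNat 0,.negSucc 3,.negSucc 3,.negSucc 7,.ofNat 4,.ofNat 4,.ofNat 0,.negSucc 3,.ofNat 0,.ofNat 0,.negSucc 3,.negSucc 3,.negSucc 3,.negSucc 7], [.negSucc 3,.ofNat 0,.ofNat 4,.ofNat 8,.negSucc 3,.negSucc 7,.negSucc 3,.negSucc 7,.negSucc 3,.negSucc 3,.negSucc 3,.negSucc 3,.negSucc 3,.negSucc 3,.negSucc 3,.negSucc 3,.negSucc 3,.negSucc 3,.ofNat 4,.ofNat 4,.ofNat 4,.ofNat 4,.negSucc 3,.negSucc 3], [.negSucc 3,.negSucc 11,.ofNat 4,.ofNat 8,.ofNat 0,.ofNat 4,.ofNat 0,.ofNat 0,.ofNat 0,.negSucc 3,.ofNat 0,.ofNat 0,.ofNat 4,.ofNat 4,.negSucc 3,.negSucc 7,.ofNat 0,.ofNat 0,.ofNat 0,.ofNat 4,.ofNat 4,.ofNat 8,.ofNat 4,.ofNat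 4], [.negSucc 3,.negSucc 3,.ofNat 0,.negSucc 3,.ofNat 8,.ofNat 8,.ofNat 4,.ofNat 8,.ofNat 0,.ofNat 4,.ofNat 4,.ofNat 4,.ofNat 4,.ofNat 8,.ofNat 0,.ofNat 0,.ofNat 4,.ofNat 4,.ofNat 0,.negSucc 3,.ofNat 0,.ofNat 0,.ofNat 4,.ofNat 8]], [.ofNat 4,.ofNat 0,.ofNat 2,.negSucc 1,.ofNat 0,.negSucc 1,.negSucc 1,.ofNat 0,.ofNat 0,.ofNat 0,.ofNat 2,.negSucc 1,.ofNat 0,.negSucc 1,.ofNat 2,.ofNat 0,.ofNat 2,.negSucc 1,.ofNat 0,.ofNat 0,.negSucc 1,.ofNat 0,.ofNat 0,.negSucc 1]⟩,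
  ⟨(20, 291), [[.ofNat 8,.ofNat 8,.ofNat 0,.negSucc 3,.negSucc 3,.negSucc 7,.negSucc 3,.negSucc 3,.ofNat 0,.ofNat 0,.ofNat 0,.negSucc 3,.negSucc 3,.negSucc 7,.ofNat 4,.ofNat 4,.ofNat 0,.ofNat 4,.ofNat 0,.ofNat 0,.ofNat 4,.ofNat 4,.ofNat 4,.ofNat 8], [.negSucc 3,.ofNat 0,.ofNat 4,.ofNat 8,.negSucc 3,.negSucc 7,.negSucc 3,.negSucc 7,.negSucc 3,.negSucc 3,.negSucc 3,.negSucc 3,.negSucc 3,.negSucc 3,.negSucc 3,.negSucc 3,.ofNat 4,.ofNat 4,.negSucc 3,.negSucc 3,.negSucc 3,.negSucc 3,.ofNat 4,.ofNat 4], [.negSucc 3,.negSucc 11,.ofNat 4,.ofNat 8,.ofNat 0,.ofNat 4,.ofNat 0,.ofNat 0,.ofNat 0,.negSucc 3,.ofNat 0,.ofNat 0,.ofNat 4,.ofNat 4,.negSucc 3,.negSucc 7,.ofNat 0,.ofNat 0,.ofNat 0,.negSucc 3,.negSucc 3,.negSucc 7,.negSucc 3,.negSucc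 3], [.negSucc 3,.negSucc 3,.ofNat 0,.negSucc 3,.ofNat 8,.ofNat 8,.ofNat 4,.ofNat 8,.ofNat 0,.ofNat 4,.ofNat 4,.ofNat 4,.ofNat 4,.ofNat 8,.ofNat 0,.ofNat 0,.negSucc 3,.negSucc 3,.ofNat 0,.ofNat 4,.ofNat 0,.ofNat 0,.negSucc 3,.negSucc 7]], [.ofNat 4,.ofNat 0,.ofNat 2,.negSucc 1,.ofNat 0,.negSucc 1,.negSucc 1,.ofNat 0,.ofNat 0,.ofNat 0,.ofNat 2,.negSucc 1,.ofNat 0,.negSucc 1,.ofNat 2,.ofNat 0,.negSucc 1,.ofNat 2,.ofNat 0,.ofNat 0,.ofNat 2,.ofNat 0,.ofNat 0,.ofNat 2]⟩,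
  ⟨(20, 292), [[.ofNat 8,.ofNat 8,.ofNat 0,.negSucc 3,.negSucc 3,.negSucc 7,.negSucc 3,.negSucc 3,.negSucc 3,.negSucc 3,.negSucc 3,.negSucc 7,.ofNat 0,.ofNat 4,.ofNat 0,.ofNat 0,.negSucc 3,.negSucc 7,.ofNat 4,.ofNat 4,.ofNat 0,.ofNat 0,.ofNat 0,.ofNat 4], [.negSucc 3,.ofNat 0,.ofNat 4,.ofNat 8,.negSucc 3,.negSucc 7,.negSucc 3,.negSucc 7,.ofNat 4,.ofNat 4,.negSucc 3,.negSucc 3,.ofNat 4,.ofNat 4,.negSucc 3,.negSucc 3,.negSucc 3,.negSucc 3,.negSucc 3,.negSucc 3,.ofNat 4,.ofNat 4,.ofNat 4,.ofNat 4], [.negSucc 3,.negSucc 11,.ofNat 4,.ofNat 8,.ofNat 0,.ofNat 4,.ofNat 0,.ofNat 0,.ofNat 4,.ofNat 8,.ofNat 4,.ofNat 4,.ofNat 0,.ofNat 0,.ofNat 0,.negSucc 3,.ofNat 4,.ofNat 4,.negSucc 3,.negSucc 7,.ofNat 0,.ofNat 4,.ofNat 0,.ofNat 0], [.negSucc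 3,.negSucc 3,.ofNat 0,.negSucc 3,.ofNat 8,.ofNat 8,.ofNat 4,.ofNat 8,.ofNat 0,.ofNat 0,.ofNat 4,.ofNat 8,.negSucc 3,.negSucc 3,.ofNat 0,.ofNat 4,.ofNat 4,.ofNat 8,.ofNat 0,.ofNat 0,.ofNat 0,.negSucc 3,.negSucc 3,.negSucc 3]], [.ofNat 4,.ofNat 0,.ofNat 2,.negSucc 1,.ofNat 0,.negSucc 1,.negSucc 1,.ofNat 0,.negSucc 1,.ofNat 0,.ofNat 0,.negSucc 1,.negSucc 1,.ofNat 2,.ofNat 0,.ofNat 0,.ofNat 0,.negSucc 1,.ofNat 2,.ofNat 0,.ofNat 0,.ofNat 0,.negSucc 1,.ofNat 2]⟩,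
  ⟨(20, 293), [[.ofNat 8,.ofNat 8,.ofNat 0,.negSucc 3,.negSucc 3,.negSucc 7,.negSucc 3,.negSucc 3,.negSucc 3,.negSucc 3,.negSucc 3,.negSucc 7,.ofNat 0,.ofNat 4,.ofNat 0,.ofNat 0,.ofNat 4,.ofNat 8,.negSucc 3,.negSucc 3,.ofNat 0,.ofNat 0,.ofNat 0,.negSucc 3], [.negSucc 3,.ofNat 0,.ofNat 4,.ofNat 8,.negSucc 3,.negSucc 7,.negSucc 3,.negSucc 7,.ofNat 4,.ofNat 4,.negSucc 3,.negSucc 3,.ofNat 4,.ofNat 4,.negSucc 3,.negSucc 3,.ofNat 4,.ofNat 4,.ofNat 4,.ofNat 4,.negSucc 3,.negSucc 3,.negSucc 3,.negSucc 3], [.negSucc 3,.negSucc 11,.ofNat 4,.ofNat 8,.ofNat 0,.ofNat 4,.ofNat 0,.ofNat 0,.ofNat 4,.ofNat 8,.ofNat 4,.ofNat 4,.ofNat 0,.ofNat 0,.ofNat 0,.negSucc 3,.negSucc 3,.negSucc 3,.ofNat 4,.ofNat 8,.ofNat 0,.negSucc 3,.ofNat 0,.ofNat 0],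 [.negSucc 3,.negSucc 3,.ofNat 0,.negSucc 3,.ofNat 8,.ofNat 8,.ofNat 4,.ofNat 8,.ofNat 0,.ofNat 0,.ofNat 4,.ofNat 8,.negSucc 3,.negSucc 3,.ofNat 0,.ofNat 4,.negSucc 3,.negSucc 7,.ofNat 0,.ofNat 0,.ofNat 0,.ofNat 4,.ofNat 4,.ofNat 4]], [.ofNat 4,.ofNat 0,.ofNat 2,.negSucc 1,.ofNat 0,.negSucc 1,.negSucc 1,.ofNat 0,.negSucc 1,.ofNat 0,.ofNat 0,.negSucc 1,.negSucc 1,.ofNat 2,.ofNat 0,.ofNat 0,.ofNat 0,.ofNat 2,.negSucc 1,.ofNat 0,.ofNat 0,.ofNat 0,.ofNat 2,.negSucc 1]⟩,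
  ⟨(20, 294), [[.ofNat 8,.ofNat 8,.ofNat 0,.negSucc 3,.negSucc 3,.negSucc 7,.negSucc 3,.negSucc 3,.ofNat 4,.ofNat 4,.ofNat 4,.ofNat 8,.ofNat 0,.negSucc 3,.ofNat 0,.ofNat 0,.negSucc 3,.negSucc 7,.ofNat 4,.ofNat 4,.ofNat 0,.ofNat 0,.ofNat 0,.ofNat 4], [.negSucc 3,.ofNat 0,.ofNat 4,.ofNat 8,.negSucc 3,.negSucc 7,.negSucc 3,.negSucc 7,.negSucc 3,.negSucc 3,.ofNat 4,.ofNat 4,.negSucc 3,.negSucc 3,.ofNat 4,.ofNat 4,.negSucc 3,.negSucc 3,.negSucc 3,.negSucc 3,.ofNat 4,.ofNat 4,.ofNat 4,.ofNat 4], [.negSucc 3,.negSucc 11,.ofNat 4,.ofNat 8,.ofNat 0,.ofNat 4,.ofNat 0,.ofNat 0,.negSucc 3,.negSucc 7,.negSucc 3,.negSucc 3,.ofNat 0,.ofNat 0,.ofNat 0,.ofNat 4,.ofNat 4,.ofNat 4,.negSucc 3,.negSucc 7,.ofNat 0,.ofNat 4,.ofNat 0,.ofNat 0], [.negSucc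 3,.negSucc 3,.ofNat 0,.negSucc 3,.ofNat 8,.ofNat 8,.ofNat 4,.ofNat 8,.ofNat 0,.ofNat 0,.negSucc 3,.negSucc 7,.ofNat 4,.ofNat 4,.ofNat 0,.negSucc 3,.ofNat 4,.ofNat 8,.ofNat 0,.ofNat 0,.ofNat 0,.negSucc 3,.negSucc 3,.negSucc 3]], [.ofNat 4,.ofNat 0,.ofNat 2,.negSucc 1,.ofNat 0,.negSucc 1,.negSucc 1,.ofNat 0,.ofNat 2,.ofNat 0,.ofNat 0,.ofNat 2,.ofNat 2,.negSucc 1,.ofNat 0,.ofNat 0,.ofNat 0,.negSucc 1,.ofNat 2,.ofNat 0,.ofNat 0,.ofNat 0,.negSucc 1,.ofNat 2]⟩,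
  ⟨(20, 295), [[.ofNat 8,.ofNat 8,.ofNat 0,.negSucc 3,.negSucc 3,.negSucc 7,.negSucc 3,.negSucc 3,.ofNat 4,.ofNat 4,.ofNat 4,.ofNat 8,.ofNat 0,.negSucc 3,.ofNat 0,.ofNat 0,.ofNat 4,.ofNat 8,.negSucc 3,.negSucc 3,.ofNat 0,.ofNat 0,.ofNat 0,.negSucc 3], [.negSucc 3,.ofNat 0,.ofNat 4,.ofNat 8,.negSucc 3,.negSucc 7,.negSucc 3,.negSucc 7,.negSucc 3,.negSucc 3,.ofNat 4,.ofNat 4,.negSucc 3,.negSucc 3,.ofNat 4,.ofNat 4,.ofNat 4,.ofNat 4,.ofNat 4,.ofNat 4,.negSucc 3,.negSucc 3,.negSucc 3,.negSucc 3], [.negSucc 3,.negSucc 11,.ofNat 4,.ofNat 8,.ofNat 0,.ofNat 4,.ofNat 0,.ofNat 0,.negSucc 3,.negSucc 7,.negSucc 3,.negSucc 3,.ofNat 0,.ofNat 0,.ofNat 0,.ofNat 4,.negSucc 3,.negSucc 3,.ofNat 4,.ofNat 8,.ofNat 0,.negSucc 3,.ofNat 0,.ofNat 0],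 [.negSucc 3,.negSucc 3,.ofNat 0,.negSucc 3,.ofNat 8,.ofNat 8,.ofNat 4,.ofNat 8,.ofNat 0,.ofNat 0,.negSucc 3,.negSucc 7,.ofNat 4,.ofNat 4,.ofNat 0,.negSucc 3,.negSucc 3,.negSucc 7,.ofNat 0,.ofNat 0,.ofNat 0,.ofNat 4,.ofNat 4,.ofNat 4]], [.ofNat 4,.ofNat 0,.ofNat 2,.negSucc 1,.ofNat 0,.negSucc 1,.negSucc 1,.ofNat 0,.ofNat 2,.ofNat 0,.ofNat 0,.ofNat 2,.ofNat 2,.negSucc 1,.ofNat 0,.ofNat 0,.ofNat 0,.ofNat 2,.negSucc 1,.ofNat 0,.ofNat 0,.ofNat 0,.ofNat 2,.negSucc 1]⟩,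
  ⟨(20, 296), [[.ofNat 8,.ofNat 8,.ofNat 0,.negSucc 3,.negSucc 3,.negSucc 7,.negSucc 3,.negSucc 3,.negSucc 3,.negSucc 7,.ofNat 4,.ofNat 4,.ofNat 0,.ofNat 0,.ofNat 0,.ofNat 4,.negSucc 3,.negSucc 3,.negSucc 3,.negSucc 7,.ofNat 0,.ofNat 4,.ofNat 0,.ofNat 0], [.negSucc 3,.ofNat 0,.ofNat 4,.ofNat 8,.negSucc 3,.negSucc 7,.negSucc 3,.negSucc 7,.negSucc 3,.negSucc 3,.negSucc 3,.negSucc 3,.ofNat 4,.ofNat 4,.ofNat 4,.ofNat 4,.ofNat 4,.ofNat 4,.negSucc 3,.negSucc 3,.ofNat 4,.ofNat 4,.negSucc 3,.negSucc 3], [.negSucc 3,.negSucc 11,.ofNat 4,.ofNat 8,.ofNat 0,.ofNat 4,.ofNat 0,.ofNat 0,.ofNat 4,.ofNat 4,.negSucc 3,.negSucc 7,.ofNat 0,.ofNat 4,.ofNat 0,.ofNat 0,.ofNat 4,.ofNat 8,.ofNat 4,.ofNat 4,.ofNat 0,.ofNat 0,.ofNat 0,.negSucc 3], [.negSucc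 3,.negSucc 3,.ofNat 0,.negSucc 3,.ofNat 8,.ofNat 8,.ofNat 4,.ofNat 8,.ofNat 4,.ofNat 8,.ofNat 0,.ofNat 0,.ofNat 0,.negSucc 3,.negSucc 3,.negSucc 3,.ofNat 0,.ofNat 0,.ofNat 4,.ofNat 8,.negSucc 3,.negSucc 3,.ofNat 0,.ofNat 4]], [.ofNat 4,.ofNat 0,.ofNat 2,.negSucc 1,.ofNat 0,.negSucc 1,.negSucc 1,.ofNat 0,.ofNat 0,.negSucc 1,.ofNat 2,.ofNat 0,.ofNat 0,.ofNat 0,.negSucc 1,.ofNat 2,.negSucc 1,.ofNat 0,.ofNat 0,.negSucc 1,.negSucc 1,.ofNat 2,.ofNat 0,.ofNat 0]⟩,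
  ⟨(20, 297), [[.ofNat 8,.ofNat 8,.ofNat 0,.negSucc 3,.negSucc 3,.negSucc 7,.negSucc 3,.negSucc 3,.negSucc 3,.negSucc 7,.ofNat 4,.ofNat 4,.ofNat 0,.ofNat 0,.ofNat 0,.ofNat 4,.ofNat 4,.ofNat 4,.ofNat 4,.ofNat 8,.ofNat 0,.negSucc 3,.ofNat 0,.ofNat 0], [.negSucc 3,.ofNat 0,.ofNat 4,.ofNat 8,.negSucc 3,.negSucc 7,.negSucc 3,.negSucc 7,.negSucc 3,.negSucc 3,.negSucc 3,.negSucc 3,.ofNat 4,.ofNat 4,.ofNat 4,.ofNat 4,.negSucc 3,.negSucc 3,.ofNat 4,.ofNat 4,.negSucc 3,.negSucc 3,.ofNat 4,.ofNat 4], [.negSucc 3,.negSucc 11,.ofNat 4,.ofNat 8,.ofNat 0,.ofNat 4,.ofNat 0,.ofNat 0,.ofNat 4,.ofNat 4,.negSucc 3,.negSucc 7,.ofNat 0,.ofNat 4,.ofNat 0,.ofNat 0,.negSucc 3,.negSucc 7,.negSucc 3,.negSucc 3,.ofNat 0,.ofNat 0,.ofNat 0,.ofNat 4], [.negSucc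 3,.negSucc 3,.ofNat 0,.negSucc 3,.ofNat 8,.ofNat 8,.ofNat 4,.ofNat 8,.ofNat 4,.ofNat 8,.ofNat 0,.ofNat 0,.ofNat 0,.negSucc 3,.negSucc 3,.negSucc 3,.ofNat 0,.ofNat 0,.negSucc 3,.negSucc 7,.ofNat 4,.ofNat 4,.ofNat 0,.negSucc 3]], [.ofNat 4,.ofNat 0,.ofNat 2,.negSucc 1,.ofNat 0,.negSucc 1,.negSucc 1,.ofNat 0,.ofNat 0,.negSucc 1,.ofNat 2,.ofNat 0,.ofNat 0,.ofNat 0,.negSucc 1,.ofNat 2,.ofNat 2,.ofNat 0,.ofNat 0,.ofNat 2,.ofNat 2,.negSucc 1,.ofNat 0,.ofNat 0]⟩,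
  ⟨(20, 298), [[.ofNat 8,.ofNat 8,.ofNat 0,.negSucc 3,.negSucc 3,.negSucc 7,.negSucc 3,.negSucc 3,.ofNat 4,.ofNat 8,.negSucc 3,.negSucc 3,.ofNat 0,.ofNat 0,.ofNat 0,.negSucc 3,.negSucc 3,.negSucc 3,.negSucc 3,.negSucc 7,.ofNat 0,.ofNat 4,.ofNat 0,.ofNat 0], [.negSucc 3,.ofNat 0,.ofNat 4,.ofNat 8,.negSucc 3,.negSucc 7,.negSucc 3,.negSucc 7,.ofNat 4,.ofNat 4,.ofNat 4,.ofNat 4,.negSucc 3,.negSucc 3,.negSucc 3,.negSucc 3,.ofNat 4,.ofNat 4,.negSucc 3,.negSucc 3,.ofNat 4,.ofNat 4,.negSucc 3,.negSucc 3], [.negSucc 3,.negSucc 11,.ofNat 4,.ofNat 8,.ofNat 0,.ofNat 4,.ofNat 0,.ofNat 0,.negSucc 3,.negSucc 3,.ofNat 4,.ofNat 8,.ofNat 0,.negSucc 3,.ofNat 0,.ofNat 0,.ofNat 4,.ofNat 8,.ofNat 4,.ofNat 4,.ofNat 0,.ofNat 0,.ofNat 0,.negSucc 3],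 [.negSucc 3,.negSucc 3,.ofNat 0,.negSucc 3,.ofNat 8,.ofNat 8,.ofNat 4,.ofNat 8,.negSucc 3,.negSucc 7,.ofNat 0,.ofNat 0,.ofNat 0,.ofNat 4,.ofNat 4,.ofNat 4,.ofNat 0,.ofNat 0,.ofNat 4,.ofNat 8,.negSucc 3,.negSucc 3,.ofNat 0,.ofNat 4]], [.ofNat 4,.ofNat 0,.ofNat 2,.negSucc 1,.ofNat 0,.negSucc 1,.negSucc 1,.ofNat 0,.ofNat 0,.ofNat 2,.negSucc 1,.ofNat 0,.ofNat 0,.ofNat 0,.ofNat 2,.negSucc 1,.negSucc 1,.ofNat 0,.ofNat 0,.negSucc 1,.negSucc 1,.ofNat 2,.ofNat 0,.ofNat 0]⟩,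
  ⟨(20, 299), [[.ofNat 8,.ofNat 8,.ofNat 0,.negSucc 3,.negSucc 3,.negSucc 7,.negSucc 3,.negSucc 3,.ofNat 4,.ofNat 8,.negSucc 3,.negSucc 3,.ofNat 0,.ofNat 0,.ofNat 0,.negSucc 3,.ofNat 4,.ofNat 4,.ofNat 4,.ofNat 8,.ofNat 0,.negSucc 3,.ofNat 0,.ofNat 0], [.negSucc 3,.ofNat 0,.ofNat 4,.ofNat 8,.negSucc 3,.negSucc 7,.negSucc 3,.negSucc 7,.ofNat 4,.ofNat 4,.ofNat 4,.ofNat 4,.negSucc 3,.negSucc 3,.negSucc 3,.negSucc 3,.negSucc 3,.negSucc 3,.ofNat 4,.ofNat 4,.negSucc 3,.negSucc 3,.ofNat 4,.ofNat 4], [.negSucc 3,.negSucc 11,.ofNat 4,.ofNat 8,.ofNat 0,.ofNat 4,.ofNat 0,.ofNat 0,.negSucc 3,.negSucc 3,.ofNat 4,.ofNat 8,.ofNat 0,.negSucc 3,.ofNat 0,.ofNat 0,.negSucc 3,.negSucc 7,.negSucc 3,.negSucc 3,.ofNat 0,.ofNat 0,.ofNat 0,.ofNat 4],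 [.negSucc 3,.negSucc 3,.ofNat 0,.negSucc 3,.ofNat 8,.ofNat 8,.ofNat 4,.ofNat 8,.negSucc 3,.negSucc 7,.ofNat 0,.ofNat 0,.ofNat 0,.ofNat 4,.ofNat 4,.ofNat 4,.ofNat 0,.ofNat 0,.negSucc 3,.negSucc 7,.ofNat 4,.ofNat 4,.ofNat 0,.negSucc 3]], [.ofNat 4,.ofNat 0,.ofNat 2,.negSucc 1,.ofNat 0,.negSucc 1,.negSucc 1,.ofNat 0,.ofNat 0,.ofNat 2,.negSucc 1,.ofNat 0,.ofNat 0,.ofNat 0,.ofNat 2,.negSucc 1,.ofNat 2,.ofNat 0,.ofNat 0,.ofNat 2,.ofNat 2,.negSucc 1,.ofNat 0,.ofNat 0]⟩,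
  ⟨(20, 300), [[.ofNat 8,.ofNat 8,.ofNat 0,.negSucc 3,.negSucc 3,.negSucc 7,.negSucc 3,.negSucc 3,.ofNat 0,.negSucc 3,.ofNat 0,.ofNat 0,.negSucc 3,.negSucc 3,.negSucc 3,.negSucc 7,.ofNat 0,.ofNat 0,.ofNat 0,.ofNat 4,.ofNat 4,.ofNat 8,.negSucc 3,.negSucc 3], [.negSucc 3,.ofNat 0,.ofNat 4,.ofNat 8,.negSucc 3,.negSucc 7,.negSucc 3,.negSucc 7,.negSucc 3,.negSucc 3,.ofNat 4,.ofNat 4,.ofNat 4,.ofNat 4,.negSucc 3,.negSucc 3,.ofNat 4,.ofNat 4,.ofNat 4,.ofNat 4,.ofNat 4,.ofNat 4,.ofNat 4,.ofNat 4], [.negSucc 3,.negSucc 11,.ofNat 4,.ofNat 8,.ofNat 0,.ofNat 4,.ofNat 0,.ofNat 0,.ofNat 0,.ofNat 0,.ofNat 0,.ofNat 4,.ofNat 4,.ofNat 8,.ofNat 4,.ofNat 4,.ofNat 0,.ofNat 4,.ofNat 0,.ofNat 0,.negSucc 3,.negSucc 3,.ofNat 4,.ofNat 8], [.negSucc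 3,.negSucc 3,.ofNat 0,.negSucc 3,.ofNat 8,.ofNat 8,.ofNat 4,.ofNat 8,.ofNat 4,.ofNat 4,.ofNat 0,.negSucc 3,.ofNat 0,.ofNat 0,.ofNat 4,.ofNat 8,.ofNat 0,.negSucc 3,.negSucc 3,.negSucc 3,.negSucc 3,.negSucc 7,.ofNat 0,.ofNat 0]], [.ofNat 4,.ofNat 0,.ofNat 2,.negSucc 1,.ofNat 0,.negSucc 1,.negSucc 1,.ofNat 0,.ofNat 2,.negSucc 1,.ofNat 0,.ofNat 0,.negSucc 1,.ofNat 0,.ofNat 0,.negSucc 1,.ofNat 0,.ofNat 0,.negSucc 1,.ofNat 2,.ofNat 0,.ofNat 2,.negSucc 1,.ofNat 0]⟩,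
  ⟨(20, 301), [[.ofNat 8,.ofNat 8,.ofNat 0,.negSucc 3,.negSucc 3,.negSucc 7,.negSucc 3,.negSucc 3,.ofNat 0,.negSucc 3,.ofNat 0,.ofNat 0,.negSucc 3,.negSucc 3,.negSucc 3,.negSucc 7,.ofNat 0,.ofNat 0,.ofNat 0,.negSucc 3,.negSucc 3,.negSucc 7,.ofNat 4,.ofNat 4], [.negSucc 3,.ofNat 0,.ofNat 4,.ofNat 8,.negSucc 3,.negSucc 7,.negSucc 3,.negSucc 7,.negSucc 3,.negSucc 3,.ofNat 4,.ofNat 4,.ofNat 4,.ofNat 4,.negSucc 3,.negSucc 3,.negSucc 3,.negSucc 3,.negSucc 3,.negSucc 3,.negSucc 3,.negSucc 3,.negSucc 3,.negSucc 3], [.negSucc 3,.negSucc 11,.ofNat 4,.ofNat 8,.ofNat 0,.ofNat 4,.ofNat 0,.ofNat 0,.ofNat 0,.ofNat 0,.ofNat 0,.ofNat 4,.ofNat 4,.ofNat 8,.ofNat 4,.ofNat 4,.ofNat 0,.negSucc 3,.ofNat 0,.ofNat 0,.ofNat 4,.ofNat 4,.negSucc 3,.negSucc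 7], [.negSucc 3,.negSucc 3,.ofNat 0,.negSucc 3,.ofNat 8,.ofNat 8,.ofNat 4,.ofNat 8,.ofNat 4,.ofNat 4,.ofNat 0,.negSucc 3,.ofNat 0,.ofNat 0,.ofNat 4,.ofNat 8,.ofNat 0,.ofNat 4,.ofNat 4,.ofNat 4,.ofNat 4,.ofNat 8,.ofNat 0,.ofNat 0]], [.ofNat 4,.ofNat 0,.ofNat 2,.negSucc 1,.ofNat 0,.negSucc 1,.negSucc 1,.ofNat 0,.ofNat 2,.negSucc 1,.ofNat 0,.ofNat 0,.negSucc 1,.ofNat 0,.ofNat 0,.negSucc 1,.ofNat 0,.ofNat 0,.ofNat 2,.negSucc 1,.ofNat 0,.negSucc 1,.ofNat 2,.ofNat 0]⟩,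
  ⟨(20, 302), [[.ofNat 8,.ofNat 8,.ofNat 0,.negSucc 3,.negSucc 3,.negSucc 7,.negSucc 3,.negSucc 3,.ofNat 0,.ofNat 4,.ofNat 0,.ofNat 0,.ofNat 4,.ofNat 4,.ofNat 4,.ofNat 8,.ofNat 0,.ofNat 0,.ofNat 0,.ofNat 4,.ofNat 4,.ofNat 8,.negSucc 3,.negSucc 3], [.negSucc 3,.ofNat 0,.ofNat 4,.ofNat 8,.negSucc 3,.negSucc 7,.negSucc 3,.negSucc 7,.ofNat 4,.ofNat 4,.negSucc 3,.negSucc 3,.negSucc 3,.negSucc 3,.ofNat 4,.ofNat 4,.ofNat 4,.ofNat 4,.ofNat 4,.ofNat 4,.ofNat 4,.ofNat 4,.ofNat 4,.ofNat 4], [.negSucc 3,.negSucc 11,.ofNat 4,.ofNat 8,.ofNat 0,.ofNat 4,.ofNat 0,.ofNat 0,.ofNat 0,.ofNat 0,.ofNat 0,.negSucc 3,.negSucc 3,.negSucc 7,.negSucc 3,.negSucc 3,.ofNat 0,.ofNat 4,.ofNat 0,.ofNat 0,.negSucc 3,.negSucc 3,.ofNat 4,.ofNat 8], [.negSucc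 3,.negSucc 3,.ofNat 0,.negSucc 3,.ofNat 8,.ofNat 8,.ofNat 4,.ofNat 8,.negSucc 3,.negSucc 3,.ofNat 0,.ofNat 4,.ofNat 0,.ofNat 0,.negSucc 3,.negSucc 7,.ofNat 0,.negSucc 3,.negSucc 3,.negSucc 3,.negSucc 3,.negSucc 7,.ofNat 0,.ofNat 0]], [.ofNat 4,.ofNat 0,.ofNat 2,.negSucc 1,.ofNat 0,.negSucc 1,.negSucc 1,.ofNat 0,.negSucc 1,.ofNat 2,.ofNat 0,.ofNat 0,.ofNat 2,.ofNat 0,.ofNat 0,.ofNat 2,.ofNat 0,.ofNat 0,.negSucc 1,.ofNat 2,.ofNat 0,.ofNat 2,.negSucc 1,.ofNat 0]⟩,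
  ⟨(20, 303), [[.ofNat 8,.ofNat 8,.ofNat 0,.negSucc 3,.negSucc 3,.negSucc 7,.negSucc 3,.negSucc 3,.ofNat 0,.ofNat 4,.ofNat 0,.ofNat 0,.ofNat 4,.ofNat 4,.ofNat 4,.ofNat 8,.ofNat 0,.ofNat 0,.ofNat 0,.negSucc 3,.negSucc 3,.negSucc 7,.ofNat 4,.ofNat 4], [.negSucc 3,.ofNat 0,.ofNat 4,.ofNat 8,.negSucc 3,.negSucc 7,.negSucc 3,.negSucc 7,.ofNat 4,.ofNat 4,.negSucc 3,.negSucc 3,.negSucc 3,.negSucc 3,.ofNat 4,.ofNat 4,.negSucc 3,.negSucc 3,.negSucc 3,.negSucc 3,.negSucc 3,.negSucc 3,.negSucc 3,.negSucc 3], [.negSucc 3,.negSucc 11,.ofNat 4,.ofNat 8,.ofNat 0,.ofNat 4,.ofNat 0,.ofNat 0,.ofNat 0,.ofNat 0,.ofNat 0,.negSucc 3,.negSucc 3,.negSucc 7,.negSucc 3,.negSucc 3,.ofNat 0,.negSucc 3,.ofNat 0,.ofNat 0,.ofNat 4,.ofNat 4,.negSucc 3,.negSucc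 7], [.negSucc 3,.negSucc 3,.ofNat 0,.negSucc 3,.ofNat 8,.ofNat 8,.ofNat 4,.ofNat 8,.negSucc 3,.negSucc 3,.ofNat 0,.ofNat 4,.ofNat 0,.ofNat 0,.negSucc 3,.negSucc 7,.ofNat 0,.ofNat 4,.ofNat 4,.ofNat 4,.ofNat 4,.ofNat 8,.ofNat 0,.ofNat 0]], [.ofNat 4,.ofNat 0,.ofNat 2,.negSucc 1,.ofNat 0,.negSucc 1,.negSucc 1,.ofNat 0,.negSucc 1,.ofNat 2,.ofNat 0,.ofNat 0,.ofNat 2,.ofNat 0,.ofNat 0,.ofNat 2,.ofNat 0,.ofNat 0,.ofNat 2,.negSucc 1,.ofNat 0,.negSucc 1,.ofNat 2,.ofNat 0]⟩]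

def candRec4 : List Rec := [
  ⟨(0, 160), [[.ofNat 8,.ofNat 16,.ofNat 0,.ofNat 0,.ofNat 0,.ofNat 0,.ofNat 0,.ofNat 0,.negSucc 3,.negSucc 3,.negSucc 3,.negSucc 3,.negSucc 3,.negSucc 3,.negSucc 3,.negSucc 3,.ofNat 0,.ofNat 4,.ofNat 0,.negSucc 3,.ofNat 0,.negSucc 3,.ofNat 0,.negSucc 3], [.ofNat 4,.ofNat 4,.ofNat 4,.ofNat 8,.negSucc 7,.negSucc 11,.ofNat 0,.ofNat 0,.ofNat 0,.negSucc 3,.ofNat 0,.ofNat 0,.ofNat 4,.ofNat 4,.negSucc 3,.negSucc 7,.ofNat 0,.ofNat 0,.ofNat 0,.ofNat 4,.negSucc 3,.ofNat 0,.negSucc 3,.negSucc 3], [.negSucc 7,.negSucc 11,.ofNat 4,.ofNat 4,.negSucc 3,.negSucc 7,.ofNat 0,.ofNat 0,.ofNat 0,.ofNat 4,.ofNat 4,.ofNat 4,.ofNat 4,.ofNat 8,.ofNat 0,.ofNat 0,.ofNat 0,.negSucc 3,.ofNat 4,.ofNat 4,.ofNat 4,.ofNat 0,.ofNat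 0,.ofNat 0], [.negSucc 7,.negSucc 11,.negSucc 3,.negSucc 3,.ofNat 4,.ofNat 8,.ofNat 0,.ofNat 0,.ofNat 4,.ofNat 4,.ofNat 0,.ofNat 4,.ofNat 0,.ofNat 0,.ofNat 4,.ofNat 8,.negSucc 3,.ofNat 0,.ofNat 0,.ofNat 0,.ofNat 0,.ofNat 4,.ofNat 4,.ofNat 4]], [.ofNat 0,.ofNat 4,.ofNat 0,.ofNat 0,.ofNat 0,.ofNat 0,.ofNat 0,.ofNat 0,.negSucc 1,.ofNat 0,.negSucc 1,.ofNat 0,.negSucc 1,.ofNat 0,.negSucc 1,.ofNat 0,.negSucc 1,.ofNat 2,.ofNat 2,.negSucc 1,.ofNat 2,.negSucc 1,.ofNat 2,.negSucc 1]⟩,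
  ⟨(0, 161), [[.ofNat 8,.ofNat 16,.ofNat 0,.ofNat 0,.ofNat 0,.ofNat 0,.ofNat 0,.ofNat 0,.negSucc 3,.negSucc 3,.negSucc 3,.negSucc 3,.negSucc 3,.negSucc 3,.negSucc 3,.negSucc 3,.ofNat 0,.negSucc 3,.ofNat 0,.ofNat 4,.ofNat 0,.ofNat 4,.ofNat 0,.ofNat 4], [.ofNat 4,.ofNat 4,.ofNat 4,.ofNat 8,.negSucc 7,.negSucc 11,.ofNat 0,.ofNat 0,.ofNat 0,.negSucc 3,.ofNat 0,.ofNat 0,.ofNat 4,.ofNat 4,.negSucc 3,.negSucc 7,.ofNat 0,.ofNat 0,.ofNat 0,.negSucc 3,.ofNat 4,.ofNat 0,.ofNat 4,.ofNat 4], [.negSucc 7,.negSucc 11,.ofNat 4,.ofNat 4,.negSucc 3,.negSucc 7,.ofNat 0,.ofNat 0,.ofNat 0,.ofNat 4,.ofNat 4,.ofNat 4,.ofNat 4,.ofNat 8,.ofNat 0,.ofNat 0,.ofNat 0,.ofNat 4,.negSucc 3,.negSucc 3,.negSucc 3,.ofNat 0,.ofNat 0,.ofNat 0], [.negSucc 7,.negSucc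 11,.negSucc 3,.negSucc 3,.ofNat 4,.ofNat 8,.ofNat 0,.ofNat 0,.ofNat 4,.ofNat 4,.ofNat 0,.ofNat 4,.ofNat 0,.ofNat 0,.ofNat 4,.ofNat 8,.ofNat 4,.ofNat 0,.ofNat 0,.ofNat 0,.ofNat 0,.negSucc 3,.negSucc 3,.negSucc 3]], [.ofNat 0,.ofNat 4,.ofNat 0,.ofNat 0,.ofNat 0,.ofNat 0,.ofNat 0,.ofNat 0,.negSucc 1,.ofNat 0,.negSucc 1,.ofNat 0,.negSucc 1,.ofNat 0,.negSucc 1,.ofNat 0,.ofNat 2,.negSucc 1,.negSucc 1,.ofNat 2,.negSucc 1,.ofNat 2,.negSucc 1,.ofNat 2]⟩,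
  ⟨(0, 162), [[.ofNat 8,.ofNat 16,.ofNat 0,.ofNat 0,.ofNat 0,.ofNat 0,.ofNat 0,.ofNat 0,.ofNat 4,.ofNat 4,.ofNat 4,.ofNat 4,.ofNat 4,.ofNat 4,.ofNat 4,.ofNat 4,.ofNat 0,.ofNat 4,.ofNat 0,.negSucc 3,.ofNat 0,.negSucc 3,.ofNat 0,.negSucc 3], [.ofNat 4,.ofNat 4,.ofNat 4,.ofNat 8,.negSucc 7,.negSucc 11,.ofNat 0,.ofNat 0,.ofNat 0,.ofNat 4,.ofNat 0,.ofNat 0,.negSucc 3,.negSucc 3,.ofNat 4,.ofNat 8,.ofNat 0,.ofNat 0,.ofNat 0,.ofNat 4,.negSucc 3,.ofNat 0,.negSucc 3,.negSucc 3], [.negSucc 7,.negSucc 11,.ofNat 4,.ofNat 4,.negSucc 3,.negSucc 7,.ofNat 0,.ofNat 0,.ofNat 0,.negSucc 3,.negSucc 3,.negSucc 3,.negSucc 3,.negSucc 7,.ofNat 0,.ofNat 0,.ofNat 0,.negSucc 3,.ofNat 4,.ofNat 4,.ofNat 4,.ofNat 0,.ofNat 0,.ofNat 0], [.negSucc 7,.negSucc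 11,.negSucc 3,.negSucc 3,.ofNat 4,.ofNat 8,.ofNat 0,.ofNat 0,.negSucc 3,.negSucc 3,.ofNat 0,.negSucc 3,.ofNat 0,.ofNat 0,.negSucc 3,.negSucc 7,.negSucc 3,.ofNat 0,.ofNat 0,.ofNat 0,.ofNat 0,.ofNat 4,.ofNat 4,.ofNat 4]], [.ofNat 0,.ofNat 4,.ofNat 0,.ofNat 0,.ofNat 0,.ofNat 0,.ofNat 0,.ofNat 0,.ofNat 2,.ofNat 0,.ofNat 2,.ofNat 0,.ofNat 2,.ofNat 0,.ofNat 2,.ofNat 0,.negSucc 1,.ofNat 2,.ofNat 2,.negSucc 1,.ofNat 2,.negSucc 1,.ofNat 2,.negSucc 1]⟩,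
  ⟨(0, 163), [[.ofNat 8,.ofNat 16,.ofNat 0,.ofNat 0,.ofNat 0,.ofNat 0,.ofNat 0,.ofNat 0,.ofNat 4,.ofNat 4,.ofNat 4,.ofNat 4,.ofNat 4,.ofNat 4,.ofNat 4,.ofNat 4,.ofNat 0,.negSucc 3,.ofNat 0,.ofNat 4,.ofNat 0,.ofNat 4,.ofNat 0,.ofNat 4], [.ofNat 4,.ofNat 4,.ofNat 4,.ofNat 8,.negSucc 7,.negSucc 11,.ofNat 0,.ofNat 0,.ofNat 0,.ofNat 4,.ofNat 0,.ofNat 0,.negSucc 3,.negSucc 3,.ofNat 4,.ofNat 8,.ofNat 0,.ofNat 0,.ofNat 0,.negSucc 3,.ofNat 4,.ofNat 0,.ofNat 4,.ofNat 4], [.negSucc 7,.negSucc 11,.ofNat 4,.ofNat 4,.negSucc 3,.negSucc 7,.ofNat 0,.ofNat 0,.ofNat 0,.negSucc 3,.negSucc 3,.negSucc 3,.negSucc 3,.negSucc 7,.ofNat 0,.ofNat 0,.ofNat 0,.ofNat 4,.negSucc 3,.negSucc 3,.negSucc 3,.ofNat 0,.ofNat 0,.ofNat 0], [.negSucc 7,.negSucc 11,.negSucc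 3,.negSucc 3,.ofNat 4,.ofNat 8,.ofNat 0,.ofNat 0,.negSucc 3,.negSucc 3,.ofNat 0,.negSucc 3,.ofNat 0,.ofNat 0,.negSucc 3,.negSucc 7,.ofNat 4,.ofNat 0,.ofNat 0,.ofNat 0,.ofNat 0,.negSucc 3,.negSucc 3,.negSucc 3]], [.ofNat 0,.ofNat 4,.ofNat 0,.ofNat 0,.ofNat 0,.ofNat 0,.ofNat 0,.ofNat 0,.ofNat 2,.ofNat 0,.ofNat 2,.ofNat 0,.ofNat 2,.ofNat 0,.ofNat 2,.ofNat 0,.ofNat 2,.negSucc 1,.negSucc 1,.ofNat 2,.negSucc 1,.ofNat 2,.negSucc 1,.ofNat 2]⟩,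
  ⟨(0, 164), [[.ofNat 8,.ofNat 16,.ofNat 0,.ofNat 0,.ofNat 0,.ofNat 0,.ofNat 0,.ofNat 0,.negSucc 3,.negSucc 3,.negSucc 3,.negSucc 3,.ofNat 4,.ofNat 4,.ofNat 4,.ofNat 4,.ofNat 0,.ofNat 4,.ofNat 0,.ofNat 4,.ofNat 0,.ofNat 4,.ofNat 0,.negSucc 3], [.ofNat 4,.ofNat 4,.ofNat 4,.ofNat 8,.negSucc 7,.negSucc 11,.ofNat 0,.ofNat 0,.ofNat 4,.ofNat 4,.negSucc 3,.negSucc 7,.ofNat 0,.ofNat 4,.ofNat 0,.ofNat 0,.ofNat 4,.ofNat 0,.ofNat 4,.ofNat 4,.ofNat 0,.ofNat 0,.ofNat 0,.ofNat 4], [.negSucc 7,.negSucc 11,.ofNat 4,.ofNat 4,.negSucc 3,.negSucc 7,.ofNat 0,.ofNat 0,.ofNat 4,.ofNat 8,.ofNat 0,.ofNat 0,.ofNat 0,.negSucc 3,.negSucc 3,.negSucc 3,.negSucc 3,.ofNat 0,.ofNat 0,.ofNat 0,.ofNat 0,.negSucc 3,.ofNat 4,.ofNat 4], [.negSucc 7,.negSucc 11,.negSucc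 3,.negSucc 3,.ofNat 4,.ofNat 8,.ofNat 0,.ofNat 0,.ofNat 0,.ofNat 0,.ofNat 4,.ofNat 8,.negSucc 3,.negSucc 3,.ofNat 0,.negSucc 3,.ofNat 0,.negSucc 3,.negSucc 3,.negSucc 3,.negSucc 3,.ofNat 0,.ofNat 0,.ofNat 0]], [.ofNat 0,.ofNat 4,.ofNat 0,.ofNat 0,.ofNat 0,.ofNat 0,.ofNat 0,.ofNat 0,.negSucc 1,.ofNat 0,.negSucc 1,.ofNat 0,.ofNat 2,.ofNat 0,.ofNat 2,.ofNat 0,.negSucc 1,.ofNat 2,.negSucc 1,.ofNat 2,.negSucc 1,.ofNat 2,.ofNat 2,.negSucc 1]⟩,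
  ⟨(0, 165), [[.ofNat 8,.ofNat 16,.ofNat 0,.ofNat 0,.ofNat 0,.ofNat 0,.ofNat 0,.ofNat 0,.negSucc 3,.negSucc 3,.negSucc 3,.negSucc 3,.ofNat 4,.ofNat 4,.ofNat 4,.ofNat 4,.ofNat 0,.negSucc 3,.ofNat 0,.negSucc 3,.ofNat 0,.negSucc 3,.ofNat 0,.ofNat 4], [.ofNat 4,.ofNat 4,.ofNat 4,.ofNat 8,.negSucc 7,.negSucc 11,.ofNat 0,.ofNat 0,.ofNat 4,.ofNat 4,.negSucc 3,.negSucc 7,.ofNat 0,.ofNat 4,.ofNat 0,.ofNat 0,.negSucc 3,.ofNat 0,.negSucc 3,.negSucc 3,.ofNat 0,.ofNat 0,.ofNat 0,.negSucc 3], [.negSucc 7,.negSucc 11,.ofNat 4,.ofNat 4,.negSucc 3,.negSucc 7,.ofNat 0,.ofNat 0,.ofNat 4,.ofNat 8,.ofNat 0,.ofNat 0,.ofNat 0,.negSucc 3,.negSucc 3,.negSucc 3,.ofNat 4,.ofNat 0,.ofNat 0,.ofNat 0,.ofNat 0,.ofNat 4,.negSucc 3,.negSucc 3], [.negSucc 7,.negSucc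 11,.negSucc 3,.negSucc 3,.ofNat 4,.ofNat 8,.ofNat 0,.ofNat 0,.ofNat 0,.ofNat 0,.ofNat 4,.ofNat 8,.negSucc 3,.negSucc 3,.ofNat 0,.negSucc 3,.ofNat 0,.ofNat 4,.ofNat 4,.ofNat 4,.ofNat 4,.ofNat 0,.ofNat 0,.ofNat 0]], [.ofNat 0,.ofNat 4,.ofNat 0,.ofNat 0,.ofNat 0,.ofNat 0,.ofNat 0,.ofNat 0,.negSucc 1,.ofNat 0,.negSucc 1,.ofNat 0,.ofNat 2,.ofNat 0,.ofNat 2,.ofNat 0,.ofNat 2,.negSucc 1,.ofNat 2,.negSucc 1,.ofNat 2,.negSucc 1,.negSucc 1,.ofNat 2]⟩,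
  ⟨(0, 166), [[.ofNat 8,.ofNat 16,.ofNat 0,.ofNat 0,.ofNat 0,.ofNat 0,.ofNat 0,.ofNat 0,.ofNat 4,.ofNat 4,.ofNat 4,.ofNat 4,.negSucc 3,.negSucc 3,.negSucc 3,.negSucc 3,.ofNat 0,.ofNat 4,.ofNat 0,.ofNat 4,.ofNat 0,.ofNat 4,.ofNat 0,.negSucc 3], [.ofNat 4,.ofNat 4,.ofNat 4,.ofNat 8,.negSucc 7,.negSucc 11,.ofNat 0,.ofNat 0,.negSucc 3,.negSucc 3,.ofNat 4,.ofNat 8,.ofNat 0,.negSucc 3,.ofNat 0,.ofNat 0,.ofNat 4,.ofNat 0,.ofNat 4,.ofNat 4,.ofNat 0,.ofNat 0,.ofNat 0,.ofNat 4], [.negSucc 7,.negSucc 11,.ofNat 4,.ofNat 4,.negSucc 3,.negSucc 7,.ofNat 0,.ofNat 0,.negSucc 3,.negSucc 7,.ofNat 0,.ofNat 0,.ofNat 0,.ofNat 4,.ofNat 4,.ofNat 4,.negSucc 3,.ofNat 0,.ofNat 0,.ofNat 0,.ofNat 0,.negSucc 3,.ofNat 4,.ofNat 4], [.negSucc 7,.negSucc 11,.negSucc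 3,.negSucc 3,.ofNat 4,.ofNat 8,.ofNat 0,.ofNat 0,.ofNat 0,.ofNat 0,.negSucc 3,.negSucc 7,.ofNat 4,.ofNat 4,.ofNat 0,.ofNat 4,.ofNat 0,.negSucc 3,.negSucc 3,.negSucc 3,.negSucc 3,.ofNat 0,.ofNat 0,.ofNat 0]], [.ofNat 0,.ofNat 4,.ofNat 0,.ofNat 0,.ofNat 0,.ofNat 0,.ofNat 0,.ofNat 0,.ofNat 2,.ofNat 0,.ofNat 2,.ofNat 0,.negSucc 1,.ofNat 0,.negSucc 1,.ofNat 0,.negSucc 1,.ofNat 2,.negSucc 1,.ofNat 2,.negSucc 1,.ofNat 2,.ofNat 2,.negSucc 1]⟩,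
  ⟨(0, 167), [[.ofNat 8,.ofNat 16,.ofNat 0,.ofNat 0,.ofNat 0,.ofNat 0,.ofNat 0,.ofNat 0,.ofNat 4,.ofNat 4,.ofNat 4,.ofNat 4,.negSucc 3,.negSucc 3,.negSucc 3,.negSucc 3,.ofNat 0,.negSucc 3,.ofNat 0,.negSucc 3,.ofNat 0,.negSucc 3,.ofNat 0,.ofNat 4], [.ofNat 4,.ofNat 4,.ofNat 4,.ofNat 8,.negSucc 7,.negSucc 11,.ofNat 0,.ofNat 0,.negSucc 3,.negSucc 3,.ofNat 4,.ofNat 8,.ofNat 0,.negSucc 3,.ofNat 0,.ofNat 0,.negSucc 3,.ofNat 0,.negSucc 3,.negSucc 3,.ofNat 0,.ofNat 0,.ofNat 0,.negSucc 3], [.negSucc 7,.negSucc 11,.ofNat 4,.ofNat 4,.negSucc 3,.negSucc 7,.ofNat 0,.ofNat 0,.negSucc 3,.negSucc 7,.ofNat 0,.ofNat 0,.ofNat 0,.ofNat 4,.ofNat 4,.ofNat 4,.ofNat 4,.ofNat 0,.ofNat 0,.ofNat 0,.ofNat 0,.ofNat 4,.negSucc 3,.negSucc 3], [.negSucc 7,.negSucc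 11,.negSucc 3,.negSucc 3,.ofNat 4,.ofNat 8,.ofNat 0,.ofNat 0,.ofNat 0,.ofNat 0,.negSucc 3,.negSucc 7,.ofNat 4,.ofNat 4,.ofNat 0,.ofNat 4,.ofNat 0,.ofNat 4,.ofNat 4,.ofNat 4,.ofNat 4,.ofNat 0,.ofNat 0,.ofNat 0]], [.ofNat 0,.ofNat 4,.ofNat 0,.ofNat 0,.ofNat 0,.ofNat 0,.ofNat 0,.ofNat 0,.ofNat 2,.ofNat 0,.ofNat 2,.ofNat 0,.negSucc 1,.ofNat 0,.negSucc 1,.ofNat 0,.ofNat 2,.negSucc 1,.ofNat 2,.negSucc 1,.ofNat 2,.negSucc 1,.negSucc 1,.ofNat 2]⟩,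
  ⟨(0, 168), [[.ofNat 8,.ofNat 16,.ofNat 0,.ofNat 0,.ofNat 0,.ofNat 0,.ofNat 0,.ofNat 0,.negSucc 3,.negSucc 3,.ofNat 4,.ofNat 4,.negSucc 3,.negSucc 3,.ofNat 4,.ofNat 4,.ofNat 0,.ofNat 4,.ofNat 0,.negSucc 3,.ofNat 0,.ofNat 4,.ofNat 0,.ofNat 4], [.ofNat 4,.ofNat 4,.ofNat 4,.ofNat 8,.negSucc 7,.negSucc 11,.ofNat 0,.ofNat 0,.negSucc 3,.negSucc 7,.negSucc 3,.negSucc 3,.ofNat 0,.ofNat 0,.ofNat 0,.ofNat 4,.ofNat 4,.ofNat 4,.negSucc 3,.ofNat 0,.ofNat 0,.negSucc 3,.ofNat 0,.ofNat 0], [.negSucc 7,.negSucc 11,.ofNat 4,.ofNat 4,.negSucc 3,.negSucc 7,.ofNat 0,.ofNat 0,.ofNat 0,.ofNat 0,.negSucc 3,.negSucc 7,.ofNat 4,.ofNat 4,.ofNat 0,.negSucc 3,.ofNat 0,.ofNat 0,.ofNat 4,.ofNat 0,.negSucc 3,.negSucc 3,.ofNat 0,.negSucc 3], [.negSucc 7,.negSucc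 11,.negSucc 3,.negSucc 3,.ofNat 4,.ofNat 8,.ofNat 0,.ofNat 0,.ofNat 4,.ofNat 8,.ofNat 0,.ofNat 0,.ofNat 0,.ofNat 4,.negSucc 3,.negSucc 3,.negSucc 3,.negSucc 3,.ofNat 0,.ofNat 4,.ofNat 0,.ofNat 0,.negSucc 3,.ofNat 0]], [.ofNat 0,.ofNat 4,.ofNat 0,.ofNat 0,.ofNat 0,.ofNat 0,.ofNat 0,.ofNat 0,.negSucc 1,.ofNat 0,.ofNat 2,.ofNat 0,.negSucc 1,.ofNat 0,.ofNat 2,.ofNat 0,.negSucc 1,.ofNat 2,.ofNat 2,.negSucc 1,.negSucc 1,.ofNat 2,.negSucc 1,.ofNat 2]⟩,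
  ⟨(0, 169), [[.ofNat 8,.ofNat 16,.ofNat 0,.ofNat 0,.ofNat 0,.ofNat 0,.ofNat 0,.ofNat 0,.negSucc 3,.negSucc 3,.ofNat 4,.ofNat 4,.negSucc 3,.negSucc 3,.ofNat 4,.ofNat 4,.ofNat 0,.negSucc 3,.ofNat 0,.ofNat 4,.ofNat 0,.negSucc 3,.ofNat 0,.negSucc 3], [.ofNat 4,.ofNat 4,.ofNat 4,.ofNat 8,.negSucc 7,.negSucc 11,.ofNat 0,.ofNat 0,.negSucc 3,.negSucc 7,.negSucc 3,.negSucc 3,.ofNat 0,.ofNat 0,.ofNat 0,.ofNat 4,.negSucc 3,.negSucc 3,.ofNat 4,.ofNat 0,.ofNat 0,.ofNat 4,.ofNat 0,.ofNat 0], [.negSucc 7,.negSucc 11,.ofNat 4,.ofNat 4,.negSucc 3,.negSucc 7,.ofNat 0,.ofNat 0,.ofNat 0,.ofNat 0,.negSucc 3,.negSucc 7,.ofNat 4,.ofNat 4,.ofNat 0,.negSucc 3,.ofNat 0,.ofNat 0,.negSucc 3,.ofNat 0,.ofNat 4,.ofNat 4,.ofNat 0,.ofNat 4], [.negSucc 7,.negSucc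 11,.negSucc 3,.negSucc 3,.ofNat 4,.ofNat 8,.ofNat 0,.ofNat 0,.ofNat 4,.ofNat 8,.ofNat 0,.ofNat 0,.ofNat 0,.ofNat 4,.negSucc 3,.negSucc 3,.ofNat 4,.ofNat 4,.ofNat 0,.negSucc 3,.ofNat 0,.ofNat 0,.ofNat 4,.ofNat 0]], [.ofNat 0,.ofNat 4,.ofNat 0,.ofNat 0,.ofNat 0,.ofNat 0,.ofNat 0,.ofNat 0,.negSucc 1,.ofNat 0,.ofNat 2,.ofNat 0,.negSucc 1,.ofNat 0,.ofNat 2,.ofNat 0,.ofNat 2,.negSucc 1,.negSucc 1,.ofNat 2,.ofNat 2,.negSucc 1,.ofNat 2,.negSucc 1]⟩,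
  ⟨(0, 170), [[.ofNat 8,.ofNat 16,.ofNat 0,.ofNat 0,.ofNat 0,.ofNat 0,.ofNat 0,.ofNat 0,.ofNat 4,.ofNat 4,.negSucc 3,.negSucc 3,.ofNat 4,.ofNat 4,.negSucc 3,.negSucc 3,.ofNat 0,.ofNat 4,.ofNat 0,.negSucc 3,.ofNat 0,.ofNat 4,.ofNat 0,.ofNat 4], [.ofNat 4,.ofNat 4,.ofNat 4,.ofNat 8,.negSucc 7,.negSucc 11,.ofNat 0,.ofNat 0,.ofNat 4,.ofNat 8,.ofNat 4,.ofNat 4,.ofNat 0,.ofNat 0,.ofNat 0,.negSucc 3,.ofNat 4,.ofNat 4,.negSucc 3,.ofNat 0,.ofNat 0,.negSucc 3,.ofNat 0,.ofNat 0], [.negSucc 7,.negSucc 11,.ofNat 4,.ofNat 4,.negSucc 3,.negSucc 7,.ofNat 0,.ofNat 0,.ofNat 0,.ofNat 0,.ofNat 4,.ofNat 8,.negSucc 3,.negSucc 3,.ofNat 0,.ofNat 4,.ofNat 0,.ofNat 0,.ofNat 4,.ofNat 0,.negSucc 3,.negSucc 3,.ofNat 0,.negSucc 3], [.negSucc 7,.negSucc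 11,.negSucc 3,.negSucc 3,.ofNat 4,.ofNat 8,.ofNat 0,.ofNat 0,.negSucc 3,.negSucc 7,.ofNat 0,.ofNat 0,.ofNat 0,.negSucc 3,.ofNat 4,.ofNat 4,.negSucc 3,.negSucc 3,.ofNat 0,.ofNat 4,.ofNat 0,.ofNat 0,.negSucc 3,.ofNat 0]], [.ofNat 0,.ofNat 4,.ofNat 0,.ofNat 0,.ofNat 0,.ofNat 0,.ofNat 0,.ofNat 0,.ofNat 2,.ofNat 0,.negSucc 1,.ofNat 0,.ofNat 2,.ofNat 0,.negSucc 1,.ofNat 0,.negSucc 1,.ofNat 2,.ofNat 2,.negSucc 1,.negSucc 1,.ofNat 2,.negSucc 1,.ofNat 2]⟩,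
  ⟨(0, 171), [[.ofNat 8,.ofNat 16,.ofNat 0,.ofNat 0,.ofNat 0,.ofNat 0,.ofNat 0,.ofNat 0,.ofNat 4,.ofNat 4,.negSucc 3,.negSucc 3,.ofNat 4,.ofNat 4,.negSucc 3,.negSucc 3,.ofNat 0,.negSucc 3,.ofNat 0,.ofNat 4,.ofNat 0,.negSucc 3,.ofNat 0,.negSucc 3], [.ofNat 4,.ofNat 4,.ofNat 4,.ofNat 8,.negSucc 7,.negSucc 11,.ofNat 0,.ofNat 0,.ofNat 4,.ofNat 8,.ofNat 4,.ofNat 4,.ofNat 0,.ofNat 0,.ofNat 0,.negSucc 3,.negSucc 3,.negSucc 3,.ofNat 4,.ofNat 0,.ofNat 0,.ofNat 4,.ofNat 0,.ofNat 0], [.negSucc 7,.negSucc 11,.ofNat 4,.ofNat 4,.negSucc 3,.negSucc 7,.ofNat 0,.ofNat 0,.ofNat 0,.ofNat 0,.ofNat 4,.ofNat 8,.negSucc 3,.negSucc 3,.ofNat 0,.ofNat 4,.ofNat 0,.ofNat 0,.negSucc 3,.ofNat 0,.ofNat 4,.ofNat 4,.ofNat 0,.ofNat 4], [.negSucc 7,.negSucc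 11,.negSucc 3,.negSucc 3,.ofNat 4,.ofNat 8,.ofNat 0,.ofNat 0,.negSucc 3,.negSucc 7,.ofNat 0,.ofNat 0,.ofNat 0,.negSucc 3,.ofNat 4,.ofNat 4,.ofNat 4,.ofNat 4,.ofNat 0,.negSucc 3,.ofNat 0,.ofNat 0,.ofNat 4,.ofNat 0]], [.ofNat 0,.ofNat 4,.ofNat 0,.ofNat 0,.ofNat 0,.ofNat 0,.ofNat 0,.ofNat 0,.ofNat 2,.ofNat 0,.negSucc 1,.ofNat 0,.ofNat 2,.ofNat 0,.negSucc 1,.ofNat 0,.ofNat 2,.negSucc 1,.negSucc 1,.ofNat 2,.ofNat 2,.negSucc 1,.ofNat 2,.negSucc 1]⟩,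
  ⟨(0, 172), [[.ofNat 8,.ofNat 16,.ofNat 0,.ofNat 0,.ofNat 0,.ofNat 0,.ofNat 0,.ofNat 0,.negSucc 3,.negSucc 3,.ofNat 4,.ofNat 4,.ofNat 4,.ofNat 4,.negSucc 3,.negSucc 3,.ofNat 0,.ofNat 4,.ofNat 0,.ofNat 4,.ofNat 0,.negSucc 3,.ofNat 0,.ofNat 4], [.ofNat 4,.ofNat 4,.ofNat 4,.ofNat 8,.negSucc 7,.negSucc 11,.ofNat 0,.ofNat 0,.ofNat 0,.ofNat 0,.ofNat 0,.ofNat 4,.ofNat 4,.ofNat 8,.ofNat 4,.ofNat 4,.ofNat 0,.negSucc 3,.ofNat 0,.ofNat 0,.negSucc 3,.negSucc 3,.ofNat 4,.ofNat 0], [.negSucc 7,.negSucc 11,.ofNat 4,.ofNat 4,.negSucc 3,.negSucc 7,.ofNat 0,.ofNat 0,.ofNat 4,.ofNat 4,.ofNat 0,.negSucc 3,.ofNat 0,.ofNat 0,.ofNat 4,.ofNat 8,.negSucc 3,.negSucc 3,.ofNat 0,.negSucc 3,.ofNat 0,.ofNat 0,.negSucc 3,.ofNat 0], [.negSucc 7,.negSucc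 11,.negSucc 3,.negSucc 3,.ofNat 4,.ofNat 8,.ofNat 0,.ofNat 0,.ofNat 0,.ofNat 4,.negSucc 3,.negSucc 3,.negSucc 3,.negSucc 7,.ofNat 0,.ofNat 0,.ofNat 0,.ofNat 0,.negSucc 3,.ofNat 0,.ofNat 4,.ofNat 4,.ofNat 0,.negSucc 3]], [.ofNat 0,.ofNat 4,.ofNat 0,.ofNat 0,.ofNat 0,.ofNat 0,.ofNat 0,.ofNat 0,.negSucc 1,.ofNat 0,.ofNat 2,.ofNat 0,.ofNat 2,.ofNat 0,.negSucc 1,.ofNat 0,.negSucc 1,.ofNat 2,.negSucc 1,.ofNat 2,.ofNat 2,.negSucc 1,.negSucc 1,.ofNat 2]⟩,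
  ⟨(0, 173), [[.ofNat 8,.ofNat 16,.ofNat 0,.ofNat 0,.ofNat 0,.ofNat 0,.ofNat 0,.ofNat 0,.negSucc 3,.negSucc 3,.ofNat 4,.ofNat 4,.ofNat 4,.ofNat 4,.negSucc 3,.negSucc 3,.ofNat 0,.negSucc 3,.ofNat 0,.negSucc 3,.ofNat 0,.ofNat 4,.ofNat 0,.negSucc 3], [.ofNat 4,.ofNat 4,.ofNat 4,.ofNat 8,.negSucc 7,.negSucc 11,.ofNat 0,.ofNat 0,.ofNat 0,.ofNat 0,.ofNat 0,.ofNat 4,.ofNat 4,.ofNat 8,.ofNat 4,.ofNat 4,.ofNat 0,.ofNat 4,.ofNat 0,.ofNat 0,.ofNat 4,.ofNat 4,.negSucc 3,.ofNat 0], [.negSucc 7,.negSucc 11,.ofNat 4,.ofNat 4,.negSucc 3,.negSucc 7,.ofNat 0,.ofNat 0,.ofNat 4,.ofNat 4,.ofNat 0,.negSucc 3,.ofNat 0,.ofNat 0,.ofNat 4,.ofNat 8,.ofNat 4,.ofNat 4,.ofNat 0,.ofNat 4,.ofNat 0,.ofNat 0,.ofNat 4,.ofNat 0], [.negSucc 7,.negSucc 11,.negSucc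 3,.negSucc 3,.ofNat 4,.ofNat 8,.ofNat 0,.ofNat 0,.ofNat 0,.ofNat 4,.negSucc 3,.negSucc 3,.negSucc 3,.negSucc 7,.ofNat 0,.ofNat 0,.ofNat 0,.ofNat 0,.ofNat 4,.ofNat 0,.negSucc 3,.negSucc 3,.ofNat 0,.ofNat 4]], [.ofNat 0,.ofNat 4,.ofNat 0,.ofNat 0,.ofNat 0,.ofNat 0,.ofNat 0,.ofNat 0,.negSucc 1,.ofNat 0,.ofNat 2,.ofNat 0,.ofNat 2,.ofNat 0,.negSucc 1,.ofNat 0,.ofNat 2,.negSucc 1,.ofNat 2,.negSucc 1,.negSucc 1,.ofNat 2,.ofNat 2,.negSucc 1]⟩,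
  ⟨(0, 174), [[.ofNat 8,.ofNat 16,.ofNat 0,.ofNat 0,.ofNat 0,.ofNat 0,.ofNat 0,.ofNat 0,.ofNat 4,.ofNat 4,.negSucc 3,.negSucc 3,.negSucc 3,.negSucc 3,.ofNat 4,.ofNat 4,.ofNat 0,.ofNat 4,.ofNat 0,.ofNat 4,.ofNat 0,.negSucc 3,.ofNat 0,.ofNat 4], [.ofNat 4,.ofNat 4,.ofNat 4,.ofNat 8,.negSucc 7,.negSucc 11,.ofNat 0,.ofNat 0,.ofNat 0,.ofNat 0,.ofNat 0,.negSucc 3,.negSucc 3,.negSucc 7,.negSucc 3,.negSucc 3,.ofNat 0,.negSucc 3,.ofNat 0,.ofNat 0,.negSucc 3,.negSucc 3,.ofNat 4,.ofNat 0], [.negSucc 7,.negSucc 11,.ofNat 4,.ofNat 4,.negSucc 3,.negSucc 7,.ofNat 0,.ofNat 0,.negSucc 3,.negSucc 3,.ofNat 0,.ofNat 4,.ofNat 0,.ofNat 0,.negSucc 3,.negSucc 7,.negSucc 3,.negSucc 3,.ofNat 0,.negSucc 3,.ofNat 0,.ofNat 0,.negSucc 3,.ofNat 0], [.negSucc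 7,.negSucc 11,.negSucc 3,.negSucc 3,.ofNat 4,.ofNat 8,.ofNat 0,.ofNat 0,.ofNat 0,.negSucc 3,.ofNat 4,.ofNat 4,.ofNat 4,.ofNat 8,.ofNat 0,.ofNat 0,.ofNat 0,.ofNat 0,.negSucc 3,.ofNat 0,.ofNat 4,.ofNat 4,.ofNat 0,.negSucc 3]], [.ofNat 0,.ofNat 4,.ofNat 0,.ofNat 0,.ofNat 0,.ofNat 0,.ofNat 0,.ofNat 0,.ofNat 2,.ofNat 0,.negSucc 1,.ofNat 0,.negSucc 1,.ofNat 0,.ofNat 2,.ofNat 0,.negSucc 1,.ofNat 2,.negSucc 1,.ofNat 2,.ofNat 2,.negSucc 1,.negSucc 1,.ofNat 2]⟩,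
  ⟨(0, 175), [[.ofNat 8,.ofNat 16,.ofNat 0,.ofNat 0,.ofNat 0,.ofNat 0,.ofNat 0,.ofNat 0,.ofNat 4,.ofNat 4,.negSucc 3,.negSucc 3,.negSucc 3,.negSucc 3,.ofNat 4,.ofNat 4,.ofNat 0,.negSucc 3,.ofNat 0,.negSucc 3,.ofNat 0,.ofNat 4,.ofNat 0,.negSucc 3], [.ofNat 4,.ofNat 4,.ofNat 4,.ofNat 8,.negSucc 7,.negSucc 11,.ofNat 0,.ofNat 0,.ofNat 0,.ofNat 0,.ofNat 0,.negSucc 3,.negSucc 3,.negSucc 7,.negSucc 3,.negSucc 3,.ofNat 0,.ofNat 4,.ofNat 0,.ofNat 0,.ofNat 4,.ofNat 4,.negSucc 3,.ofNat 0], [.negSucc 7,.negSucc 11,.ofNat 4,.ofNat 4,.negSucc 3,.negSucc 7,.ofNat 0,.ofNat 0,.negSucc 3,.negSucc 3,.ofNat 0,.ofNat 4,.ofNat 0,.ofNat 0,.negSucc 3,.negSucc 7,.ofNat 4,.ofNat 4,.ofNat 0,.ofNat 4,.ofNat 0,.ofNat 0,.ofNat 4,.ofNat 0], [.negSucc 7,.negSucc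 11,.negSucc 3,.negSucc 3,.ofNat 4,.ofNat 8,.ofNat 0,.ofNat 0,.ofNat 0,.negSucc 3,.ofNat 4,.ofNat 4,.ofNat 4,.ofNat 8,.ofNat 0,.ofNat 0,.ofNat 0,.ofNat 0,.ofNat 4,.ofNat 0,.negSucc 3,.negSucc 3,.ofNat 0,.ofNat 4]], [.ofNat 0,.ofNat 4,.ofNat 0,.ofNat 0,.ofNat 0,.ofNat 0,.ofNat 0,.ofNat 0,.ofNat 2,.ofNat 0,.negSucc 1,.ofNat 0,.negSucc 1,.ofNat 0,.ofNat 2,.ofNat 0,.ofNat 2,.negSucc 1,.ofNat 2,.negSucc 1,.negSucc 1,.ofNat 2,.ofNat 2,.negSucc 1]⟩,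
  ⟨(0, 176), [[.ofNat 8,.ofNat 16,.ofNat 0,.ofNat 0,.ofNat 0,.ofNat 0,.ofNat 0,.ofNat 0,.ofNat 0,.ofNat 4,.ofNat 0,.ofNat 4,.ofNat 0,.ofNat 4,.ofNat 0,.negSucc 3,.negSucc 3,.negSucc 3,.negSucc 3,.negSucc 3,.ofNat 4,.ofNat 4,.ofNat 4,.ofNat 4], [.ofNat 4,.ofNat 4,.ofNat 4,.ofNat 8,.negSucc 7,.negSucc 11,.ofNat 0,.ofNat 0,.ofNat 4,.ofNat 0,.ofNat 4,.ofNat 4,.ofNat 0,.ofNat 0,.ofNat 0,.ofNat 4,.ofNat 4,.ofNat 4,.negSucc 3,.negSucc 7,.ofNat 0,.ofNat 4,.ofNat 0,.ofNat 0], [.negSucc 7,.negSucc 11,.ofNat 4,.ofNat 4,.negSucc 3,.negSucc 7,.ofNat 0,.ofNat 0,.negSucc 3,.ofNat 0,.ofNat 0,.ofNat 0,.ofNat 0,.negSucc 3,.ofNat 4,.ofNat 4,.ofNat 4,.ofNat 8,.ofNat 0,.ofNat 0,.ofNat 0,.negSucc 3,.negSucc 3,.negSucc 3], [.negSucc 7,.negSucc 11,.negSucc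 3,.negSucc 3,.ofNat 4,.ofNat 8,.ofNat 0,.ofNat 0,.ofNat 0,.negSucc 3,.negSucc 3,.negSucc 3,.negSucc 3,.ofNat 0,.ofNat 0,.ofNat 0,.ofNat 0,.ofNat 0,.ofNat 4,.ofNat 8,.negSucc 3,.negSucc 3,.ofNat 0,.negSucc 3]], [.ofNat 0,.ofNat 4,.ofNat 0,.ofNat 0,.ofNat 0,.ofNat 0,.ofNat 0,.ofNat 0,.negSucc 1,.ofNat 2,.negSucc 1,.ofNat 2,.negSucc 1,.ofNat 2,.ofNat 2,.negSucc 1,.negSucc 1,.ofNat 0,.negSucc 1,.ofNat 0,.ofNat 2,.ofNat 0,.ofNat 2,.ofNat 0]⟩,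
  ⟨(0, 177), [[.ofNat 8,.ofNat 16,.ofNat 0,.ofNat 0,.ofNat 0,.ofNat 0,.ofNat 0,.ofNat 0,.ofNat 0,.ofNat 4,.ofNat 0,.ofNat 4,.ofNat 0,.ofNat 4,.ofNat 0,.negSucc 3,.ofNat 4,.ofNat 4,.ofNat 4,.ofNat 4,.negSucc 3,.negSucc 3,.negSucc 3,.negSucc 3], [.ofNat 4,.ofNat 4,.ofNat 4,.ofNat 8,.negSucc 7,.negSucc 11,.ofNat 0,.ofNat 0,.ofNat 4,.ofNat 0,.ofNat 4,.ofNat 4,.ofNat 0,.ofNat 0,.ofNat 0,.ofNat 4,.negSucc 3,.negSucc 3,.ofNat 4,.ofNat 8,.ofNat 0,.negSucc 3,.ofNat 0,.ofNat 0], [.negSucc 7,.negSucc 11,.ofNat 4,.ofNat 4,.negSucc 3,.negSucc 7,.ofNat 0,.ofNat 0,.negSucc 3,.ofNat 0,.ofNat 0,.ofNat 0,.ofNat 0,.negSucc 3,.ofNat 4,.ofNat 4,.negSucc 3,.negSucc 7,.ofNat 0,.ofNat 0,.ofNat 0,.ofNat 4,.ofNat 4,.ofNat 4], [.negSucc 7,.negSucc 11,.negSucc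 3,.negSucc 3,.ofNat 4,.ofNat 8,.ofNat 0,.ofNat 0,.ofNat 0,.negSucc 3,.negSucc 3,.negSucc 3,.negSucc 3,.ofNat 0,.ofNat 0,.ofNat 0,.ofNat 0,.ofNat 0,.negSucc 3,.negSucc 7,.ofNat 4,.ofNat 4,.ofNat 0,.ofNat 4]], [.ofNat 0,.ofNat 4,.ofNat 0,.ofNat 0,.ofNat 0,.ofNat 0,.ofNat 0,.ofNat 0,.negSucc 1,.ofNat 2,.negSucc 1,.ofNat 2,.negSucc 1,.ofNat 2,.ofNat 2,.negSucc 1,.ofNat 2,.ofNat 0,.ofNat 2,.ofNat 0,.negSucc 1,.ofNat 0,.negSucc 1,.ofNat 0]⟩,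
  ⟨(0, 178), [[.ofNat 8,.ofNat 16,.ofNat 0,.ofNat 0,.ofNat 0,.ofNat 0,.ofNat 0,.ofNat 0,.ofNat 0,.negSucc 3,.ofNat 0,.negSucc 3,.ofNat 0,.negSucc 3,.ofNat 0,.ofNat 4,.negSucc 3,.negSucc 3,.negSucc 3,.negSucc 3,.ofNat 4,.ofNat 4,.ofNat 4,.ofNat 4], [.ofNat 4,.ofNat 4,.ofNat 4,.ofNat 8,.negSucc 7,.negSucc 11,.ofNat 0,.ofNat 0,.negSucc 3,.ofNat 0,.negSucc 3,.negSucc 3,.ofNat 0,.ofNat 0,.ofNat 0,.negSucc 3,.ofNat 4,.ofNat 4,.negSucc 3,.negSucc 7,.ofNat 0,.ofNat 4,.ofNat 0,.ofNat 0], [.negSucc 7,.negSucc 11,.ofNat 4,.ofNat 4,.negSucc 3,.negSucc 7,.ofNat 0,.ofNat 0,.ofNat 4,.ofNat 0,.ofNat 0,.ofNat 0,.ofNat 0,.ofNat 4,.negSucc 3,.negSucc 3,.ofNat 4,.ofNat 8,.ofNat 0,.ofNat 0,.ofNat 0,.negSucc 3,.negSucc 3,.negSucc 3], [.negSucc 7,.negSucc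 11,.negSucc 3,.negSucc 3,.ofNat 4,.ofNat 8,.ofNat 0,.ofNat 0,.ofNat 0,.ofNat 4,.ofNat 4,.ofNat 4,.ofNat 4,.ofNat 0,.ofNat 0,.ofNat 0,.ofNat 0,.ofNat 0,.ofNat 4,.ofNat 8,.negSucc 3,.negSucc 3,.ofNat 0,.negSucc 3]], [.ofNat 0,.ofNat 4,.ofNat 0,.ofNat 0,.ofNat 0,.ofNat 0,.ofNat 0,.ofNat 0,.ofNat 2,.negSucc 1,.ofNat 2,.negSucc 1,.ofNat 2,.negSucc 1,.negSucc 1,.ofNat 2,.negSucc 1,.ofNat 0,.negSucc 1,.ofNat 0,.ofNat 2,.ofNat 0,.ofNat 2,.ofNat 0]⟩,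
  ⟨(0, 179), [[.ofNat 8,.ofNat 16,.ofNat 0,.ofNat 0,.ofNat 0,.ofNat 0,.ofNat 0,.ofNat 0,.ofNat 0,.negSucc 3,.ofNat 0,.negSucc 3,.ofNat 0,.negSucc 3,.ofNat 0,.ofNat 4,.ofNat 4,.ofNat 4,.ofNat 4,.ofNat 4,.negSucc 3,.negSucc 3,.negSucc 3,.negSucc 3], [.ofNat 4,.ofNat 4,.ofNat 4,.ofNat 8,.negSucc 7,.negSucc 11,.ofNat 0,.ofNat 0,.negSucc 3,.ofNat 0,.negSucc 3,.negSucc 3,.ofNat 0,.ofNat 0,.ofNat 0,.negSucc 3,.negSucc 3,.negSucc 3,.ofNat 4,.ofNat 8,.ofNat 0,.negSucc 3,.ofNat 0,.ofNat 0], [.negSucc 7,.negSucc 11,.ofNat 4,.ofNat 4,.negSucc 3,.negSucc 7,.ofNat 0,.ofNat 0,.ofNat 4,.ofNat 0,.ofNat 0,.ofNat 0,.ofNat 0,.ofNat 4,.negSucc 3,.negSucc 3,.negSucc 3,.negSucc 7,.ofNat 0,.ofNat 0,.ofNat 0,.ofNat 4,.ofNat 4,.ofNat 4], [.negSucc 7,.negSucc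 11,.negSucc 3,.negSucc 3,.ofNat 4,.ofNat 8,.ofNat 0,.ofNat 0,.ofNat 0,.ofNat 4,.ofNat 4,.ofNat 4,.ofNat 4,.ofNat 0,.ofNat 0,.ofNat 0,.ofNat 0,.ofNat 0,.negSucc 3,.negSucc 7,.ofNat 4,.ofNat 4,.ofNat 0,.ofNat 4]], [.ofNat 0,.ofNat 4,.ofNat 0,.ofNat 0,.ofNat 0,.ofNat 0,.ofNat 0,.ofNat 0,.ofNat 2,.negSucc 1,.ofNat 2,.negSucc 1,.ofNat 2,.negSucc 1,.negSucc 1,.ofNat 2,.ofNat 2,.ofNat 0,.ofNat 2,.ofNat 0,.negSucc 1,.ofNat 0,.negSucc 1,.ofNat 0]⟩,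
  ⟨(0, 180), [[.ofNat 8,.ofNat 16,.ofNat 0,.ofNat 0,.ofNat 0,.ofNat 0,.ofNat 0,.ofNat 0,.ofNat 0,.ofNat 4,.ofNat 0,.ofNat 4,.ofNat 0,.negSucc 3,.ofNat 0,.ofNat 4,.negSucc 3,.negSucc 3,.ofNat 4,.ofNat 4,.ofNat 4,.ofNat 4,.negSucc 3,.negSucc 3], [.ofNat 4,.ofNat 4,.ofNat 4,.ofNat 8,.negSucc 7,.negSucc 11,.ofNat 0,.ofNat 0,.ofNat 0,.negSucc 3,.ofNat 0,.ofNat 0,.negSucc 3,.negSucc 3,.ofNat 4,.ofNat 0,.ofNat 0,.ofNat 0,.ofNat 0,.ofNat 4,.ofNat 4,.ofNat 8,.ofNat 4,.ofNat 4], [.negSucc 7,.negSucc 11,.ofNat 4,.ofNat 4,.negSucc 3,.negSucc 7,.ofNat 0,.ofNat 0,.negSucc 3,.negSucc 3,.ofNat 0,.negSucc 3,.ofNat 0,.ofNat 0,.negSucc 3,.ofNat 0,.ofNat 4,.ofNat 4,.ofNat 0,.negSucc 3,.ofNat 0,.ofNat 0,.ofNat 4,.ofNat 8], [.negSucc 7,.negSucc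 11,.negSucc 3,.negSucc 3,.ofNat 4,.ofNat 8,.ofNat 0,.ofNat 0,.ofNat 0,.ofNat 0,.negSucc 3,.ofNat 0,.ofNat 4,.ofNat 4,.ofNat 0,.negSucc 3,.ofNat 0,.ofNat 4,.negSucc 3,.negSucc 3,.negSucc 3,.negSucc 7,.ofNat 0,.ofNat 0]], [.ofNat 0,.ofNat 4,.ofNat 0,.ofNat 0,.ofNat 0,.ofNat 0,.ofNat 0,.ofNat 0,.negSucc 1,.ofNat 2,.negSucc 1,.ofNat 2,.ofNat 2,.negSucc 1,.negSucc 1,.ofNat 2,.negSucc 1,.ofNat 0,.ofNat 2,.ofNat 0,.ofNat 2,.ofNat 0,.negSucc 1,.ofNat 0]⟩,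
  ⟨(0, 181), [[.ofNat 8,.ofNat 16,.ofNat 0,.ofNat 0,.ofNat 0,.ofNat 0,.ofNat 0,.ofNat 0,.ofNat 0,.ofNat 4,.ofNat 0,.ofNat 4,.ofNat 0,.negSucc 3,.ofNat 0,.ofNat 4,.ofNat 4,.ofNat 4,.negSucc 3,.negSucc 3,.negSucc 3,.negSucc 3,.ofNat 4,.ofNat 4], [.ofNat 4,.ofNat 4,.ofNat 4,.ofNat 8,.negSucc 7,.negSucc 11,.ofNat 0,.ofNat 0,.ofNat 0,.negSucc 3,.ofNat 0,.ofNat 0,.negSucc 3,.negSucc 3,.ofNat 4,.ofNat 0,.ofNat 0,.ofNat 0,.ofNat 0,.negSucc 3,.negSucc 3,.negSucc 7,.negSucc 3,.negSucc 3], [.negSucc 7,.negSucc 11,.ofNat 4,.ofNat 4,.negSucc 3,.negSucc 7,.ofNat 0,.ofNat 0,.negSucc 3,.negSucc 3,.ofNat 0,.negSucc 3,.ofNat 0,.ofNat 0,.negSucc 3,.ofNat 0,.negSucc 3,.negSucc 3,.ofNat 0,.ofNat 4,.ofNat 0,.ofNat 0,.negSucc 3,.negSucc 7], [.negSucc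 7,.negSucc 11,.negSucc 3,.negSucc 3,.ofNat 4,.ofNat 8,.ofNat 0,.ofNat 0,.ofNat 0,.ofNat 0,.negSucc 3,.ofNat 0,.ofNat 4,.ofNat 4,.ofNat 0,.negSucc 3,.ofNat 0,.negSucc 3,.ofNat 4,.ofNat 4,.ofNat 4,.ofNat 8,.ofNat 0,.ofNat 0]], [.ofNat 0,.ofNat 4,.ofNat 0,.ofNat 0,.ofNat 0,.ofNat 0,.ofNat 0,.ofNat 0,.negSucc 1,.ofNat 2,.negSucc 1,.ofNat 2,.ofNat 2,.negSucc 1,.negSucc 1,.ofNat 2,.ofNat 2,.ofNat 0,.negSucc 1,.ofNat 0,.negSucc 1,.ofNat 0,.ofNat 2,.ofNat 0]⟩,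
  ⟨(0, 182), [[.ofNat 8,.ofNat 16,.ofNat 0,.ofNat 0,.ofNat 0,.ofNat 0,.ofNat 0,.ofNat 0,.ofNat 0,.negSucc 3,.ofNat 0,.negSucc 3,.ofNat 0,.ofNat 4,.ofNat 0,.negSucc 3,.negSucc 3,.negSucc 3,.ofNat 4,.ofNat 4,.ofNat 4,.ofNat 4,.negSucc 3,.negSucc 3], [.ofNat 4,.ofNat 4,.ofNat 4,.ofNat 8,.negSucc 7,.negSucc 11,.ofNat 0,.ofNat 0,.ofNat 0,.ofNat 4,.ofNat 0,.ofNat 0,.ofNat 4,.ofNat 4,.negSucc 3,.ofNat 0,.ofNat 0,.ofNat 0,.ofNat 0,.ofNat 4,.ofNat 4,.ofNat 8,.ofNat 4,.ofNat 4], [.negSucc 7,.negSucc 11,.ofNat 4,.ofNat 4,.negSucc 3,.negSucc 7,.ofNat 0,.ofNat 0,.ofNat 4,.ofNat 4,.ofNat 0,.ofNat 4,.ofNat 0,.ofNat 0,.ofNat 4,.ofNat 0,.ofNat 4,.ofNat 4,.ofNat 0,.negSucc 3,.ofNat 0,.ofNat 0,.ofNat 4,.ofNat 8], [.negSucc 7,.negSucc 11,.negSucc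 3,.negSucc 3,.ofNat 4,.ofNat 8,.ofNat 0,.ofNat 0,.ofNat 0,.ofNat 0,.ofNat 4,.ofNat 0,.negSucc 3,.negSucc 3,.ofNat 0,.ofNat 4,.ofNat 0,.ofNat 4,.negSucc 3,.negSucc 3,.negSucc 3,.negSucc 7,.ofNat 0,.ofNat 0]], [.ofNat 0,.ofNat 4,.ofNat 0,.ofNat 0,.ofNat 0,.ofNat 0,.ofNat 0,.ofNat 0,.ofNat 2,.negSucc 1,.ofNat 2,.negSucc 1,.negSucc 1,.ofNat 2,.ofNat 2,.negSucc 1,.negSucc 1,.ofNat 0,.ofNat 2,.ofNat 0,.ofNat 2,.ofNat 0,.negSucc 1,.ofNat 0]⟩,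
  ⟨(0, 183), [[.ofNat 8,.ofNat 16,.ofNat 0,.ofNat 0,.ofNat 0,.ofNat 0,.ofNat 0,.ofNat 0,.ofNat 0,.negSucc 3,.ofNat 0,.negSucc 3,.ofNat 0,.ofNat 4,.ofNat 0,.negSucc 3,.ofNat 4,.ofNat 4,.negSucc 3,.negSucc 3,.negSucc 3,.negSucc 3,.ofNat 4,.ofNat 4], [.ofNat 4,.ofNat 4,.ofNat 4,.ofNat 8,.negSucc 7,.negSucc 11,.ofNat 0,.ofNat 0,.ofNat 0,.ofNat 4,.ofNat 0,.ofNat 0,.ofNat 4,.ofNat 4,.negSucc 3,.ofNat 0,.ofNat 0,.ofNat 0,.ofNat 0,.negSucc 3,.negSucc 3,.negSucc 7,.negSucc 3,.negSucc 3], [.negSucc 7,.negSucc 11,.ofNat 4,.ofNat 4,.negSucc 3,.negSucc 7,.ofNat 0,.ofNat 0,.ofNat 4,.ofNat 4,.ofNat 0,.ofNat 4,.ofNat 0,.ofNat 0,.ofNat 4,.ofNat 0,.negSucc 3,.negSucc 3,.ofNat 0,.ofNat 4,.ofNat 0,.ofNat 0,.negSucc 3,.negSucc 7], [.negSucc 7,.negSucc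 11,.negSucc 3,.negSucc 3,.ofNat 4,.ofNat 8,.ofNat 0,.ofNat 0,.ofNat 0,.ofNat 0,.ofNat 4,.ofNat 0,.negSucc 3,.negSucc 3,.ofNat 0,.ofNat 4,.ofNat 0,.negSucc 3,.ofNat 4,.ofNat 4,.ofNat 4,.ofNat 8,.ofNat 0,.ofNat 0]], [.ofNat 0,.ofNat 4,.ofNat 0,.ofNat 0,.ofNat 0,.ofNat 0,.ofNat 0,.ofNat 0,.ofNat 2,.negSucc 1,.ofNat 2,.negSucc 1,.negSucc 1,.ofNat 2,.ofNat 2,.negSucc 1,.ofNat 2,.ofNat 0,.negSucc 1,.ofNat 0,.negSucc 1,.ofNat 0,.ofNat 2,.ofNat 0]⟩,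
  ⟨(0, 184), [[.ofNat 8,.ofNat 16,.ofNat 0,.ofNat 0,.ofNat 0,.ofNat 0,.ofNat 0,.ofNat 0,.ofNat 0,.ofNat 4,.ofNat 0,.negSucc 3,.ofNat 0,.ofNat 4,.ofNat 0,.ofNat 4,.negSucc 3,.negSucc 3,.ofNat 4,.ofNat 4,.negSucc 3,.negSucc 3,.ofNat 4,.ofNat 4], [.ofNat 4,.ofNat 4,.ofNat 4,.ofNat 8,.negSucc 7,.negSucc 11,.ofNat 0,.ofNat 0,.ofNat 4,.ofNat 4,.negSucc 3,.ofNat 0,.ofNat 0,.negSucc 3,.ofNat 0,.ofNat 0,.negSucc 3,.negSucc 7,.negSucc 3,.negSucc 3,.ofNat 0,.ofNat 0,.ofNat 0,.ofNat 4], [.negSucc 7,.negSucc 11,.ofNat 4,.ofNat 4,.negSucc 3,.negSucc 7,.ofNat 0,.ofNat 0,.ofNat 0,.ofNat 0,.ofNat 4,.ofNat 0,.negSucc 3,.negSucc 3,.ofNat 0,.negSucc 3,.ofNat 0,.ofNat 0,.negSucc 3,.negSucc 7,.ofNat 4,.ofNat 4,.ofNat 0,.negSucc 3], [.negSucc 7,.negSucc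 11,.negSucc 3,.negSucc 3,.ofNat 4,.ofNat 8,.ofNat 0,.ofNat 0,.negSucc 3,.negSucc 3,.ofNat 0,.ofNat 4,.ofNat 0,.ofNat 0,.negSucc 3,.ofNat 0,.ofNat 4,.ofNat 8,.ofNat 0,.ofNat 0,.ofNat 0,.ofNat 4,.negSucc 3,.negSucc 3]], [.ofNat 0,.ofNat 4,.ofNat 0,.ofNat 0,.ofNat 0,.ofNat 0,.ofNat 0,.ofNat 0,.negSucc 1,.ofNat 2,.ofNat 2,.negSucc 1,.negSucc 1,.ofNat 2,.negSucc 1,.ofNat 2,.negSucc 1,.ofNat 0,.ofNat 2,.ofNat 0,.negSucc 1,.ofNat 0,.ofNat 2,.ofNat 0]⟩,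
  ⟨(0, 185), [[.ofNat 8,.ofNat 16,.ofNat 0,.ofNat 0,.ofNat 0,.ofNat 0,.ofNat 0,.ofNat 0,.ofNat 0,.ofNat 4,.ofNat 0,.negSucc 3,.ofNat 0,.ofNat 4,.ofNat 0,.ofNat 4,.ofNat 4,.ofNat 4,.negSucc 3,.negSucc 3,.ofNat 4,.ofNat 4,.negSucc 3,.negSucc 3], [.ofNat 4,.ofNat 4,.ofNat 4,.ofNat 8,.negSucc 7,.negSucc 11,.ofNat 0,.ofNat 0,.ofNat 4,.ofNat 4,.negSucc 3,.ofNat 0,.ofNat 0,.negSucc 3,.ofNat 0,.ofNat 0,.ofNat 4,.ofNat 8,.ofNat 4,.ofNat 4,.ofNat 0,.ofNat 0,.ofNat 0,.negSucc 3], [.negSucc 7,.negSucc 11,.ofNat 4,.ofNat 4,.negSucc 3,.negSucc 7,.ofNat 0,.ofNat 0,.ofNat 0,.ofNat 0,.ofNat 4,.ofNat 0,.negSucc 3,.negSucc 3,.ofNat 0,.negSucc 3,.ofNat 0,.ofNat 0,.ofNat 4,.ofNat 8,.negSucc 3,.negSucc 3,.ofNat 0,.ofNat 4], [.negSucc 7,.negSucc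 11,.negSucc 3,.negSucc 3,.ofNat 4,.ofNat 8,.ofNat 0,.ofNat 0,.negSucc 3,.negSucc 3,.ofNat 0,.ofNat 4,.ofNat 0,.ofNat 0,.negSucc 3,.ofNat 0,.negSucc 3,.negSucc 7,.ofNat 0,.ofNat 0,.ofNat 0,.negSucc 3,.ofNat 4,.ofNat 4]], [.ofNat 0,.ofNat 4,.ofNat 0,.ofNat 0,.ofNat 0,.ofNat 0,.ofNat 0,.ofNat 0,.negSucc 1,.ofNat 2,.ofNat 2,.negSucc 1,.negSucc 1,.ofNat 2,.negSucc 1,.ofNat 2,.ofNat 2,.ofNat 0,.negSucc 1,.ofNat 0,.ofNat 2,.ofNat 0,.negSucc 1,.ofNat 0]⟩,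
  ⟨(0, 186), [[.ofNat 8,.ofNat 16,.ofNat 0,.ofNat 0,.ofNat 0,.ofNat 0,.ofNat 0,.ofNat 0,.ofNat 0,.negSucc 3,.ofNat 0,.ofNat 4,.ofNat 0,.negSucc 3,.ofNat 0,.negSucc 3,.negSucc 3,.negSucc 3,.ofNat 4,.ofNat 4,.negSucc 3,.negSucc 3,.ofNat 4,.ofNat 4], [.ofNat 4,.ofNat 4,.ofNat 4,.ofNat 8,.negSucc 7,.negSucc 11,.ofNat 0,.ofNat 0,.negSucc 3,.negSucc 3,.ofNat 4,.ofNat 0,.ofNat 0,.ofNat 4,.ofNat 0,.ofNat 0,.negSucc 3,.negSucc 7,.negSucc 3,.negSucc 3,.ofNat 0,.ofNat 0,.ofNat 0,.ofNat 4], [.negSucc 7,.negSucc 11,.ofNat 4,.ofNat 4,.negSucc 3,.negSucc 7,.ofNat 0,.ofNat 0,.ofNat 0,.ofNat 0,.negSucc 3,.ofNat 0,.ofNat 4,.ofNat 4,.ofNat 0,.ofNat 4,.ofNat 0,.ofNat 0,.negSucc 3,.negSucc 7,.ofNat 4,.ofNat 4,.ofNat 0,.negSucc 3], [.negSucc 7,.negSucc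 11,.negSucc 3,.negSucc 3,.ofNat 4,.ofNat 8,.ofNat 0,.ofNat 0,.ofNat 4,.ofNat 4,.ofNat 0,.negSucc 3,.ofNat 0,.ofNat 0,.ofNat 4,.ofNat 0,.ofNat 4,.ofNat 8,.ofNat 0,.ofNat 0,.ofNat 0,.ofNat 4,.negSucc 3,.negSucc 3]], [.ofNat 0,.ofNat 4,.ofNat 0,.ofNat 0,.ofNat 0,.ofNat 0,.ofNat 0,.ofNat 0,.ofNat 2,.negSucc 1,.negSucc 1,.ofNat 2,.ofNat 2,.negSucc 1,.ofNat 2,.negSucc 1,.negSucc 1,.ofNat 0,.ofNat 2,.ofNat 0,.negSucc 1,.ofNat 0,.ofNat 2,.ofNat 0]⟩,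
  ⟨(0, 187), [[.ofNat 8,.ofNat 16,.ofNat 0,.ofNat 0,.ofNat 0,.ofNat 0,.ofNat 0,.ofNat 0,.ofNat 0,.negSucc 3,.ofNat 0,.ofNat 4,.ofNat 0,.negSucc 3,.ofNat 0,.negSucc 3,.ofNat 4,.ofNat 4,.negSucc 3,.negSucc 3,.ofNat 4,.ofNat 4,.negSucc 3,.negSucc 3], [.ofNat 4,.ofNat 4,.ofNat 4,.ofNat 8,.negSucc 7,.negSucc 11,.ofNat 0,.ofNat 0,.negSucc 3,.negSucc 3,.ofNat 4,.ofNat 0,.ofNat 0,.ofNat 4,.ofNat 0,.ofNat 0,.ofNat 4,.ofNat 8,.ofNat 4,.ofNat 4,.ofNat 0,.ofNat 0,.ofNat 0,.negSucc 3], [.negSucc 7,.negSucc 11,.ofNat 4,.ofNat 4,.negSucc 3,.negSucc 7,.ofNat 0,.ofNat 0,.ofNat 0,.ofNat 0,.negSucc 3,.ofNat 0,.ofNat 4,.ofNat 4,.ofNat 0,.ofNat 4,.ofNat 0,.ofNat 0,.ofNat 4,.ofNat 8,.negSucc 3,.negSucc 3,.ofNat 0,.ofNat 4], [.negSucc 7,.negSucc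 11,.negSucc 3,.negSucc 3,.ofNat 4,.ofNat 8,.ofNat 0,.ofNat 0,.ofNat 4,.ofNat 4,.ofNat 0,.negSucc 3,.ofNat 0,.ofNat 0,.ofNat 4,.ofNat 0,.negSucc 3,.negSucc 7,.ofNat 0,.ofNat 0,.ofNat 0,.negSucc 3,.ofNat 4,.ofNat 4]], [.ofNat 0,.ofNat 4,.ofNat 0,.ofNat 0,.ofNat 0,.ofNat 0,.ofNat 0,.ofNat 0,.ofNat 2,.negSucc 1,.negSucc 1,.ofNat 2,.ofNat 2,.negSucc 1,.ofNat 2,.negSucc 1,.ofNat 2,.ofNat 0,.negSucc 1,.ofNat 0,.ofNat 2,.ofNat 0,.negSucc 1,.ofNat 0]⟩,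
  ⟨(0, 188), [[.ofNat 8,.ofNat 16,.ofNat 0,.ofNat 0,.ofNat 0,.ofNat 0,.ofNat 0,.ofNat 0,.ofNat 0,.ofNat 4,.ofNat 0,.negSucc 3,.ofNat 0,.negSucc 3,.ofNat 0,.negSucc 3,.negSucc 3,.negSucc 3,.negSucc 3,.negSucc 3,.negSucc 3,.negSucc 3,.negSucc 3,.negSucc 3], [.ofNat 4,.ofNat 4,.ofNat 4,.ofNat 8,.negSucc 7,.negSucc 11,.ofNat 0,.ofNat 0,.ofNat 0,.ofNat 0,.ofNat 0,.ofNat 4,.negSucc 3,.ofNat 0,.negSucc 3,.negSucc 3,.ofNat 0,.negSucc 3,.ofNat 0,.ofNat 0,.ofNat 4,.ofNat 4,.negSucc 3,.negSucc 7], [.negSucc 7,.negSucc 11,.ofNat 4,.ofNat 4,.negSucc 3,.negSucc 7,.ofNat 0,.ofNat 0,.ofNat 0,.negSucc 3,.ofNat 4,.ofNat 4,.ofNat 4,.ofNat 0,.ofNat 0,.ofNat 0,.ofNat 0,.ofNat 4,.ofNat 4,.ofNat 4,.ofNat 4,.ofNat 8,.ofNat 0,.ofNat 0], [.negSucc 7,.negSucc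 11,.negSucc 3,.negSucc 3,.ofNat 4,.ofNat 8,.ofNat 0,.ofNat 0,.negSucc 3,.ofNat 0,.ofNat 0,.ofNat 0,.ofNat 0,.ofNat 4,.ofNat 4,.ofNat 4,.ofNat 4,.ofNat 4,.ofNat 0,.ofNat 4,.ofNat 0,.ofNat 0,.ofNat 4,.ofNat 8]], [.ofNat 0,.ofNat 4,.ofNat 0,.ofNat 0,.ofNat 0,.ofNat 0,.ofNat 0,.ofNat 0,.negSucc 1,.ofNat 2,.ofNat 2,.negSucc 1,.ofNat 2,.negSucc 1,.ofNat 2,.negSucc 1,.negSucc 1,.ofNat 0,.negSucc 1,.ofNat 0,.negSucc 1,.ofNat 0,.negSucc 1,.ofNat 0]⟩,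
  ⟨(0, 189), [[.ofNat 8,.ofNat 16,.ofNat 0,.ofNat 0,.ofNat 0,.ofNat 0,.ofNat 0,.ofNat 0,.ofNat 0,.ofNat 4,.ofNat 0,.negSucc 3,.ofNat 0,.negSucc 3,.ofNat 0,.negSucc 3,.ofNat 4,.ofNat 4,.ofNat 4,.ofNat 4,.ofNat 4,.ofNat 4,.ofNat 4,.ofNat 4], [.ofNat 4,.ofNat 4,.ofNat 4,.ofNat 8,.negSucc 7,.negSucc 11,.ofNat 0,.ofNat 0,.ofNat 0,.ofNat 0,.ofNat 0,.ofNat 4,.negSucc 3,.ofNat 0,.negSucc 3,.negSucc 3,.ofNat 0,.ofNat 4,.ofNat 0,.ofNat 0,.negSucc 3,.negSucc 3,.ofNat 4,.ofNat 8], [.negSucc 7,.negSucc 11,.ofNat 4,.ofNat 4,.negSucc 3,.negSucc 7,.ofNat 0,.ofNat 0,.ofNat 0,.negSucc 3,.ofNat 4,.ofNat 4,.ofNat 4,.ofNat 0,.ofNat 0,.ofNat 0,.ofNat 0,.negSucc 3,.negSucc 3,.negSucc 3,.negSucc 3,.negSucc 7,.ofNat 0,.ofNat 0], [.negSucc 7,.negSucc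 11,.negSucc 3,.negSucc 3,.ofNat 4,.ofNat 8,.ofNat 0,.ofNat 0,.negSucc 3,.ofNat 0,.ofNat 0,.ofNat 0,.ofNat 0,.ofNat 4,.ofNat 4,.ofNat 4,.negSucc 3,.negSucc 3,.ofNat 0,.negSucc 3,.ofNat 0,.ofNat 0,.negSucc 3,.negSucc 7]], [.ofNat 0,.ofNat 4,.ofNat 0,.ofNat 0,.ofNat 0,.ofNat 0,.ofNat 0,.ofNat 0,.negSucc 1,.ofNat 2,.ofNat 2,.negSucc 1,.ofNat 2,.negSucc 1,.ofNat 2,.negSucc 1,.ofNat 2,.ofNat 0,.ofNat 2,.ofNat 0,.ofNat 2,.ofNat 0,.ofNat 2,.ofNat 0]⟩,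
  ⟨(0, 190), [[.ofNat 8,.ofNat 16,.ofNat 0,.ofNat 0,.ofNat 0,.ofNat 0,.ofNat 0,.ofNat 0,.ofNat 0,.negSucc 3,.ofNat 0,.ofNat 4,.ofNat 0,.ofNat 4,.ofNat 0,.ofNat 4,.negSucc 3,.negSucc 3,.negSucc 3,.negSucc 3,.negSucc 3,.negSucc 3,.negSucc 3,.negSucc 3], [.ofNat 4,.ofNat 4,.ofNat 4,.ofNat 8,.negSucc 7,.negSucc 11,.ofNat 0,.ofNat 0,.ofNat 0,.ofNat 0,.ofNat 0,.negSucc 3,.ofNat 4,.ofNat 0,.ofNat 4,.ofNat 4,.ofNat 0,.negSucc 3,.ofNat 0,.ofNat 0,.ofNat 4,.ofNat 4,.negSucc 3,.negSucc 7], [.negSucc 7,.negSucc 11,.ofNat 4,.ofNat 4,.negSucc 3,.negSucc 7,.ofNat 0,.ofNat 0,.ofNat 0,.ofNat 4,.negSucc 3,.negSucc 3,.negSucc 3,.ofNat 0,.ofNat 0,.ofNat 0,.ofNat 0,.ofNat 4,.ofNat 4,.ofNat 4,.ofNat 4,.ofNat 8,.ofNat 0,.ofNat 0], [.negSucc 7,.negSucc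 11,.negSucc 3,.negSucc 3,.ofNat 4,.ofNat 8,.ofNat 0,.ofNat 0,.ofNat 4,.ofNat 0,.ofNat 0,.ofNat 0,.ofNat 0,.negSucc 3,.negSucc 3,.negSucc 3,.ofNat 4,.ofNat 4,.ofNat 0,.ofNat 4,.ofNat 0,.ofNat 0,.ofNat 4,.ofNat 8]], [.ofNat 0,.ofNat 4,.ofNat 0,.ofNat 0,.ofNat 0,.ofNat 0,.ofNat 0,.ofNat 0,.ofNat 2,.negSucc 1,.negSucc 1,.ofNat 2,.negSucc 1,.ofNat 2,.negSucc 1,.ofNat 2,.negSucc 1,.ofNat 0,.negSucc 1,.ofNat 0,.negSucc 1,.ofNat 0,.negSucc 1,.ofNat 0]⟩,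
  ⟨(0, 191), [[.ofNat 8,.ofNat 16,.ofNat 0,.ofNat 0,.ofNat 0,.ofNat 0,.ofNat 0,.ofNat 0,.ofNat 0,.negSucc 3,.ofNat 0,.ofNat 4,.ofNat 0,.ofNat 4,.ofNat 0,.ofNat 4,.ofNat 4,.ofNat 4,.ofNat 4,.ofNat 4,.ofNat 4,.ofNat 4,.ofNat 4,.ofNat 4], [.ofNat 4,.ofNat 4,.ofNat 4,.ofNat 8,.negSucc 7,.negSucc 11,.ofNat 0,.ofNat 0,.ofNat 0,.ofNat 0,.ofNat 0,.negSucc 3,.ofNat 4,.ofNat 0,.ofNat 4,.ofNat 4,.ofNat 0,.ofNat 4,.ofNat 0,.ofNat 0,.negSucc 3,.negSucc 3,.ofNat 4,.ofNat 8], [.negSucc 7,.negSucc 11,.ofNat 4,.ofNat 4,.negSucc 3,.negSucc 7,.ofNat 0,.ofNat 0,.ofNat 0,.ofNat 4,.negSucc 3,.negSucc 3,.negSucc 3,.ofNat 0,.ofNat 0,.ofNat 0,.ofNat 0,.negSucc 3,.negSucc 3,.negSucc 3,.negSucc 3,.negSucc 7,.ofNat 0,.ofNat 0], [.negSucc 7,.negSucc 11,.negSucc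 3,.negSucc 3,.ofNat 4,.ofNat 8,.ofNat 0,.ofNat 0,.ofNat 4,.ofNat 0,.ofNat 0,.ofNat 0,.ofNat 0,.negSucc 3,.negSucc 3,.negSucc 3,.negSucc 3,.negSucc 3,.ofNat 0,.negSucc 3,.ofNat 0,.ofNat 0,.negSucc 3,.negSucc 7]], [.ofNat 0,.ofNat 4,.ofNat 0,.ofNat 0,.ofNat 0,.ofNat 0,.ofNat 0,.ofNat 0,.ofNat 2,.negSucc 1,.negSucc 1,.ofNat 2,.negSucc 1,.ofNat 2,.negSucc 1,.ofNat 2,.ofNat 2,.ofNat 0,.ofNat 2,.ofNat 0,.ofNat 2,.ofNat 0,.ofNat 2,.ofNat 0]⟩]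

def candRec5 : List Rec := [
  ⟨(0, 192), [[.ofNat 0,.negSucc 7,.ofNat 0,.ofNat 0,.ofNat 0,.ofNat 0,.ofNat 0,.ofNat 0,.negSucc 3,.negSucc 3,.negSucc 3,.negSucc 3,.negSucc 3,.negSucc 3,.ofNat 4,.ofNat 4,.negSucc 3,.negSucc 7,.negSucc 3,.negSucc 7,.ofNat 4,.ofNat 8,.ofNat 4,.ofNat 8], [.negSucc 3,.ofNat 0,.ofNat 0,.negSucc 3,.ofNat 4,.ofNat 4,.ofNat 0,.ofNat 0,.ofNat 0,.negSucc 3,.negSucc 3,.negSucc 7,.ofNat 0,.ofNat 0,.negSucc 3,.negSucc 3,.ofNat 4,.ofNat 8,.negSucc 7,.negSucc 11,.ofNat 4,.ofNat 4,.ofNat 0,.ofNat 0], [.ofNat 4,.ofNat 4,.negSucc 3,.ofNat 0,.ofNat 0,.ofNat 4,.ofNat 0,.ofNat 0,.ofNat 0,.ofNat 4,.ofNat 0,.ofNat 0,.ofNat 4,.ofNat 4,.negSucc 3,.negSucc 7,.ofNat 8,.ofNat 12,.ofNat 0,.ofNat 0,.negSucc 3,.negSucc 3,.negSucc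 3,.negSucc 7], [.ofNat 4,.ofNat 4,.ofNat 4,.ofNat 0,.ofNat 0,.negSucc 3,.ofNat 0,.ofNat 0,.ofNat 4,.ofNat 4,.ofNat 4,.ofNat 8,.ofNat 0,.ofNat 4,.ofNat 0,.ofNat 0,.ofNat 0,.ofNat 0,.ofNat 8,.ofNat 12,.negSucc 3,.negSucc 7,.negSucc 3,.negSucc 3]], [.ofNat 4,.negSucc 3,.ofNat 0,.ofNat 0,.ofNat 0,.ofNat 0,.ofNat 0,.ofNat 0,.negSucc 1,.ofNat 0,.negSucc 1,.ofNat 0,.negSucc 1,.ofNat 0,.ofNat 2,.ofNat 0,.ofNat 0,.negSucc 1,.ofNat 0,.negSucc 1,.ofNat 0,.ofNat 2,.ofNat 0,.ofNat 2]⟩,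
  ⟨(0, 193), [[.ofNat 0,.negSucc 7,.ofNat 0,.ofNat 0,.ofNat 0,.ofNat 0,.ofNat 0,.ofNat 0,.negSucc 3,.negSucc 3,.negSucc 3,.negSucc 3,.negSucc 3,.negSucc 3,.ofNat 4,.ofNat 4,.ofNat 4,.ofNat 8,.ofNat 4,.ofNat 8,.negSucc 3,.negSucc 7,.negSucc 3,.negSucc 7], [.negSucc 3,.ofNat 0,.ofNat 0,.negSucc 3,.ofNat 4,.ofNat 4,.ofNat 0,.ofNat 0,.ofNat 0,.negSucc 3,.negSucc 3,.negSucc 7,.ofNat 0,.ofNat 0,.negSucc 3,.negSucc 3,.negSucc 3,.negSucc 7,.ofNat 8,.ofNat 12,.negSucc 3,.negSucc 3,.ofNat 0,.ofNat 0], [.ofNat 4,.ofNat 4,.negSucc 3,.ofNat 0,.ofNat 0,.ofNat 4,.ofNat 0,.ofNat 0,.ofNat 0,.ofNat 4,.ofNat 0,.ofNat 0,.ofNat 4,.ofNat 4,.negSucc 3,.negSucc 7,.negSucc 7,.negSucc 11,.ofNat 0,.ofNat 0,.ofNat 4,.ofNat 4,.ofNat 4,.ofNat 8], [.ofNat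 4,.ofNat 4,.ofNat 4,.ofNat 0,.ofNat 0,.negSucc 3,.ofNat 0,.ofNat 0,.ofNat 4,.ofNat 4,.ofNat 4,.ofNat 8,.ofNat 0,.ofNat 4,.ofNat 0,.ofNat 0,.ofNat 0,.ofNat 0,.negSucc 7,.negSucc 11,.ofNat 4,.ofNat 8,.ofNat 4,.ofNat 4]], [.ofNat 4,.negSucc 3,.ofNat 0,.ofNat 0,.ofNat 0,.ofNat 0,.ofNat 0,.ofNat 0,.negSucc 1,.ofNat 0,.negSucc 1,.ofNat 0,.negSucc 1,.ofNat 0,.ofNat 2,.ofNat 0,.ofNat 0,.ofNat 2,.ofNat 0,.ofNat 2,.ofNat 0,.negSucc 1,.ofNat 0,.negSucc 1]⟩,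
  ⟨(0, 194), [[.ofNat 0,.negSucc 7,.ofNat 0,.ofNat 0,.ofNat 0,.ofNat 0,.ofNat 0,.ofNat 0,.ofNat 4,.ofNat 4,.ofNat 4,.ofNat 4,.ofNat 4,.ofNat 4,.negSucc 3,.negSucc 3,.negSucc 3,.negSucc 7,.negSucc 3,.negSucc 7,.ofNat 4,.ofNat 8,.ofNat 4,.ofNat 8], [.negSucc 3,.ofNat 0,.ofNat 0,.negSucc 3,.ofNat 4,.ofNat 4,.ofNat 0,.ofNat 0,.ofNat 0,.ofNat 4,.ofNat 4,.ofNat 8,.ofNat 0,.ofNat 0,.ofNat 4,.ofNat 4,.ofNat 4,.ofNat 8,.negSucc 7,.negSucc 11,.ofNat 4,.ofNat 4,.ofNat 0,.ofNat 0], [.ofNat 4,.ofNat 4,.negSucc 3,.ofNat 0,.ofNat 0,.ofNat 4,.ofNat 0,.ofNat 0,.ofNat 0,.negSucc 3,.ofNat 0,.ofNat 0,.negSucc 3,.negSucc 3,.ofNat 4,.ofNat 8,.ofNat 8,.ofNat 12,.ofNat 0,.ofNat 0,.negSucc 3,.negSucc 3,.negSucc 3,.negSucc 7], [.ofNat 4,.ofNat 4,.ofNat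 4,.ofNat 0,.ofNat 0,.negSucc 3,.ofNat 0,.ofNat 0,.negSucc 3,.negSucc 3,.negSucc 3,.negSucc 7,.ofNat 0,.negSucc 3,.ofNat 0,.ofNat 0,.ofNat 0,.ofNat 0,.ofNat 8,.ofNat 12,.negSucc 3,.negSucc 7,.negSucc 3,.negSucc 3]], [.ofNat 4,.negSucc 3,.ofNat 0,.ofNat 0,.ofNat 0,.ofNat 0,.ofNat 0,.ofNat 0,.ofNat 2,.ofNat 0,.ofNat 2,.ofNat 0,.ofNat 2,.ofNat 0,.negSucc 1,.ofNat 0,.ofNat 0,.negSucc 1,.ofNat 0,.negSucc 1,.ofNat 0,.ofNat 2,.ofNat 0,.ofNat 2]⟩,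
  ⟨(0, 195), [[.ofNat 0,.negSucc 7,.ofNat 0,.ofNat 0,.ofNat 0,.ofNat 0,.ofNat 0,.ofNat 0,.ofNat 4,.ofNat 4,.ofNat 4,.ofNat 4,.ofNat 4,.ofNat 4,.negSucc 3,.negSucc 3,.ofNat 4,.ofNat 8,.ofNat 4,.ofNat 8,.negSucc 3,.negSucc 7,.negSucc 3,.negSucc 7], [.negSucc 3,.ofNat 0,.ofNat 0,.negSucc 3,.ofNat 4,.ofNat 4,.ofNat 0,.ofNat 0,.ofNat 0,.ofNat 4,.ofNat 4,.ofNat 8,.ofNat 0,.ofNat 0,.ofNat 4,.ofNat 4,.negSucc 3,.negSucc 7,.ofNat 8,.ofNat 12,.negSucc 3,.negSucc 3,.ofNat 0,.ofNat 0], [.ofNat 4,.ofNat 4,.negSucc 3,.ofNat 0,.ofNat 0,.ofNat 4,.ofNat 0,.ofNat 0,.ofNat 0,.negSucc 3,.ofNat 0,.ofNat 0,.negSucc 3,.negSucc 3,.ofNat 4,.ofNat 8,.negSucc 7,.negSucc 11,.ofNat 0,.ofNat 0,.ofNat 4,.ofNat 4,.ofNat 4,.ofNat 8], [.ofNat 4,.ofNat 4,.ofNat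 4,.ofNat 0,.ofNat 0,.negSucc 3,.ofNat 0,.ofNat 0,.negSucc 3,.negSucc 3,.negSucc 3,.negSucc 7,.ofNat 0,.negSucc 3,.ofNat 0,.ofNat 0,.ofNat 0,.ofNat 0,.negSucc 7,.negSucc 11,.ofNat 4,.ofNat 8,.ofNat 4,.ofNat 4]], [.ofNat 4,.negSucc 3,.ofNat 0,.ofNat 0,.ofNat 0,.ofNat 0,.ofNat 0,.ofNat 0,.ofNat 2,.ofNat 0,.ofNat 2,.ofNat 0,.ofNat 2,.ofNat 0,.negSucc 1,.ofNat 0,.ofNat 0,.ofNat 2,.ofNat 0,.ofNat 2,.ofNat 0,.negSucc 1,.ofNat 0,.negSucc 1]⟩,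
  ⟨(0, 196), [[.ofNat 0,.negSucc 7,.ofNat 0,.ofNat 0,.ofNat 0,.ofNat 0,.ofNat 0,.ofNat 0,.negSucc 3,.negSucc 3,.negSucc 3,.negSucc 3,.ofNat 4,.ofNat 4,.negSucc 3,.negSucc 3,.negSucc 3,.negSucc 7,.ofNat 4,.ofNat 8,.ofNat 4,.ofNat 8,.negSucc 3,.negSucc 7], [.negSucc 3,.ofNat 0,.ofNat 0,.negSucc 3,.ofNat 4,.ofNat 4,.ofNat 0,.ofNat 0,.ofNat 4,.ofNat 4,.ofNat 0,.ofNat 0,.ofNat 4,.ofNat 8,.ofNat 0,.negSucc 3,.ofNat 0,.ofNat 0,.ofNat 4,.ofNat 4,.ofNat 8,.ofNat 12,.ofNat 4,.ofNat 8], [.ofNat 4,.ofNat 4,.negSucc 3,.ofNat 0,.ofNat 0,.ofNat 4,.ofNat 0,.ofNat 0,.ofNat 4,.ofNat 8,.ofNat 4,.ofNat 4,.ofNat 0,.ofNat 0,.ofNat 0,.ofNat 4,.ofNat 4,.ofNat 8,.negSucc 3,.negSucc 3,.ofNat 0,.ofNat 0,.ofNat 8,.ofNat 12], [.ofNat 4,.ofNat 4,.ofNat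 4,.ofNat 0,.ofNat 0,.negSucc 3,.ofNat 0,.ofNat 0,.ofNat 0,.ofNat 0,.ofNat 0,.ofNat 4,.negSucc 3,.negSucc 7,.ofNat 4,.ofNat 4,.ofNat 4,.ofNat 4,.negSucc 3,.negSucc 7,.negSucc 7,.negSucc 11,.ofNat 0,.ofNat 0]], [.ofNat 4,.negSucc 3,.ofNat 0,.ofNat 0,.ofNat 0,.ofNat 0,.ofNat 0,.ofNat 0,.negSucc 1,.ofNat 0,.negSucc 1,.ofNat 0,.ofNat 2,.ofNat 0,.negSucc 1,.ofNat 0,.ofNat 0,.negSucc 1,.ofNat 0,.ofNat 2,.ofNat 0,.ofNat 2,.ofNat 0,.negSucc 1]⟩,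
  ⟨(0, 197), [[.ofNat 0,.negSucc 7,.ofNat 0,.ofNat 0,.ofNat 0,.ofNat 0,.ofNat 0,.ofNat 0,.negSucc 3,.negSucc 3,.negSucc 3,.negSucc 3,.ofNat 4,.ofNat 4,.negSucc 3,.negSucc 3,.ofNat 4,.ofNat 8,.negSucc 3,.negSucc 7,.negSucc 3,.negSucc 7,.ofNat 4,.ofNat 8], [.negSucc 3,.ofNat 0,.ofNat 0,.negSucc 3,.ofNat 4,.ofNat 4,.ofNat 0,.ofNat 0,.ofNat 4,.ofNat 4,.ofNat 0,.ofNat 0,.ofNat 4,.ofNat 8,.ofNat 0,.negSucc 3,.ofNat 0,.ofNat 0,.negSucc 3,.negSucc 3,.negSucc 7,.negSucc 11,.negSucc 3,.negSucc 7], [.ofNat 4,.ofNat 4,.negSucc 3,.ofNat 0,.ofNat 0,.ofNat 4,.ofNat 0,.ofNat 0,.ofNat 4,.ofNat 8,.ofNat 4,.ofNat 4,.ofNat 0,.ofNat 0,.ofNat 0,.ofNat 4,.negSucc 3,.negSucc 7,.ofNat 4,.ofNat 4,.ofNat 0,.ofNat 0,.negSucc 7,.negSucc 11], [.ofNat 4,.ofNat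 4,.ofNat 4,.ofNat 0,.ofNat 0,.negSucc 3,.ofNat 0,.ofNat 0,.ofNat 0,.ofNat 0,.ofNat 0,.ofNat 4,.negSucc 3,.negSucc 7,.ofNat 4,.ofNat 4,.negSucc 3,.negSucc 3,.ofNat 4,.ofNat 8,.ofNat 8,.ofNat 12,.ofNat 0,.ofNat 0]], [.ofNat 4,.negSucc 3,.ofNat 0,.ofNat 0,.ofNat 0,.ofNat 0,.ofNat 0,.ofNat 0,.negSucc 1,.ofNat 0,.negSucc 1,.ofNat 0,.ofNat 2,.ofNat 0,.negSucc 1,.ofNat 0,.ofNat 0,.ofNat 2,.ofNat 0,.negSucc 1,.ofNat 0,.negSucc 1,.ofNat 0,.ofNat 2]⟩,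
  ⟨(0, 198), [[.ofNat 0,.negSucc 7,.ofNat 0,.ofNat 0,.ofNat 0,.ofNat 0,.ofNat 0,.ofNat 0,.ofNat 4,.ofNat 4,.ofNat 4,.ofNat 4,.negSucc 3,.negSucc 3,.ofNat 4,.ofNat 4,.negSucc 3,.negSucc 7,.ofNat 4,.ofNat 8,.ofNat 4,.ofNat 8,.negSucc 3,.negSucc 7], [.negSucc 3,.ofNat 0,.ofNat 0,.negSucc 3,.ofNat 4,.ofNat 4,.ofNat 0,.ofNat 0,.negSucc 3,.negSucc 3,.ofNat 0,.ofNat 0,.negSucc 3,.negSucc 7,.ofNat 0,.ofNat 4,.ofNat 0,.ofNat 0,.ofNat 4,.ofNat 4,.ofNat 8,.ofNat 12,.ofNat 4,.ofNat 8], [.ofNat 4,.ofNat 4,.negSucc 3,.ofNat 0,.ofNat 0,.ofNat 4,.ofNat 0,.ofNat 0,.negSucc 3,.negSucc 7,.negSucc 3,.negSucc 3,.ofNat 0,.ofNat 0,.ofNat 0,.negSucc 3,.ofNat 4,.ofNat 8,.negSucc 3,.negSucc 3,.ofNat 0,.ofNat 0,.ofNat 8,.ofNat 12], [.ofNat 4,.ofNat 4,.ofNat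 4,.ofNat 0,.ofNat 0,.negSucc 3,.ofNat 0,.ofNat 0,.ofNat 0,.ofNat 0,.ofNat 0,.negSucc 3,.ofNat 4,.ofNat 8,.negSucc 3,.negSucc 3,.ofNat 4,.ofNat 4,.negSucc 3,.negSucc 7,.negSucc 7,.negSucc 11,.ofNat 0,.ofNat 0]], [.ofNat 4,.negSucc 3,.ofNat 0,.ofNat 0,.ofNat 0,.ofNat 0,.ofNat 0,.ofNat 0,.ofNat 2,.ofNat 0,.ofNat 2,.ofNat 0,.negSucc 1,.ofNat 0,.ofNat 2,.ofNat 0,.ofNat 0,.negSucc 1,.ofNat 0,.ofNat 2,.ofNat 0,.ofNat 2,.ofNat 0,.negSucc 1]⟩,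
  ⟨(0, 199), [[.ofNat 0,.negSucc 7,.ofNat 0,.ofNat 0,.ofNat 0,.ofNat 0,.ofNat 0,.ofNat 0,.ofNat 4,.ofNat 4,.ofNat 4,.ofNat 4,.negSucc 3,.negSucc 3,.ofNat 4,.ofNat 4,.ofNat 4,.ofNat 8,.negSucc 3,.negSucc 7,.negSucc 3,.negSucc 7,.ofNat 4,.ofNat 8], [.negSucc 3,.ofNat 0,.ofNat 0,.negSucc 3,.ofNat 4,.ofNat 4,.ofNat 0,.ofNat 0,.negSucc 3,.negSucc 3,.ofNat 0,.ofNat 0,.negSucc 3,.negSucc 7,.ofNat 0,.ofNat 4,.ofNat 0,.ofNat 0,.negSucc 3,.negSucc 3,.negSucc 7,.negSucc 11,.negSucc 3,.negSucc 7], [.ofNat 4,.ofNat 4,.negSucc 3,.ofNat 0,.ofNat 0,.ofNat 4,.ofNat 0,.ofNat 0,.negSucc 3,.negSucc 7,.negSucc 3,.negSucc 3,.ofNat 0,.ofNat 0,.ofNat 0,.negSucc 3,.negSucc 3,.negSucc 7,.ofNat 4,.ofNat 4,.ofNat 0,.ofNat 0,.negSucc 7,.negSucc 11], [.ofNat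 4,.ofNat 4,.ofNat 4,.ofNat 0,.ofNat 0,.negSucc 3,.ofNat 0,.ofNat 0,.ofNat 0,.ofNat 0,.ofNat 0,.negSucc 3,.ofNat 4,.ofNat 8,.negSucc 3,.negSucc 3,.negSucc 3,.negSucc 3,.ofNat 4,.ofNat 8,.ofNat 8,.ofNat 12,.ofNat 0,.ofNat 0]], [.ofNat 4,.negSucc 3,.ofNat 0,.ofNat 0,.ofNat 0,.ofNat 0,.ofNat 0,.ofNat 0,.ofNat 2,.ofNat 0,.ofNat 2,.ofNat 0,.negSucc 1,.ofNat 0,.ofNat 2,.ofNat 0,.ofNat 0,.ofNat 2,.ofNat 0,.negSucc 1,.ofNat 0,.negSucc 1,.ofNat 0,.ofNat 2]⟩,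
  ⟨(0, 200), [[.ofNat 0,.negSucc 7,.ofNat 0,.ofNat 0,.ofNat 0,.ofNat 0,.ofNat 0,.ofNat 0,.negSucc 3,.negSucc 3,.ofNat 4,.ofNat 4,.negSucc 3,.negSucc 3,.negSucc 3,.negSucc 3,.negSucc 3,.negSucc 7,.ofNat 4,.ofNat 8,.negSucc 3,.negSucc 7,.ofNat 4,.ofNat 8], [.negSucc 3,.ofNat 0,.ofNat 0,.negSucc 3,.ofNat 4,.ofNat 4,.ofNat 0,.ofNat 0,.negSucc 3,.negSucc 7,.ofNat 0,.ofNat 4,.ofNat 4,.ofNat 4,.ofNat 0,.ofNat 0,.negSucc 7,.negSucc 11,.negSucc 3,.negSucc 7,.ofNat 0,.ofNat 0,.ofNat 4,.ofNat 4], [.ofNat 4,.ofNat 4,.negSucc 3,.ofNat 0,.ofNat 0,.ofNat 4,.ofNat 0,.ofNat 0,.ofNat 0,.ofNat 0,.ofNat 0,.negSucc 3,.ofNat 4,.ofNat 8,.ofNat 4,.ofNat 4,.ofNat 0,.ofNat 0,.negSucc 7,.negSucc 11,.ofNat 4,.ofNat 8,.negSucc 3,.negSucc 3], [.ofNat 4,.ofNat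 4,.ofNat 4,.ofNat 0,.ofNat 0,.negSucc 3,.ofNat 0,.ofNat 0,.ofNat 4,.ofNat 8,.negSucc 3,.negSucc 3,.ofNat 0,.ofNat 0,.ofNat 0,.ofNat 4,.ofNat 8,.ofNat 12,.ofNat 0,.ofNat 0,.ofNat 4,.ofNat 4,.negSucc 3,.negSucc 7]], [.ofNat 4,.negSucc 3,.ofNat 0,.ofNat 0,.ofNat 0,.ofNat 0,.ofNat 0,.ofNat 0,.negSucc 1,.ofNat 0,.ofNat 2,.ofNat 0,.negSucc 1,.ofNat 0,.negSucc 1,.ofNat 0,.ofNat 0,.negSucc 1,.ofNat 0,.ofNat 2,.ofNat 0,.negSucc 1,.ofNat 0,.ofNat 2]⟩,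
  ⟨(0, 201), [[.ofNat 0,.negSucc 7,.ofNat 0,.ofNat 0,.ofNat 0,.ofNat 0,.ofNat 0,.ofNat 0,.negSucc 3,.negSucc 3,.ofNat 4,.ofNat 4,.negSucc 3,.negSucc 3,.negSucc 3,.negSucc 3,.ofNat 4,.ofNat 8,.negSucc 3,.negSucc 7,.ofNat 4,.ofNat 8,.negSucc 3,.negSucc 7], [.negSucc 3,.ofNat 0,.ofNat 0,.negSucc 3,.ofNat 4,.ofNat 4,.ofNat 0,.ofNat 0,.negSucc 3,.negSucc 7,.ofNat 0,.ofNat 4,.ofNat 4,.ofNat 4,.ofNat 0,.ofNat 0,.ofNat 8,.ofNat 12,.ofNat 4,.ofNat 8,.ofNat 0,.ofNat 0,.negSucc 3,.negSucc 3], [.ofNat 4,.ofNat 4,.negSucc 3,.ofNat 0,.ofNat 0,.ofNat 4,.ofNat 0,.ofNat 0,.ofNat 0,.ofNat 0,.ofNat 0,.negSucc 3,.ofNat 4,.ofNat 8,.ofNat 4,.ofNat 4,.ofNat 0,.ofNat 0,.ofNat 8,.ofNat 12,.negSucc 3,.negSucc 7,.ofNat 4,.ofNat 4], [.ofNat 4,.ofNat 4,.ofNat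 4,.ofNat 0,.ofNat 0,.negSucc 3,.ofNat 0,.ofNat 0,.ofNat 4,.ofNat 8,.negSucc 3,.negSucc 3,.ofNat 0,.ofNat 0,.ofNat 0,.ofNat 4,.negSucc 7,.negSucc 11,.ofNat 0,.ofNat 0,.negSucc 3,.negSucc 3,.ofNat 4,.ofNat 8]], [.ofNat 4,.negSucc 3,.ofNat 0,.ofNat 0,.ofNat 0,.ofNat 0,.ofNat 0,.ofNat 0,.negSucc 1,.ofNat 0,.ofNat 2,.ofNat 0,.negSucc 1,.ofNat 0,.negSucc 1,.ofNat 0,.ofNat 0,.ofNat 2,.ofNat 0,.negSucc 1,.ofNat 0,.ofNat 2,.ofNat 0,.negSucc 1]⟩,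
  ⟨(0, 202), [[.ofNat 0,.negSucc 7,.ofNat 0,.ofNat 0,.ofNat 0,.ofNat 0,.ofNat 0,.ofNat 0,.ofNat 4,.ofNat 4,.negSucc 3,.negSucc 3,.ofNat 4,.ofNat 4,.ofNat 4,.ofNat 4,.negSucc 3,.negSucc 7,.ofNat 4,.ofNat 8,.negSucc 3,.negSucc 7,.ofNat 4,.ofNat 8], [.negSucc 3,.ofNat 0,.ofNat 0,.negSucc 3,.ofNat 4,.ofNat 4,.ofNat 0,.ofNat 0,.ofNat 4,.ofNat 8,.ofNat 0,.negSucc 3,.negSucc 3,.negSucc 3,.ofNat 0,.ofNat 0,.negSucc 7,.negSucc 11,.negSucc 3,.negSucc 7,.ofNat 0,.ofNat 0,.ofNat 4,.ofNat 4], [.ofNat 4,.ofNat 4,.negSucc 3,.ofNat 0,.ofNat 0,.ofNat 4,.ofNat 0,.ofNat 0,.ofNat 0,.ofNat 0,.ofNat 0,.ofNat 4,.negSucc 3,.negSucc 7,.negSucc 3,.negSucc 3,.ofNat 0,.ofNat 0,.negSucc 7,.negSucc 11,.ofNat 4,.ofNat 8,.negSucc 3,.negSucc 3], [.ofNat 4,.ofNat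 4,.ofNat 4,.ofNat 0,.ofNat 0,.negSucc 3,.ofNat 0,.ofNat 0,.negSucc 3,.negSucc 7,.ofNat 4,.ofNat 4,.ofNat 0,.ofNat 0,.ofNat 0,.negSucc 3,.ofNat 8,.ofNat 12,.ofNat 0,.ofNat 0,.ofNat 4,.ofNat 4,.negSucc 3,.negSucc 7]], [.ofNat 4,.negSucc 3,.ofNat 0,.ofNat 0,.ofNat 0,.ofNat 0,.ofNat 0,.ofNat 0,.ofNat 2,.ofNat 0,.negSucc 1,.ofNat 0,.ofNat 2,.ofNat 0,.ofNat 2,.ofNat 0,.ofNat 0,.negSucc 1,.ofNat 0,.ofNat 2,.ofNat 0,.negSucc 1,.ofNat 0,.ofNat 2]⟩,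
  ⟨(0, 203), [[.ofNat 0,.negSucc 7,.ofNat 0,.ofNat 0,.ofNat 0,.ofNat 0,.ofNat 0,.ofNat 0,.ofNat 4,.ofNat 4,.negSucc 3,.negSucc 3,.ofNat 4,.ofNat 4,.ofNat 4,.ofNat 4,.ofNat 4,.ofNat 8,.negSucc 3,.negSucc 7,.ofNat 4,.ofNat 8,.negSucc 3,.negSucc 7], [.negSucc 3,.ofNat 0,.ofNat 0,.negSucc 3,.ofNat 4,.ofNat 4,.ofNat 0,.ofNat 0,.ofNat 4,.ofNat 8,.ofNat 0,.negSucc 3,.negSucc 3,.negSucc 3,.ofNat 0,.ofNat 0,.ofNat 8,.ofNat 12,.ofNat 4,.ofNat 8,.ofNat 0,.ofNat 0,.negSucc 3,.negSucc 3], [.ofNat 4,.ofNat 4,.negSucc 3,.ofNat 0,.ofNat 0,.ofNat 4,.ofNat 0,.ofNat 0,.ofNat 0,.ofNat 0,.ofNat 0,.ofNat 4,.negSucc 3,.negSucc 7,.negSucc 3,.negSucc 3,.ofNat 0,.ofNat 0,.ofNat 8,.ofNat 12,.negSucc 3,.negSucc 7,.ofNat 4,.ofNat 4], [.ofNat 4,.ofNat 4,.ofNat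 4,.ofNat 0,.ofNat 0,.negSucc 3,.ofNat 0,.ofNat 0,.negSucc 3,.negSucc 7,.ofNat 4,.ofNat 4,.ofNat 0,.ofNat 0,.ofNat 0,.negSucc 3,.negSucc 7,.negSucc 11,.ofNat 0,.ofNat 0,.negSucc 3,.negSucc 3,.ofNat 4,.ofNat 8]], [.ofNat 4,.negSucc 3,.ofNat 0,.ofNat 0,.ofNat 0,.ofNat 0,.ofNat 0,.ofNat 0,.ofNat 2,.ofNat 0,.negSucc 1,.ofNat 0,.ofNat 2,.ofNat 0,.ofNat 2,.ofNat 0,.ofNat 0,.ofNat 2,.ofNat 0,.negSucc 1,.ofNat 0,.ofNat 2,.ofNat 0,.negSucc 1]⟩,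
  ⟨(0, 204), [[.ofNat 0,.negSucc 7,.ofNat 0,.ofNat 0,.ofNat 0,.ofNat 0,.ofNat 0,.ofNat 0,.negSucc 3,.negSucc 3,.ofNat 4,.ofNat 4,.ofNat 4,.ofNat 4,.ofNat 4,.ofNat 4,.negSucc 3,.negSucc 7,.negSucc 3,.negSucc 7,.negSucc 3,.negSucc 7,.negSucc 3,.negSucc 7], [.negSucc 3,.ofNat 0,.ofNat 0,.negSucc 3,.ofNat 4,.ofNat 4,.ofNat 0,.ofNat 0,.ofNat 0,.ofNat 0,.negSucc 3,.negSucc 3,.ofNat 0,.ofNat 4,.ofNat 4,.ofNat 8,.negSucc 3,.negSucc 3,.ofNat 0,.ofNat 0,.ofNat 4,.ofNat 8,.negSucc 7,.negSucc 11], [.ofNat 4,.ofNat 4,.negSucc 3,.ofNat 0,.ofNat 0,.ofNat 4,.ofNat 0,.ofNat 0,.ofNat 4,.ofNat 4,.negSucc 3,.negSucc 7,.ofNat 0,.negSucc 3,.ofNat 0,.ofNat 0,.ofNat 4,.ofNat 4,.ofNat 4,.ofNat 8,.ofNat 8,.ofNat 12,.ofNat 0,.ofNat 0], [.ofNat 4,.ofNat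 4,.ofNat 4,.ofNat 0,.ofNat 0,.negSucc 3,.ofNat 0,.ofNat 0,.ofNat 0,.ofNat 4,.ofNat 0,.ofNat 0,.negSucc 3,.negSucc 3,.negSucc 3,.negSucc 7,.ofNat 4,.ofNat 8,.ofNat 4,.ofNat 4,.ofNat 0,.ofNat 0,.ofNat 8,.ofNat 12]], [.ofNat 4,.negSucc 3,.ofNat 0,.ofNat 0,.ofNat 0,.ofNat 0,.ofNat 0,.ofNat 0,.negSucc 1,.ofNat 0,.ofNat 2,.ofNat 0,.ofNat 2,.ofNat 0,.ofNat 2,.ofNat 0,.ofNat 0,.negSucc 1,.ofNat 0,.negSucc 1,.ofNat 0,.negSucc 1,.ofNat 0,.negSucc 1]⟩,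
  ⟨(0, 205), [[.ofNat 0,.negSucc 7,.ofNat 0,.ofNat 0,.ofNat 0,.ofNat 0,.ofNat 0,.ofNat 0,.negSucc 3,.negSucc 3,.ofNat 4,.ofNat 4,.ofNat 4,.ofNat 4,.ofNat 4,.ofNat 4,.ofNat 4,.ofNat 8,.ofNat 4,.ofNat 8,.ofNat 4,.ofNat 8,.ofNat 4,.ofNat 8], [.negSucc 3,.ofNat 0,.ofNat 0,.negSucc 3,.ofNat 4,.ofNat 4,.ofNat 0,.ofNat 0,.ofNat 0,.ofNat 0,.negSucc 3,.negSucc 3,.ofNat 0,.ofNat 4,.ofNat 4,.ofNat 8,.ofNat 4,.ofNat 4,.ofNat 0,.ofNat 0,.negSucc 3,.negSucc 7,.ofNat 8,.ofNat 12], [.ofNat 4,.ofNat 4,.negSucc 3,.ofNat 0,.ofNat 0,.ofNat 4,.ofNat 0,.ofNat 0,.ofNat 4,.ofNat 4,.negSucc 3,.negSucc 7,.ofNat 0,.negSucc 3,.ofNat 0,.ofNat 0,.negSucc 3,.negSucc 3,.negSucc 3,.negSucc 7,.negSucc 7,.negSucc 11,.ofNat 0,.ofNat 0], [.ofNat 4,.ofNat 4,.ofNat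 4,.ofNat 0,.ofNat 0,.negSucc 3,.ofNat 0,.ofNat 0,.ofNat 0,.ofNat 4,.ofNat 0,.ofNat 0,.negSucc 3,.negSucc 3,.negSucc 3,.negSucc 7,.negSucc 3,.negSucc 7,.negSucc 3,.negSucc 3,.ofNat 0,.ofNat 0,.negSucc 7,.negSucc 11]], [.ofNat 4,.negSucc 3,.ofNat 0,.ofNat 0,.ofNat 0,.ofNat 0,.ofNat 0,.ofNat 0,.negSucc 1,.ofNat 0,.ofNat 2,.ofNat 0,.ofNat 2,.ofNat 0,.ofNat 2,.ofNat 0,.ofNat 0,.ofNat 2,.ofNat 0,.ofNat 2,.ofNat 0,.ofNat 2,.ofNat 0,.ofNat 2]⟩,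
  ⟨(0, 206), [[.ofNat 0,.negSucc 7,.ofNat 0,.ofNat 0,.ofNat 0,.ofNat 0,.ofNat 0,.ofNat 0,.ofNat 4,.ofNat 4,.negSucc 3,.negSucc 3,.negSucc 3,.negSucc 3,.negSucc 3,.negSucc 3,.negSucc 3,.negSucc 7,.negSucc 3,.negSucc 7,.negSucc 3,.negSucc 7,.negSucc 3,.negSucc 7], [.negSucc 3,.ofNat 0,.ofNat 0,.negSucc 3,.ofNat 4,.ofNat 4,.ofNat 0,.ofNat 0,.ofNat 0,.ofNat 0,.ofNat 4,.ofNat 4,.ofNat 0,.negSucc 3,.negSucc 3,.negSucc 7,.negSucc 3,.negSucc 3,.ofNat 0,.ofNat 0,.ofNat 4,.ofNat 8,.negSucc 7,.negSucc 11], [.ofNat 4,.ofNat 4,.negSucc 3,.ofNat 0,.ofNat 0,.ofNat 4,.ofNat 0,.ofNat 0,.negSucc 3,.negSucc 3,.ofNat 4,.ofNat 8,.ofNat 0,.ofNat 4,.ofNat 0,.ofNat 0,.ofNat 4,.ofNat 4,.ofNat 4,.ofNat 8,.ofNat 8,.ofNat 12,.ofNat 0,.ofNat 0], [.ofNat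 4,.ofNat 4,.ofNat 4,.ofNat 0,.ofNat 0,.negSucc 3,.ofNat 0,.ofNat 0,.ofNat 0,.negSucc 3,.ofNat 0,.ofNat 0,.ofNat 4,.ofNat 4,.ofNat 4,.ofNat 8,.ofNat 4,.ofNat 8,.ofNat 4,.ofNat 4,.ofNat 0,.ofNat 0,.ofNat 8,.ofNat 12]], [.ofNat 4,.negSucc 3,.ofNat 0,.ofNat 0,.ofNat 0,.ofNat 0,.ofNat 0,.ofNat 0,.ofNat 2,.ofNat 0,.negSucc 1,.ofNat 0,.negSucc 1,.ofNat 0,.negSucc 1,.ofNat 0,.ofNat 0,.negSucc 1,.ofNat 0,.negSucc 1,.ofNat 0,.negSucc 1,.ofNat 0,.negSucc 1]⟩,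
  ⟨(0, 207), [[.ofNat 0,.negSucc 7,.ofNat 0,.ofNat 0,.ofNat 0,.ofNat 0,.ofNat 0,.ofNat 0,.ofNat 4,.ofNat 4,.negSucc 3,.negSucc 3,.negSucc 3,.negSucc 3,.negSucc 3,.negSucc 3,.ofNat 4,.ofNat 8,.ofNat 4,.ofNat 8,.ofNat 4,.ofNat 8,.ofNat 4,.ofNat 8], [.negSucc 3,.ofNat 0,.ofNat 0,.negSucc 3,.ofNat 4,.ofNat 4,.ofNat 0,.ofNat 0,.ofNat 0,.ofNat 0,.ofNat 4,.ofNat 4,.ofNat 0,.negSucc 3,.negSucc 3,.negSucc 7,.ofNat 4,.ofNat 4,.ofNat 0,.ofNat 0,.negSucc 3,.negSucc 7,.ofNat 8,.ofNat 12], [.ofNat 4,.ofNat 4,.negSucc 3,.ofNat 0,.ofNat 0,.ofNat 4,.ofNat 0,.ofNat 0,.negSucc 3,.negSucc 3,.ofNat 4,.ofNat 8,.ofNat 0,.ofNat 4,.ofNat 0,.ofNat 0,.negSucc 3,.negSucc 3,.negSucc 3,.negSucc 7,.negSucc 7,.negSucc 11,.ofNat 0,.ofNat 0], [.ofNat 4,.ofNat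 4,.ofNat 4,.ofNat 0,.ofNat 0,.negSucc 3,.ofNat 0,.ofNat 0,.ofNat 0,.negSucc 3,.ofNat 0,.ofNat 0,.ofNat 4,.ofNat 4,.ofNat 4,.ofNat 8,.negSucc 3,.negSucc 7,.negSucc 3,.negSucc 3,.ofNat 0,.ofNat 0,.negSucc 7,.negSucc 11]], [.ofNat 4,.negSucc 3,.ofNat 0,.ofNat 0,.ofNat 0,.ofNat 0,.ofNat 0,.ofNat 0,.ofNat 2,.ofNat 0,.negSucc 1,.ofNat 0,.negSucc 1,.ofNat 0,.negSucc 1,.ofNat 0,.ofNat 0,.ofNat 2,.ofNat 0,.ofNat 2,.ofNat 0,.ofNat 2,.ofNat 0,.ofNat 2]⟩,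
  ⟨(0, 208), [[.ofNat 0,.negSucc 7,.ofNat 0,.ofNat 0,.ofNat 0,.ofNat 0,.ofNat 0,.ofNat 0,.negSucc 3,.negSucc 7,.negSucc 3,.negSucc 7,.negSucc 3,.negSucc 7,.negSucc 3,.negSucc 7,.negSucc 3,.negSucc 3,.ofNat 4,.ofNat 4,.ofNat 4,.ofNat 4,.ofNat 4,.ofNat 4], [.negSucc 3,.ofNat 0,.ofNat 0,.negSucc 3,.ofNat 4,.ofNat 4,.ofNat 0,.ofNat 0,.negSucc 3,.negSucc 3,.ofNat 0,.ofNat 0,.ofNat 4,.ofNat 8,.negSucc 7,.negSucc 11,.ofNat 0,.ofNat 0,.negSucc 3,.negSucc 3,.ofNat 0,.ofNat 4,.ofNat 4,.ofNat 8], [.ofNat 4,.ofNat 4,.negSucc 3,.ofNat 0,.ofNat 0,.ofNat 4,.ofNat 0,.ofNat 0,.ofNat 4,.ofNat 4,.ofNat 4,.ofNat 8,.ofNat 8,.ofNat 12,.ofNat 0,.ofNat 0,.ofNat 4,.ofNat 4,.negSucc 3,.negSucc 7,.ofNat 0,.negSucc 3,.ofNat 0,.ofNat 0], [.ofNat 4,.ofNat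 4,.ofNat 4,.ofNat 0,.ofNat 0,.negSucc 3,.ofNat 0,.ofNat 0,.ofNat 4,.ofNat 8,.ofNat 4,.ofNat 4,.ofNat 0,.ofNat 0,.ofNat 8,.ofNat 12,.ofNat 0,.ofNat 4,.ofNat 0,.ofNat 0,.negSucc 3,.negSucc 3,.negSucc 3,.negSucc 7]], [.ofNat 4,.negSucc 3,.ofNat 0,.ofNat 0,.ofNat 0,.ofNat 0,.ofNat 0,.ofNat 0,.ofNat 0,.negSucc 1,.ofNat 0,.negSucc 1,.ofNat 0,.negSucc 1,.ofNat 0,.negSucc 1,.negSucc 1,.ofNat 0,.ofNat 2,.ofNat 0,.ofNat 2,.ofNat 0,.ofNat 2,.ofNat 0]⟩,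
  ⟨(0, 209), [[.ofNat 0,.negSucc 7,.ofNat 0,.ofNat 0,.ofNat 0,.ofNat 0,.ofNat 0,.ofNat 0,.negSucc 3,.negSucc 7,.negSucc 3,.negSucc 7,.negSucc 3,.negSucc 7,.negSucc 3,.negSucc 7,.ofNat 4,.ofNat 4,.negSucc 3,.negSucc 3,.negSucc 3,.negSucc 3,.negSucc 3,.negSucc 3], [.negSucc 3,.ofNat 0,.ofNat 0,.negSucc 3,.ofNat 4,.ofNat 4,.ofNat 0,.ofNat 0,.negSucc 3,.negSucc 3,.ofNat 0,.ofNat 0,.ofNat 4,.ofNat 8,.negSucc 7,.negSucc 11,.ofNat 0,.ofNat 0,.ofNat 4,.ofNat 4,.ofNat 0,.negSucc 3,.negSucc 3,.negSucc 7], [.ofNat 4,.ofNat 4,.negSucc 3,.ofNat 0,.ofNat 0,.ofNat 4,.ofNat 0,.ofNat 0,.ofNat 4,.ofNat 4,.ofNat 4,.ofNat 8,.ofNat 8,.ofNat 12,.ofNat 0,.ofNat 0,.negSucc 3,.negSucc 3,.ofNat 4,.ofNat 8,.ofNat 0,.ofNat 4,.ofNat 0,.ofNat 0], [.ofNat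 4,.ofNat 4,.ofNat 4,.ofNat 0,.ofNat 0,.negSucc 3,.ofNat 0,.ofNat 0,.ofNat 4,.ofNat 8,.ofNat 4,.ofNat 4,.ofNat 0,.ofNat 0,.ofNat 8,.ofNat 12,.ofNat 0,.negSucc 3,.ofNat 0,.ofNat 0,.ofNat 4,.ofNat 4,.ofNat 4,.ofNat 8]], [.ofNat 4,.negSucc 3,.ofNat 0,.ofNat 0,.ofNat 0,.ofNat 0,.ofNat 0,.ofNat 0,.ofNat 0,.negSucc 1,.ofNat 0,.negSucc 1,.ofNat 0,.negSucc 1,.ofNat 0,.negSucc 1,.ofNat 2,.ofNat 0,.negSucc 1,.ofNat 0,.negSucc 1,.ofNat 0,.negSucc 1,.ofNat 0]⟩,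
  ⟨(0, 210), [[.ofNat 0,.negSucc 7,.ofNat 0,.ofNat 0,.ofNat 0,.ofNat 0,.ofNat 0,.ofNat 0,.ofNat 4,.ofNat 8,.ofNat 4,.ofNat 8,.ofNat 4,.ofNat 8,.ofNat 4,.ofNat 8,.negSucc 3,.negSucc 3,.ofNat 4,.ofNat 4,.ofNat 4,.ofNat 4,.ofNat 4,.ofNat 4], [.negSucc 3,.ofNat 0,.ofNat 0,.negSucc 3,.ofNat 4,.ofNat 4,.ofNat 0,.ofNat 0,.ofNat 4,.ofNat 4,.ofNat 0,.ofNat 0,.negSucc 3,.negSucc 7,.ofNat 8,.ofNat 12,.ofNat 0,.ofNat 0,.negSucc 3,.negSucc 3,.ofNat 0,.ofNat 4,.ofNat 4,.ofNat 8], [.ofNat 4,.ofNat 4,.negSucc 3,.ofNat 0,.ofNat 0,.ofNat 4,.ofNat 0,.ofNat 0,.negSucc 3,.negSucc 3,.negSucc 3,.negSucc 7,.negSucc 7,.negSucc 11,.ofNat 0,.ofNat 0,.ofNat 4,.ofNat 4,.negSucc 3,.negSucc 7,.ofNat 0,.negSucc 3,.ofNat 0,.ofNat 0], [.ofNat 4,.ofNat 4,.ofNat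 4,.ofNat 0,.ofNat 0,.negSucc 3,.ofNat 0,.ofNat 0,.negSucc 3,.negSucc 7,.negSucc 3,.negSucc 3,.ofNat 0,.ofNat 0,.negSucc 7,.negSucc 11,.ofNat 0,.ofNat 4,.ofNat 0,.ofNat 0,.negSucc 3,.negSucc 3,.negSucc 3,.negSucc 7]], [.ofNat 4,.negSucc 3,.ofNat 0,.ofNat 0,.ofNat 0,.ofNat 0,.ofNat 0,.ofNat 0,.ofNat 0,.ofNat 2,.ofNat 0,.ofNat 2,.ofNat 0,.ofNat 2,.ofNat 0,.ofNat 2,.negSucc 1,.ofNat 0,.ofNat 2,.ofNat 0,.ofNat 2,.ofNat 0,.ofNat 2,.ofNat 0]⟩,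
  ⟨(0, 211), [[.ofNat 0,.negSucc 7,.ofNat 0,.ofNat 0,.ofNat 0,.ofNat 0,.ofNat 0,.ofNat 0,.ofNat 4,.ofNat 8,.ofNat 4,.ofNat 8,.ofNat 4,.ofNat 8,.ofNat 4,.ofNat 8,.ofNat 4,.ofNat 4,.negSucc 3,.negSucc 3,.negSucc 3,.negSucc 3,.negSucc 3,.negSucc 3], [.negSucc 3,.ofNat 0,.ofNat 0,.negSucc 3,.ofNat 4,.ofNat 4,.ofNat 0,.ofNat 0,.ofNat 4,.ofNat 4,.ofNat 0,.ofNat 0,.negSucc 3,.negSucc 7,.ofNat 8,.ofNat 12,.ofNat 0,.ofNat 0,.ofNat 4,.ofNat 4,.ofNat 0,.negSucc 3,.negSucc 3,.negSucc 7], [.ofNat 4,.ofNat 4,.negSucc 3,.ofNat 0,.ofNat 0,.ofNat 4,.ofNat 0,.ofNat 0,.negSucc 3,.negSucc 3,.negSucc 3,.negSucc 7,.negSucc 7,.negSucc 11,.ofNat 0,.ofNat 0,.negSucc 3,.negSucc 3,.ofNat 4,.ofNat 8,.ofNat 0,.ofNat 4,.ofNat 0,.ofNat 0], [.ofNat 4,.ofNat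 4,.ofNat 4,.ofNat 0,.ofNat 0,.negSucc 3,.ofNat 0,.ofNat 0,.negSucc 3,.negSucc 7,.negSucc 3,.negSucc 3,.ofNat 0,.ofNat 0,.negSucc 7,.negSucc 11,.ofNat 0,.negSucc 3,.ofNat 0,.ofNat 0,.ofNat 4,.ofNat 4,.ofNat 4,.ofNat 8]], [.ofNat 4,.negSucc 3,.ofNat 0,.ofNat 0,.ofNat 0,.ofNat 0,.ofNat 0,.ofNat 0,.ofNat 0,.ofNat 2,.ofNat 0,.ofNat 2,.ofNat 0,.ofNat 2,.ofNat 0,.ofNat 2,.ofNat 2,.ofNat 0,.negSucc 1,.ofNat 0,.negSucc 1,.ofNat 0,.negSucc 1,.ofNat 0]⟩,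
  ⟨(0, 212), [[.ofNat 0,.negSucc 7,.ofNat 0,.ofNat 0,.ofNat 0,.ofNat 0,.ofNat 0,.ofNat 0,.negSucc 3,.negSucc 7,.negSucc 3,.negSucc 7,.ofNat 4,.ofNat 8,.ofNat 4,.ofNat 8,.negSucc 3,.negSucc 3,.negSucc 3,.negSucc 3,.negSucc 3,.negSucc 3,.ofNat 4,.ofNat 4], [.negSucc 3,.ofNat 0,.ofNat 0,.negSucc 3,.ofNat 4,.ofNat 4,.ofNat 0,.ofNat 0,.ofNat 4,.ofNat 8,.negSucc 7,.negSucc 11,.ofNat 4,.ofNat 4,.ofNat 0,.ofNat 0,.ofNat 0,.negSucc 3,.negSucc 3,.negSucc 7,.ofNat 0,.ofNat 0,.negSucc 3,.negSucc 3], [.ofNat 4,.ofNat 4,.negSucc 3,.ofNat 0,.ofNat 0,.ofNat 4,.ofNat 0,.ofNat 0,.ofNat 8,.ofNat 12,.ofNat 0,.ofNat 0,.negSucc 3,.negSucc 3,.negSucc 3,.negSucc 7,.ofNat 0,.ofNat 4,.ofNat 0,.ofNat 0,.ofNat 4,.ofNat 4,.negSucc 3,.negSucc 7], [.ofNat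 4,.ofNat 4,.ofNat 4,.ofNat 0,.ofNat 0,.negSucc 3,.ofNat 0,.ofNat 0,.ofNat 0,.ofNat 0,.ofNat 8,.ofNat 12,.negSucc 3,.negSucc 7,.negSucc 3,.negSucc 3,.ofNat 4,.ofNat 4,.ofNat 4,.ofNat 8,.ofNat 0,.ofNat 4,.ofNat 0,.ofNat 0]], [.ofNat 4,.negSucc 3,.ofNat 0,.ofNat 0,.ofNat 0,.ofNat 0,.ofNat 0,.ofNat 0,.ofNat 0,.negSucc 1,.ofNat 0,.negSucc 1,.ofNat 0,.ofNat 2,.ofNat 0,.ofNat 2,.negSucc 1,.ofNat 0,.negSucc 1,.ofNat 0,.negSucc 1,.ofNat 0,.ofNat 2,.ofNat 0]⟩,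
  ⟨(0, 213), [[.ofNat 0,.negSucc 7,.ofNat 0,.ofNat 0,.ofNat 0,.ofNat 0,.ofNat 0,.ofNat 0,.negSucc 3,.negSucc 7,.negSucc 3,.negSucc 7,.ofNat 4,.ofNat 8,.ofNat 4,.ofNat 8,.ofNat 4,.ofNat 4,.ofNat 4,.ofNat 4,.ofNat 4,.ofNat 4,.negSucc 3,.negSucc 3], [.negSucc 3,.ofNat 0,.ofNat 0,.negSucc 3,.ofNat 4,.ofNat 4,.ofNat 0,.ofNat 0,.ofNat 4,.ofNat 8,.negSucc 7,.negSucc 11,.ofNat 4,.ofNat 4,.ofNat 0,.ofNat 0,.ofNat 0,.ofNat 4,.ofNat 4,.ofNat 8,.ofNat 0,.ofNat 0,.ofNat 4,.ofNat 4], [.ofNat 4,.ofNat 4,.negSucc 3,.ofNat 0,.ofNat 0,.ofNat 4,.ofNat 0,.ofNat 0,.ofNat 8,.ofNat 12,.ofNat 0,.ofNat 0,.negSucc 3,.negSucc 3,.negSucc 3,.negSucc 7,.ofNat 0,.negSucc 3,.ofNat 0,.ofNat 0,.negSucc 3,.negSucc 3,.ofNat 4,.ofNat 8], [.ofNat 4,.ofNat 4,.ofNat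 4,.ofNat 0,.ofNat 0,.negSucc 3,.ofNat 0,.ofNat 0,.ofNat 0,.ofNat 0,.ofNat 8,.ofNat 12,.negSucc 3,.negSucc 7,.negSucc 3,.negSucc 3,.negSucc 3,.negSucc 3,.negSucc 3,.negSucc 7,.ofNat 0,.negSucc 3,.ofNat 0,.ofNat 0]], [.ofNat 4,.negSucc 3,.ofNat 0,.ofNat 0,.ofNat 0,.ofNat 0,.ofNat 0,.ofNat 0,.ofNat 0,.negSucc 1,.ofNat 0,.negSucc 1,.ofNat 0,.ofNat 2,.ofNat 0,.ofNat 2,.ofNat 2,.ofNat 0,.ofNat 2,.ofNat 0,.ofNat 2,.ofNat 0,.negSucc 1,.ofNat 0]⟩,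
  ⟨(0, 214), [[.ofNat 0,.negSucc 7,.ofNat 0,.ofNat 0,.ofNat 0,.ofNat 0,.ofNat 0,.ofNat 0,.ofNat 4,.ofNat 8,.ofNat 4,.ofNat 8,.negSucc 3,.negSucc 7,.negSucc 3,.negSucc 7,.negSucc 3,.negSucc 3,.negSucc 3,.negSucc 3,.negSucc 3,.negSucc 3,.ofNat 4,.ofNat 4], [.negSucc 3,.ofNat 0,.ofNat 0,.negSucc 3,.ofNat 4,.ofNat 4,.ofNat 0,.ofNat 0,.negSucc 3,.negSucc 7,.ofNat 8,.ofNat 12,.negSucc 3,.negSucc 3,.ofNat 0,.ofNat 0,.ofNat 0,.negSucc 3,.negSucc 3,.negSucc 7,.ofNat 0,.ofNat 0,.negSucc 3,.negSucc 3], [.ofNat 4,.ofNat 4,.negSucc 3,.ofNat 0,.ofNat 0,.ofNat 4,.ofNat 0,.ofNat 0,.negSucc 7,.negSucc 11,.ofNat 0,.ofNat 0,.ofNat 4,.ofNat 4,.ofNat 4,.ofNat 8,.ofNat 0,.ofNat 4,.ofNat 0,.ofNat 0,.ofNat 4,.ofNat 4,.negSucc 3,.negSucc 7], [.ofNat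 4,.ofNat 4,.ofNat 4,.ofNat 0,.ofNat 0,.negSucc 3,.ofNat 0,.ofNat 0,.ofNat 0,.ofNat 0,.negSucc 7,.negSucc 11,.ofNat 4,.ofNat 8,.ofNat 4,.ofNat 4,.ofNat 4,.ofNat 4,.ofNat 4,.ofNat 8,.ofNat 0,.ofNat 4,.ofNat 0,.ofNat 0]], [.ofNat 4,.negSucc 3,.ofNat 0,.ofNat 0,.ofNat 0,.ofNat 0,.ofNat 0,.ofNat 0,.ofNat 0,.ofNat 2,.ofNat 0,.ofNat 2,.ofNat 0,.negSucc 1,.ofNat 0,.negSucc 1,.negSucc 1,.ofNat 0,.negSucc 1,.ofNat 0,.negSucc 1,.ofNat 0,.ofNat 2,.ofNat 0]⟩,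
  ⟨(0, 215), [[.ofNat 0,.negSucc 7,.ofNat 0,.ofNat 0,.ofNat 0,.ofNat 0,.ofNat 0,.ofNat 0,.ofNat 4,.ofNat 8,.ofNat 4,.ofNat 8,.negSucc 3,.negSucc 7,.negSucc 3,.negSucc 7,.ofNat 4,.ofNat 4,.ofNat 4,.ofNat 4,.ofNat 4,.ofNat 4,.negSucc 3,.negSucc 3], [.negSucc 3,.ofNat 0,.ofNat 0,.negSucc 3,.ofNat 4,.ofNat 4,.ofNat 0,.ofNat 0,.negSucc 3,.negSucc 7,.ofNat 8,.ofNat 12,.negSucc 3,.negSucc 3,.ofNat 0,.ofNat 0,.ofNat 0,.ofNat 4,.ofNat 4,.ofNat 8,.ofNat 0,.ofNat 0,.ofNat 4,.ofNat 4], [.ofNat 4,.ofNat 4,.negSucc 3,.ofNat 0,.ofNat 0,.ofNat 4,.ofNat 0,.ofNat 0,.negSucc 7,.negSucc 11,.ofNat 0,.ofNat 0,.ofNat 4,.ofNat 4,.ofNat 4,.ofNat 8,.ofNat 0,.negSucc 3,.ofNat 0,.ofNat 0,.negSucc 3,.negSucc 3,.ofNat 4,.ofNat 8], [.ofNat 4,.ofNat 4,.ofNat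 4,.ofNat 0,.ofNat 0,.negSucc 3,.ofNat 0,.ofNat 0,.ofNat 0,.ofNat 0,.negSucc 7,.negSucc 11,.ofNat 4,.ofNat 8,.ofNat 4,.ofNat 4,.negSucc 3,.negSucc 3,.negSucc 3,.negSucc 7,.ofNat 0,.negSucc 3,.ofNat 0,.ofNat 0]], [.ofNat 4,.negSucc 3,.ofNat 0,.ofNat 0,.ofNat 0,.ofNat 0,.ofNat 0,.ofNat 0,.ofNat 0,.ofNat 2,.ofNat 0,.ofNat 2,.ofNat 0,.negSucc 1,.ofNat 0,.negSucc 1,.ofNat 2,.ofNat 0,.ofNat 2,.ofNat 0,.ofNat 2,.ofNat 0,.negSucc 1,.ofNat 0]⟩,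
  ⟨(0, 216), [[.ofNat 0,.negSucc 7,.ofNat 0,.ofNat 0,.ofNat 0,.ofNat 0,.ofNat 0,.ofNat 0,.negSucc 3,.negSucc 7,.ofNat 4,.ofNat 8,.negSucc 3,.negSucc 7,.ofNat 4,.ofNat 8,.negSucc 3,.negSucc 3,.ofNat 4,.ofNat 4,.negSucc 3,.negSucc 3,.negSucc 3,.negSucc 3], [.negSucc 3,.ofNat 0,.ofNat 0,.negSucc 3,.ofNat 4,.ofNat 4,.ofNat 0,.ofNat 0,.negSucc 7,.negSucc 11,.negSucc 3,.negSucc 7,.ofNat 0,.ofNat 0,.ofNat 4,.ofNat 4,.negSucc 3,.negSucc 7,.ofNat 0,.ofNat 4,.ofNat 4,.ofNat 4,.ofNat 0,.ofNat 0], [.ofNat 4,.ofNat 4,.negSucc 3,.ofNat 0,.ofNat 0,.ofNat 4,.ofNat 0,.ofNat 0,.ofNat 0,.ofNat 0,.negSucc 7,.negSucc 11,.ofNat 4,.ofNat 8,.negSucc 3,.negSucc 3,.ofNat 0,.ofNat 0,.ofNat 0,.negSucc 3,.ofNat 4,.ofNat 8,.ofNat 4,.ofNat 4], [.ofNat 4,.ofNat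 4,.ofNat 4,.ofNat 0,.ofNat 0,.negSucc 3,.ofNat 0,.ofNat 0,.ofNat 8,.ofNat 12,.ofNat 0,.ofNat 0,.ofNat 4,.ofNat 4,.negSucc 3,.negSucc 7,.ofNat 4,.ofNat 8,.negSucc 3,.negSucc 3,.ofNat 0,.ofNat 0,.ofNat 0,.ofNat 4]], [.ofNat 4,.negSucc 3,.ofNat 0,.ofNat 0,.ofNat 0,.ofNat 0,.ofNat 0,.ofNat 0,.ofNat 0,.negSucc 1,.ofNat 0,.ofNat 2,.ofNat 0,.negSucc 1,.ofNat 0,.ofNat 2,.negSucc 1,.ofNat 0,.ofNat 2,.ofNat 0,.negSucc 1,.ofNat 0,.negSucc 1,.ofNat 0]⟩,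
  ⟨(0, 217), [[.ofNat 0,.negSucc 7,.ofNat 0,.ofNat 0,.ofNat 0,.ofNat 0,.ofNat 0,.ofNat 0,.negSucc 3,.negSucc 7,.ofNat 4,.ofNat 8,.negSucc 3,.negSucc 7,.ofNat 4,.ofNat 8,.ofNat 4,.ofNat 4,.negSucc 3,.negSucc 3,.ofNat 4,.ofNat 4,.ofNat 4,.ofNat 4], [.negSucc 3,.ofNat 0,.ofNat 0,.negSucc 3,.ofNat 4,.ofNat 4,.ofNat 0,.ofNat 0,.negSucc 7,.negSucc 11,.negSucc 3,.negSucc 7,.ofNat 0,.ofNat 0,.ofNat 4,.ofNat 4,.ofNat 4,.ofNat 8,.ofNat 0,.negSucc 3,.negSucc 3,.negSucc 3,.ofNat 0,.ofNat 0], [.ofNat 4,.ofNat 4,.negSucc 3,.ofNat 0,.ofNat 0,.ofNat 4,.ofNat 0,.ofNat 0,.ofNat 0,.ofNat 0,.negSucc 7,.negSucc 11,.ofNat 4,.ofNat 8,.negSucc 3,.negSucc 3,.ofNat 0,.ofNat 0,.ofNat 0,.ofNat 4,.negSucc 3,.negSucc 7,.negSucc 3,.negSucc 3], [.ofNat 4,.ofNat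 4,.ofNat 4,.ofNat 0,.ofNat 0,.negSucc 3,.ofNat 0,.ofNat 0,.ofNat 8,.ofNat 12,.ofNat 0,.ofNat 0,.ofNat 4,.ofNat 4,.negSucc 3,.negSucc 7,.negSucc 3,.negSucc 7,.ofNat 4,.ofNat 4,.ofNat 0,.ofNat 0,.ofNat 0,.negSucc 3]], [.ofNat 4,.negSucc 3,.ofNat 0,.ofNat 0,.ofNat 0,.ofNat 0,.ofNat 0,.ofNat 0,.ofNat 0,.negSucc 1,.ofNat 0,.ofNat 2,.ofNat 0,.negSucc 1,.ofNat 0,.ofNat 2,.ofNat 2,.ofNat 0,.negSucc 1,.ofNat 0,.ofNat 2,.ofNat 0,.ofNat 2,.ofNat 0]⟩,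
  ⟨(0, 218), [[.ofNat 0,.negSucc 7,.ofNat 0,.ofNat 0,.ofNat 0,.ofNat 0,.ofNat 0,.ofNat 0,.ofNat 4,.ofNat 8,.negSucc 3,.negSucc 7,.ofNat 4,.ofNat 8,.negSucc 3,.negSucc 7,.negSucc 3,.negSucc 3,.ofNat 4,.ofNat 4,.negSucc 3,.negSucc 3,.negSucc 3,.negSucc 3], [.negSucc 3,.ofNat 0,.ofNat 0,.negSucc 3,.ofNat 4,.ofNat 4,.ofNat 0,.ofNat 0,.ofNat 8,.ofNat 12,.ofNat 4,.ofNat 8,.ofNat 0,.ofNat 0,.negSucc 3,.negSucc 3,.negSucc 3,.negSucc 7,.ofNat 0,.ofNat 4,.ofNat 4,.ofNat 4,.ofNat 0,.ofNat 0], [.ofNat 4,.ofNat 4,.negSucc 3,.ofNat 0,.ofNat 0,.ofNat 4,.ofNat 0,.ofNat 0,.ofNat 0,.ofNat 0,.ofNat 8,.ofNat 12,.negSucc 3,.negSucc 7,.ofNat 4,.ofNat 4,.ofNat 0,.ofNat 0,.ofNat 0,.negSucc 3,.ofNat 4,.ofNat 8,.ofNat 4,.ofNat 4], [.ofNat 4,.ofNat 4,.ofNat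 4,.ofNat 0,.ofNat 0,.negSucc 3,.ofNat 0,.ofNat 0,.negSucc 7,.negSucc 11,.ofNat 0,.ofNat 0,.negSucc 3,.negSucc 3,.ofNat 4,.ofNat 8,.ofNat 4,.ofNat 8,.negSucc 3,.negSucc 3,.ofNat 0,.ofNat 0,.ofNat 0,.ofNat 4]], [.ofNat 4,.negSucc 3,.ofNat 0,.ofNat 0,.ofNat 0,.ofNat 0,.ofNat 0,.ofNat 0,.ofNat 0,.ofNat 2,.ofNat 0,.negSucc 1,.ofNat 0,.ofNat 2,.ofNat 0,.negSucc 1,.negSucc 1,.ofNat 0,.ofNat 2,.ofNat 0,.negSucc 1,.ofNat 0,.negSucc 1,.ofNat 0]⟩,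
  ⟨(0, 219), [[.ofNat 0,.negSucc 7,.ofNat 0,.ofNat 0,.ofNat 0,.ofNat 0,.ofNat 0,.ofNat 0,.ofNat 4,.ofNat 8,.negSucc 3,.negSucc 7,.ofNat 4,.ofNat 8,.negSucc 3,.negSucc 7,.ofNat 4,.ofNat 4,.negSucc 3,.negSucc 3,.ofNat 4,.ofNat 4,.ofNat 4,.ofNat 4], [.negSucc 3,.ofNat 0,.ofNat 0,.negSucc 3,.ofNat 4,.ofNat 4,.ofNat 0,.ofNat 0,.ofNat 8,.ofNat 12,.ofNat 4,.ofNat 8,.ofNat 0,.ofNat 0,.negSucc 3,.negSucc 3,.ofNat 4,.ofNat 8,.ofNat 0,.negSucc 3,.negSucc 3,.negSucc 3,.ofNat 0,.ofNat 0], [.ofNat 4,.ofNat 4,.negSucc 3,.ofNat 0,.ofNat 0,.ofNat 4,.ofNat 0,.ofNat 0,.ofNat 0,.ofNat 0,.ofNat 8,.ofNat 12,.negSucc 3,.negSucc 7,.ofNat 4,.ofNat 4,.ofNat 0,.ofNat 0,.ofNat 0,.ofNat 4,.negSucc 3,.negSucc 7,.negSucc 3,.negSucc 3], [.ofNat 4,.ofNat 4,.ofNat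 4,.ofNat 0,.ofNat 0,.negSucc 3,.ofNat 0,.ofNat 0,.negSucc 7,.negSucc 11,.ofNat 0,.ofNat 0,.negSucc 3,.negSucc 3,.ofNat 4,.ofNat 8,.negSucc 3,.negSucc 7,.ofNat 4,.ofNat 4,.ofNat 0,.ofNat 0,.ofNat 0,.negSucc 3]], [.ofNat 4,.negSucc 3,.ofNat 0,.ofNat 0,.ofNat 0,.ofNat 0,.ofNat 0,.ofNat 0,.ofNat 0,.ofNat 2,.ofNat 0,.negSucc 1,.ofNat 0,.ofNat 2,.ofNat 0,.negSucc 1,.ofNat 2,.ofNat 0,.negSucc 1,.ofNat 0,.ofNat 2,.ofNat 0,.ofNat 2,.ofNat 0]⟩,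
  ⟨(0, 220), [[.ofNat 0,.negSucc 7,.ofNat 0,.ofNat 0,.ofNat 0,.ofNat 0,.ofNat 0,.ofNat 0,.negSucc 3,.negSucc 7,.ofNat 4,.ofNat 8,.ofNat 4,.ofNat 8,.negSucc 3,.negSucc 7,.negSucc 3,.negSucc 3,.negSucc 3,.negSucc 3,.ofNat 4,.ofNat 4,.negSucc 3,.negSucc 3], [.negSucc 3,.ofNat 0,.ofNat 0,.negSucc 3,.ofNat 4,.ofNat 4,.ofNat 0,.ofNat 0,.ofNat 0,.ofNat 0,.ofNat 4,.ofNat 4,.ofNat 8,.ofNat 12,.ofNat 4,.ofNat 8,.ofNat 4,.ofNat 4,.ofNat 0,.ofNat 0,.ofNat 4,.ofNat 8,.ofNat 0,.negSucc 3], [.ofNat 4,.ofNat 4,.negSucc 3,.ofNat 0,.ofNat 0,.ofNat 4,.ofNat 0,.ofNat 0,.ofNat 4,.ofNat 8,.negSucc 3,.negSucc 3,.ofNat 0,.ofNat 0,.ofNat 8,.ofNat 12,.ofNat 4,.ofNat 8,.ofNat 4,.ofNat 4,.ofNat 0,.ofNat 0,.ofNat 0,.ofNat 4], [.ofNat 4,.ofNat 4,.ofNat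 4,.ofNat 0,.ofNat 0,.negSucc 3,.ofNat 0,.ofNat 0,.ofNat 4,.ofNat 4,.negSucc 3,.negSucc 7,.negSucc 7,.negSucc 11,.ofNat 0,.ofNat 0,.ofNat 0,.ofNat 0,.ofNat 0,.ofNat 4,.negSucc 3,.negSucc 7,.ofNat 4,.ofNat 4]], [.ofNat 4,.negSucc 3,.ofNat 0,.ofNat 0,.ofNat 0,.ofNat 0,.ofNat 0,.ofNat 0,.ofNat 0,.negSucc 1,.ofNat 0,.ofNat 2,.ofNat 0,.ofNat 2,.ofNat 0,.negSucc 1,.negSucc 1,.ofNat 0,.negSucc 1,.ofNat 0,.ofNat 2,.ofNat 0,.negSucc 1,.ofNat 0]⟩,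
  ⟨(0, 221), [[.ofNat 0,.negSucc 7,.ofNat 0,.ofNat 0,.ofNat 0,.ofNat 0,.ofNat 0,.ofNat 0,.negSucc 3,.negSucc 7,.ofNat 4,.ofNat 8,.ofNat 4,.ofNat 8,.negSucc 3,.negSucc 7,.ofNat 4,.ofNat 4,.ofNat 4,.ofNat 4,.negSucc 3,.negSucc 3,.ofNat 4,.ofNat 4], [.negSucc 3,.ofNat 0,.ofNat 0,.negSucc 3,.ofNat 4,.ofNat 4,.ofNat 0,.ofNat 0,.ofNat 0,.ofNat 0,.ofNat 4,.ofNat 4,.ofNat 8,.ofNat 12,.ofNat 4,.ofNat 8,.negSucc 3,.negSucc 3,.ofNat 0,.ofNat 0,.negSucc 3,.negSucc 7,.ofNat 0,.ofNat 4], [.ofNat 4,.ofNat 4,.negSucc 3,.ofNat 0,.ofNat 0,.ofNat 4,.ofNat 0,.ofNat 0,.ofNat 4,.ofNat 8,.negSucc 3,.negSucc 3,.ofNat 0,.ofNat 0,.ofNat 8,.ofNat 12,.negSucc 3,.negSucc 7,.negSucc 3,.negSucc 3,.ofNat 0,.ofNat 0,.ofNat 0,.negSucc 3], [.ofNat 4,.ofNat 4,.ofNat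 4,.ofNat 0,.ofNat 0,.negSucc 3,.ofNat 0,.ofNat 0,.ofNat 4,.ofNat 4,.negSucc 3,.negSucc 7,.negSucc 7,.negSucc 11,.ofNat 0,.ofNat 0,.ofNat 0,.ofNat 0,.ofNat 0,.negSucc 3,.ofNat 4,.ofNat 8,.negSucc 3,.negSucc 3]], [.ofNat 4,.negSucc 3,.ofNat 0,.ofNat 0,.ofNat 0,.ofNat 0,.ofNat 0,.ofNat 0,.ofNat 0,.negSucc 1,.ofNat 0,.ofNat 2,.ofNat 0,.ofNat 2,.ofNat 0,.negSucc 1,.ofNat 2,.ofNat 0,.ofNat 2,.ofNat 0,.negSucc 1,.ofNat 0,.ofNat 2,.ofNat 0]⟩,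
  ⟨(0, 222), [[.ofNat 0,.negSucc 7,.ofNat 0,.ofNat 0,.ofNat 0,.ofNat 0,.ofNat 0,.ofNat 0,.ofNat 4,.ofNat 8,.negSucc 3,.negSucc 7,.negSucc 3,.negSucc 7,.ofNat 4,.ofNat 8,.negSucc 3,.negSucc 3,.negSucc 3,.negSucc 3,.ofNat 4,.ofNat 4,.negSucc 3,.negSucc 3], [.negSucc 3,.ofNat 0,.ofNat 0,.negSucc 3,.ofNat 4,.ofNat 4,.ofNat 0,.ofNat 0,.ofNat 0,.ofNat 0,.negSucc 3,.negSucc 3,.negSucc 7,.negSucc 11,.negSucc 3,.negSucc 7,.ofNat 4,.ofNat 4,.ofNat 0,.ofNat 0,.ofNat 4,.ofNat 8,.ofNat 0,.negSucc 3], [.ofNat 4,.ofNat 4,.negSucc 3,.ofNat 0,.ofNat 0,.ofNat 4,.ofNat 0,.ofNat 0,.negSucc 3,.negSucc 7,.ofNat 4,.ofNat 4,.ofNat 0,.ofNat 0,.negSucc 7,.negSucc 11,.ofNat 4,.ofNat 8,.ofNat 4,.ofNat 4,.ofNat 0,.ofNat 0,.ofNat 0,.ofNat 4], [.ofNat 4,.ofNat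 4,.ofNat 4,.ofNat 0,.ofNat 0,.negSucc 3,.ofNat 0,.ofNat 0,.negSucc 3,.negSucc 3,.ofNat 4,.ofNat 8,.ofNat 8,.ofNat 12,.ofNat 0,.ofNat 0,.ofNat 0,.ofNat 0,.ofNat 0,.ofNat 4,.negSucc 3,.negSucc 7,.ofNat 4,.ofNat 4]], [.ofNat 4,.negSucc 3,.ofNat 0,.ofNat 0,.ofNat 0,.ofNat 0,.ofNat 0,.ofNat 0,.ofNat 0,.ofNat 2,.ofNat 0,.negSucc 1,.ofNat 0,.negSucc 1,.ofNat 0,.ofNat 2,.negSucc 1,.ofNat 0,.negSucc 1,.ofNat 0,.ofNat 2,.ofNat 0,.negSucc 1,.ofNat 0]⟩,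
  ⟨(0, 223), [[.ofNat 0,.negSucc 7,.ofNat 0,.ofNat 0,.ofNat 0,.ofNat 0,.ofNat 0,.ofNat 0,.ofNat 4,.ofNat 8,.negSucc 3,.negSucc 7,.negSucc 3,.negSucc 7,.ofNat 4,.ofNat 8,.ofNat 4,.ofNat 4,.ofNat 4,.ofNat 4,.negSucc 3,.negSucc 3,.ofNat 4,.ofNat 4], [.negSucc 3,.ofNat 0,.ofNat 0,.negSucc 3,.ofNat 4,.ofNat 4,.ofNat 0,.ofNat 0,.ofNat 0,.ofNat 0,.negSucc 3,.negSucc 3,.negSucc 7,.negSucc 11,.negSucc 3,.negSucc 7,.negSucc 3,.negSucc 3,.ofNat 0,.ofNat 0,.negSucc 3,.negSucc 7,.ofNat 0,.ofNat 4], [.ofNat 4,.ofNat 4,.negSucc 3,.ofNat 0,.ofNat 0,.ofNat 4,.ofNat 0,.ofNat 0,.negSucc 3,.negSucc 7,.ofNat 4,.ofNat 4,.ofNat 0,.ofNat 0,.negSucc 7,.negSucc 11,.negSucc 3,.negSucc 7,.negSucc 3,.negSucc 3,.ofNat 0,.ofNat 0,.ofNat 0,.negSucc 3], [.ofNat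 4,.ofNat 4,.ofNat 4,.ofNat 0,.ofNat 0,.negSucc 3,.ofNat 0,.ofNat 0,.negSucc 3,.negSucc 3,.ofNat 4,.ofNat 8,.ofNat 8,.ofNat 12,.ofNat 0,.ofNat 0,.ofNat 0,.ofNat 0,.ofNat 0,.negSucc 3,.ofNat 4,.ofNat 8,.negSucc 3,.negSucc 3]], [.ofNat 4,.negSucc 3,.ofNat 0,.ofNat 0,.ofNat 0,.ofNat 0,.ofNat 0,.ofNat 0,.ofNat 0,.ofNat 2,.ofNat 0,.negSucc 1,.ofNat 0,.negSucc 1,.ofNat 0,.ofNat 2,.ofNat 2,.ofNat 0,.ofNat 2,.ofNat 0,.negSucc 1,.ofNat 0,.ofNat 2,.ofNat 0]⟩]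

end Cfsg.Agent.H56.J2Leech
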